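import Cfsg.Agent.ThreeTransposition.M24Count.Involutions

/-!
The members commuting with the product of four commuting members of a class of type M(24): the four, their 180 common
neighbours, and 320 more, each joined to all four in a diagram of type D4.
-/

set_option autoImplicit false
set_option linter.unusedSectionVars false
set_option linter.style.haveILetI false

namespace Cfsg.Lib.ThreeTr

open Cfsg Subgroup

attribute [local instance] _root_.Classical.propDecidable

universe u

variable {G : Type u} [Group G] {D : Set G}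

/-- The fourth point of a star: three commuting members and one joined to all of them determine it. -/
theorem star_point (hcls : IsThreeTranspositionClass D) {a b c u : G} (hl : CList D [a, b, c]) (hu : u ∈ D)
    (ha : ¬ Commute u a) (hb : ¬ Commute u b) (hc : ¬ Commute u c) :
    let P := a * b * c
    u * P * u * P * u ∈ D ∧ (∀ w ∈ [a, b, c], u * P * u * P * u ∈ perp D w) ∧
      ¬ Commute u (u * P * u * P * u) ∧ Commute u (P * (u * P * u * P * u)) := by
  intro P
  have hE := hcls.1
  have hbr : ∀ {w : G}, w ∈ D → ¬ Commute u w → u * w * u = w * u * w := fun {w} hw hn => by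
    have uu := sq_eq_one hE hu
    have ww := sq_eq_one hE hw
    rcases hE.2 u hu w hw with e | e
    · exfalso
      refine hn (show u * w = w * u from ?_)
      have hi : (u * w)⁻¹ = u * w := inv_eq_of_mul_eq_one_right (by rw [← sq]; exact e)
      rwa [mul_inv_rev, inv_eq hE hw, inv_eq hE hu, eq_comm] at hi
    · refine eq_of_mul_inv_eq_one ?_
      rw [mul_inv_rev, mul_inv_rev, inv_eq hE hw, inv_eq hE hu]
      simpa [pow_succ, mul_assoc] using e
  have uu := sq_eq_one hE hu
  have haD := hl.mem a (by simp)
  have hbD := hl.mem b (by simp)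
  have hcD := hl.mem c (by simp)
  have cab : Commute a b := hl.comm a (by simp) b (by simp)
  have cac : Commute a c := hl.comm a (by simp) c (by simp)
  have cbc : Commute b c := hl.comm b (by simp) c (by simp)
  have hPP : P * P = 1 := by simpa [P, mul_assoc] using hl.mul_self hE
  have huP : (u * P)⁻¹ = P * u := by rw [mul_inv_rev, inv_eq_of_mul_eq_one_right hPP, inv_eq hE hu]
  have heD : u * P * u * P * u ∈ D := by
    have := conj_mem hcls (u * P) hu
    rwa [huP, ← mul_assoc] at this
  have key : ∀ x v v' : G, x ∈ D → v ∈ D → v' ∈ D → ¬ Commute u x → ¬ Commute u v → ¬ Commute u v' →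
      Commute x v → Commute x v' → Commute v v' → P = x * v * v' → v ≠ v' →
      Commute x (u * P * u * P * u) ∧ u * P * u * P * u ≠ x := by
    intro x v v' hx hv hv' hxu hvu hvu' c1 c2 c3 hP hne
    set y := v * v' * u * v' * v with hy
    have xx := sq_eq_one hE hx
    have hW : (P * u) * x * (u * P) = y := by
      calc P * u * x * (u * P) = P * (u * x * u) * P := by simp only [mul_assoc]
        _ = x * v * v' * (x * u * x) * (x * v * v') := by rw [hbr hx hxu, hP]
        _ = (x * (v * v')) * (x * u * x) * (x * (v * v')) := by simp only [mul_assoc]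
        _ = ((v * v') * x) * (x * u * x) * (x * (v' * v)) := by
          nth_rw 1 [(c1.mul_right c2).eq]
          nth_rw 2 [c3.eq]
        _ = (v * v') * (x * x) * u * (x * x) * (v' * v) := by simp only [mul_assoc]
        _ = y := by rw [xx, mul_one, mul_one, hy]; simp only [mul_assoc]
    have e1 : u * v * u = v * u * v := hbr hv hvu
    have e2 : u * v' * u = v' * u * v' := hbr hv' hvu'
    have vv := sq_eq_one hE hv
    have hy' : y = v * u * v' * u * v := by
      calc y = v * (v' * u * v') * v := by rw [hy]; simp only [mul_assoc]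
        _ = _ := by rw [← e2]; simp only [mul_assoc]
    have hcy : Commute u y := by
      have : u * y * u = y := by
        rw [hy']
        calc u * (v * u * v' * u * v) * u = (u * v * u) * v' * (u * v * u) := by simp only [mul_assoc]
          _ = v * u * (v * v' * v) * u * v := by rw [e1]; simp only [mul_assoc]
          _ = v * u * v' * u * v := by rw [c3.eq, mul_assoc v' v v, vv, mul_one]
      calc u * y = u * y * (u * u) := by rw [uu, mul_one]
        _ = _ := by rw [← mul_assoc, this]
    have hback : ∀ w : G, (u * P) * ((P * u) * w * (u * P)) * (P * u) = w := fun w => by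
      calc (u * P) * ((P * u) * w * (u * P)) * (P * u) = u * (P * P) * u * w * (u * (P * P) * u) := by
            simp only [mul_assoc]
        _ = w := by rw [hPP, mul_one, uu, one_mul, mul_one]
    have hx' : (u * P) * y * (P * u) = x := by rw [← hW, hback]
    have he' : (u * P) * u * (P * u) = u * P * u * P * u := by simp only [mul_assoc]
    refine ⟨?_, fun e => ?_⟩
    · rw [← hx', ← he', ← huP]
      exact (conj_commute_iff (u * P) y u).2 hcy.symm
    · have huy : u = y := mul_left_cancel (mul_right_cancel ((he'.trans e).trans hx'.symm))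
      rw [hy'] at huy
      have h1 : u * v' * u = v * u * v := by
        calc u * v' * u = v * (v * u * v' * u * v) * v := by
              rw [show v * (v * u * v' * u * v) * v = v * v * (u * v' * u) * (v * v) by simp only [mul_assoc], vv,
                one_mul, mul_one]
          _ = v * u * v := by rw [← huy]
      rw [← e1] at h1
      exact hne (mul_left_cancel (mul_right_cancel h1)).symm
  have hn := hl.nodup
  simp only [List.nodup_cons, List.mem_cons, List.not_mem_nil, or_false, not_or, List.nodup_nil, not_false_eq_true,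
    and_true] at hn
  obtain ⟨ka, ka'⟩ := key a b c haD hbD hcD ha hb hc cab cac cbc rfl hn.2
  obtain ⟨kb, kb'⟩ := key b a c hbD haD hcD hb ha hc cab.symm cbc cac (by show a * b * c = b * a * c; rw [cab.eq]) hn.1.2
  obtain ⟨kc, kc'⟩ := key c a b hcD haD hbD hc ha hb cac.symm cbc.symm cab
    (by show a * b * c = c * a * b; rw [mul_assoc c a b, ((cac.mul_left cbc) : Commute (a * b) c).eq]) hn.1.1
  set e := u * P * u * P * u with he
  have hperp : ∀ w ∈ [a, b, c], e ∈ perp D w := by
    intro w hw
    simp only [List.mem_cons, List.not_mem_nil, or_false] at hw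
    rcases hw with rfl | rfl | rfl
    exacts [⟨heD, ka', ka⟩, ⟨heD, kb', kb⟩, ⟨heD, kc', kc⟩]
  have hPe : Commute P e := (ka.mul_left kb).mul_left kc
  have huPe : Commute u (P * e) := by
    show u * (P * e) = P * e * u
    calc u * (P * e) = u * (e * P) := by rw [hPe.eq]
      _ = u * u * (P * u * P * u * P) := by rw [he]; simp only [mul_assoc]
      _ = P * u * P * u * P * (u * u) := by rw [uu, one_mul, mul_one]
      _ = P * e * u := by rw [he]; simp only [mul_assoc]
  refine ⟨heD, hperp, fun hc' => ?_, huPe⟩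
  have hP : Commute u P := by
    have := huPe.mul_right hc'
    rwa [mul_assoc, sq_eq_one hE heD, mul_one] at this
  have e1 : e = u := by rw [he, hP.eq, mul_assoc P u u, uu, mul_one, hPP, one_mul]
  exact ha (e1 ▸ ka).symm

variable [Finite G]

/-- The members commuting with all of a commuting list, split off the list. -/
theorem ncard_commute_list {l : List G} (hl : CList D l) :
    {u | u ∈ D ∧ ∀ w ∈ l, Commute u w}.ncard = l.length + {u | u ∈ D ∧ ∀ w ∈ l, u ∈ perp D w}.ncard := by
  have e : {u | u ∈ D ∧ ∀ w ∈ l, Commute u w} = ↑l.toFinset ∪ {u | u ∈ D ∧ ∀ w ∈ l, u ∈ perp D w} := by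
    ext u
    simp only [Set.mem_setOf_eq, Set.mem_union, Finset.mem_coe, List.mem_toFinset]
    constructor
    · rintro ⟨hu, hc⟩
      by_cases hul : u ∈ l
      · exact Or.inl hul
      · exact Or.inr ⟨hu, fun w hw => ⟨hu, fun e => hul (e ▸ hw), (hc w hw).symm⟩⟩
    · rintro (hul | ⟨hu, hp⟩)
      · exact ⟨hl.mem u hul, fun w hw => hl.comm u hul w hw⟩
      · exact ⟨hu, fun w hw => (hp w hw).2.2.symm⟩
  rw [e, Set.ncard_union_eq ?_ (Set.toFinite _) (Set.toFinite _), Set.ncard_coe_finset,
    List.toFinset_card_of_nodup hl.nodup]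
  refine Set.disjoint_left.2 fun u hu hu' => ?_
  have hu : u ∈ l := List.mem_toFinset.1 (Finset.mem_coe.1 hu)
  exact (hu'.2 u hu).2.1 rfl

namespace M24

variable (h : M24 D)
include h

theorem four_common {a b c e : G} (hl : CList D [a, b, c, e]) :
    (perp D a ∩ perp D b ∩ perp D c ∩ perp D e).ncard = 180 := by
  obtain ⟨d, hd, hQ, -⟩ := h.descended
  have hcls := h.cls
  have hT := h.twin
  obtain ⟨g, hg⟩ := exists_conj hcls (hl.mem a (by simp)) hd
  have hl' := hl.map_conj hcls g
  simp only [List.map_cons, List.map_nil, hg] at hl'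
  obtain ⟨hbce, hp⟩ := hl'.of_cons
  obtain ⟨hce, hpb⟩ := hbce.of_cons
  have himg : (fun x => g * x * g⁻¹) '' (perp D a ∩ perp D b ∩ perp D c ∩ perp D e) =
      perp D d ∩ perp D (g * b * g⁻¹) ∩ perp D (g * c * g⁻¹) ∩ perp D (g * e * g⁻¹) := by
    have hinj : Function.Injective fun x => g * x * g⁻¹ := (MulAut.conj g).injective
    rw [Set.image_inter hinj, Set.image_inter hinj, Set.image_inter hinj, conj_image_perp hcls, conj_image_perp hcls,
      conj_image_perp hcls, conj_image_perp hcls, hg]
  rw [← Set.ncard_image_of_injective _ (show Function.Injective fun x => g * x * g⁻¹ from (MulAut.conj g).injective),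
    himg]
  generalize g * b * g⁻¹ = x, g * c * g⁻¹ = y, g * e * g⁻¹ = z at hp hpb hce hbce
  have hx := hp x (by simp)
  have hy := hp y (by simp)
  have hz := hp z (by simp)
  have hxy := hpb y (by simp)
  have hxz := hpb z (by simp)
  have hyz := hce.of_cons.2 z (by simp)
  set X : ↥(closure (perp D d)) := ⟨x, subset_closure hx⟩
  set Y : ↥(closure (perp D d)) := ⟨y, subset_closure hy⟩
  set Z : ↥(closure (perp D d)) := ⟨z, subset_closure hz⟩
  have hY : (Y : ↥(closure (perp D d)) ⧸ center ↥(closure (perp D d))) ∈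
      perp (descSet D d) (X : ↥(closure (perp D d)) ⧸ center ↥(closure (perp D d))) := by
    rw [perp_descImg hcls hT hd (x := X) hx]; exact ⟨Y, ⟨hy, hxy⟩, rfl⟩
  have hZ : (Z : ↥(closure (perp D d)) ⧸ center ↥(closure (perp D d))) ∈
      perp (descSet D d) (X : ↥(closure (perp D d)) ⧸ center ↥(closure (perp D d))) ∩
        perp (descSet D d) (Y : ↥(closure (perp D d)) ⧸ center ↥(closure (perp D d))) := by
    rw [perp_descImg hcls hT hd (x := X) hx, perp_descImg hcls hT hd (x := Y) hy]
    exact ⟨⟨Z, ⟨hz, hxz⟩, rfl⟩, ⟨Z, ⟨hz, hyz⟩, rfl⟩⟩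
  have h3 := hQ.solid.full.tower.tri_adj _ ⟨X, hx, rfl⟩ _ hY _ hZ
  rw [perp_descImg hcls hT hd (x := X) hx, perp_descImg hcls hT hd (x := Y) hy, perp_descImg hcls hT hd (x := Z) hz,
    ← descImg_inter hcls hT hd Set.inter_subset_left Set.inter_subset_left,
    ← descImg_inter hcls hT hd (Set.inter_subset_left.trans Set.inter_subset_left) Set.inter_subset_left,
    ncard_descImg hcls hT hd ((Set.inter_subset_left.trans Set.inter_subset_left).trans Set.inter_subset_left),
    ← Set.inter_inter_distrib_left, ← Set.inter_inter_distrib_left, ← Set.inter_assoc, ← Set.inter_assoc] at h3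
  exact h3

theorem three_joined {a b c : G} (hl : CList D [a, b, c]) :
    {u | u ∈ D ∧ ¬ Commute u a ∧ ¬ Commute u b ∧ ¬ Commute u c}.ncard = 221760 := by
  have T := h.solid.full.tower
  let C : G → Set G := fun w => {u | u ∈ D ∧ Commute u w}
  have hab : CList D [a, b] := ⟨by simpa using (hl.nodup.sublist (by simp : [a, b].Sublist [a, b, c])),
    fun w hw => hl.mem w (by simp at hw ⊢; tauto),
    fun w hw v hv => hl.comm w (by simp at hw ⊢; tauto) v (by simp at hv ⊢; tauto)⟩
  have hac : CList D [a, c] := ⟨by simpa using (hl.nodup.sublist (by simp : [a, c].Sublist [a, b, c])),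
    fun w hw => hl.mem w (by simp at hw ⊢; tauto),
    fun w hw v hv => hl.comm w (by simp at hw ⊢; tauto) v (by simp at hv ⊢; tauto)⟩
  have hbc : CList D [b, c] := hl.of_cons.1
  have c1 : ∀ w ∈ D, (C w).ncard = 31672 := fun w hw => by
    have := ncard_commute_list (D := D) (l := [w]) ⟨List.nodup_singleton w, by simp [hw], by simp⟩
    rw [show {u | u ∈ D ∧ ∀ v ∈ [w], Commute u v} = C w by ext; simp [C],
      show {u | u ∈ D ∧ ∀ v ∈ [w], u ∈ perp D v} = perp D w by ext; simp [perp], T.deg w hw] at this
    simpa using this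
  have c2 : ∀ v w : G, CList D [v, w] → (C v ∩ C w).ncard = 3512 := fun v w hvw => by
    have := ncard_commute_list hvw
    rw [show {u | u ∈ D ∧ ∀ x ∈ [v, w], Commute u x} = C v ∩ C w by ext; simp [C],
      show {u | u ∈ D ∧ ∀ x ∈ [v, w], u ∈ perp D x} = perp D v ∩ perp D w by ext; simp [perp],
      T.adj v (hvw.mem v (by simp)) w (hvw.of_cons.2 w (by simp))] at this
    simpa using this
  have c3 : (C a ∩ C b ∩ C c).ncard = 696 := by
    have := ncard_commute_list hl
    rw [show {u | u ∈ D ∧ ∀ x ∈ [a, b, c], Commute u x} = C a ∩ C b ∩ C c by ext; simp [C]; tauto,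
      show {u | u ∈ D ∧ ∀ x ∈ [a, b, c], u ∈ perp D x} = perp D a ∩ perp D b ∩ perp D c by ext; simp [perp]; tauto,
      T.tri_adj a (hl.mem a (by simp)) b (hl.of_cons.2 b (by simp)) c
        ⟨hl.of_cons.2 c (by simp), hbc.of_cons.2 c (by simp)⟩] at this
    simpa using this
  have e : {u | u ∈ D ∧ ¬ Commute u a ∧ ¬ Commute u b ∧ ¬ Commute u c} = D \ (C a ∪ C b ∪ C c) := by
    ext u; simp [C]; tauto
  have u1 := Set.ncard_union_add_ncard_inter (C a) (C b)
  have u2 := Set.ncard_union_add_ncard_inter (C a ∪ C b) (C c)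
  have u3 := Set.ncard_union_add_ncard_inter (C a ∩ C c) (C b ∩ C c)
  rw [← Set.union_inter_distrib_right, ← Set.inter_inter_distrib_right, c3, c2 a c hac, c2 b c hbc] at u3
  rw [c2 a b hab, c1 a (hl.mem a (by simp)), c1 b (hl.mem b (by simp))] at u1
  rw [c1 c (hl.mem c (by simp))] at u2
  have hsub : C a ∪ C b ∪ C c ⊆ D := by rintro u ((hu | hu) | hu) <;> exact hu.1
  rw [e, Set.ncard_sdiff hsub, h.solid.full.card]
  omega

/-- A product of four commuting members commutes with 504 members. -/
theorem four_fixed_count {a b c e : G} (hl : CList D [a, b, c, e]) :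
    {u | u ∈ D ∧ Commute u (a * b * c * e)}.ncard = 504 := by
  have hcls := h.cls
  have hE := hcls.1
  have h3 : CList D [a, b, c] := ⟨hl.nodup.sublist (by simp), fun w hw => hl.mem w (by simp at hw ⊢; tauto),
    fun w hw v hv => hl.comm w (by simp at hw ⊢; tauto) v (by simp at hv ⊢; tauto)⟩
  set P := a * b * c with hP
  set J := {u | u ∈ D ∧ ¬ Commute u a ∧ ¬ Commute u b ∧ ¬ Commute u c} with hJ
  set T := perp D a ∩ perp D b ∩ perp D c with hT
  have haD := h3.mem a (by simp)
  have hb := h3.of_cons.2 b (by simp)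
  have hc := h3.of_cons.2 c (by simp)
  have hbc := h3.of_cons.1.of_cons.2 c (by simp)
  have hTc : T.ncard = 693 := h.solid.full.tower.tri_adj a haD b hb c ⟨hc, hbc⟩
  let f : G → G := fun u => u * P * u * P * u
  have hfT : ∀ u ∈ J, f u ∈ T := fun u hu => by
    obtain ⟨-, hp, -⟩ := star_point hcls h3 hu.1 hu.2.1 hu.2.2.1 hu.2.2.2
    exact ⟨⟨hp a (by simp), hp b (by simp)⟩, hp c (by simp)⟩
  have hmk : ∀ {x}, x ∈ T → CList D [a, b, c, x] := fun {x} hx => by
    have t0 : CList D [x] := ⟨List.nodup_singleton x, by simp [hx.1.1.1], by simp⟩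
    exact ((t0.cons hc.1 (by simp [hx.2])).cons hb.1 (by simp [hbc, hx.1.2])).cons haD (by simp [hb, hc, hx.1.1])
  have heT : e ∈ T := ⟨⟨hl.of_cons.2 e (by simp), hl.of_cons.1.of_cons.2 e (by simp)⟩,
    hl.of_cons.1.of_cons.1.of_cons.2 e (by simp)⟩
  have hfib : ∀ x ∈ T, {u | u ∈ J ∧ f u = x}.ncard = {u | u ∈ J ∧ f u = e}.ncard := by
    intro x hx
    obtain ⟨g, hg⟩ := h.listTrans _ _ hl (hmk hx) rfl le_rfl
    simp only [List.map_cons, List.map_nil, List.cons.injEq, and_true] at hg
    obtain ⟨ga, gb, gc, gx⟩ := hg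
    rw [← Set.ncard_image_of_injective {u | u ∈ J ∧ f u = e}
      (show Function.Injective fun u => g * u * g⁻¹ from (MulAut.conj g).injective)]
    congr 1
    have hfg : ∀ u, f (g * u * g⁻¹) = g * f u * g⁻¹ := fun u => by
      have hPg : g * P * g⁻¹ = P := by
        conv_rhs => rw [hP, ga, gb, gc]
        rw [hP]; group
      show g * u * g⁻¹ * P * (g * u * g⁻¹) * P * (g * u * g⁻¹) = _
      calc g * u * g⁻¹ * P * (g * u * g⁻¹) * P * (g * u * g⁻¹) =
          g * u * g⁻¹ * (g * P * g⁻¹) * (g * u * g⁻¹) * (g * P * g⁻¹) * (g * u * g⁻¹) := by rw [hPg]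
        _ = _ := by simp only [f]; group
    have hgJ : ∀ u, g * u * g⁻¹ ∈ J ↔ u ∈ J := fun u => by
      have hD : g * u * g⁻¹ ∈ D ↔ u ∈ D := by
        refine ⟨fun hu => ?_, conj_mem hcls g⟩
        have := conj_mem hcls g⁻¹ hu
        rwa [show g⁻¹ * (g * u * g⁻¹) * g⁻¹⁻¹ = u by group] at this
      constructor
      · rintro ⟨h0, h1, h2, h3⟩
        rw [ga, conj_commute_iff] at h1
        rw [gb, conj_commute_iff] at h2
        rw [gc, conj_commute_iff] at h3
        exact ⟨hD.1 h0, h1, h2, h3⟩
      · rintro ⟨h0, h1, h2, h3⟩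
        refine ⟨hD.2 h0, ?_, ?_, ?_⟩
        · rw [ga, conj_commute_iff]; exact h1
        · rw [gb, conj_commute_iff]; exact h2
        · rw [gc, conj_commute_iff]; exact h3
    ext v
    constructor
    · rintro ⟨hv, hfv⟩
      have ev : g * (g⁻¹ * v * g) * g⁻¹ = v := by group
      refine ⟨g⁻¹ * v * g, ⟨(hgJ _).1 (by rwa [ev]), ?_⟩, ev⟩
      have := hfg (g⁻¹ * v * g)
      rw [ev, hfv, gx] at this
      exact mul_left_cancel (mul_right_cancel this.symm)
    · rintro ⟨u, ⟨hu, hfu⟩, rfl⟩
      exact ⟨(hgJ u).2 hu, by rw [hfg, hfu, ← gx]⟩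
  have hgood : {u | u ∈ J ∧ f u = e}.ncard = 320 := by
    have hJc : J.ncard = 221760 := h.three_joined h3
    have hsum : J.ncard = T.ncard * {u | u ∈ J ∧ f u = e}.ncard := by
      rw [Set.ncard_eq_toFinset_card J, Set.ncard_eq_toFinset_card T,
        Finset.card_eq_sum_card_fiberwise (t := (Set.toFinite T).toFinset) (f := f) (fun u hu => by
          simpa using hfT u (by simpa using hu))]
      refine Finset.sum_const_nat fun x hx => ?_
      rw [← hfib x (by simpa using hx), Set.ncard_eq_toFinset_card _ (Set.toFinite _)]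
      congr 1
      ext u; simp
    rw [hJc, hTc] at hsum
    omega
  have hsplit : {u | u ∈ D ∧ Commute u (P * e)} =
      {u | u ∈ D ∧ ∀ w ∈ [a, b, c, e], Commute u w} ∪ {u | u ∈ J ∧ f u = e} := by
    ext u
    constructor
    · rintro ⟨hu, hut⟩
      by_cases hall : ∀ w ∈ [a, b, c, e], Commute u w
      · exact Or.inl ⟨hu, hall⟩
      refine Or.inr ?_
      have hn : ∀ {x y z w : G}, CList D [x, y, z, w] → x * y * z * w = P * e → Commute u w →
          Commute u x ∧ Commute u y ∧ Commute u z := by
        intro x y z w hq hqe hw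
        have hxyz : Commute u (x * y * z) := by
          have := hut.mul_right hw
          rwa [← hqe, mul_assoc _ w w, sq_eq_one hE (hq.mem w (by simp)), mul_one] at this
        have hn' := hq.nodup
        simp only [List.nodup_cons, List.mem_cons, List.not_mem_nil, or_false, not_or] at hn'
        exact (commute_triple_iff hE (hq.mem x (by simp)) (hq.mem y (by simp)) (hq.mem z (by simp)) hu hn'.1.1
          hn'.1.2.1 hn'.2.1.1 (hq.comm x (by simp) y (by simp)) (hq.comm x (by simp) z (by simp))
          (hq.comm y (by simp) z (by simp))).1 hxyz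
      have cc : ∀ x ∈ [a, b, c, e], ∀ y ∈ [a, b, c, e], Commute x y := hl.comm
      have cae : Commute a e := cc a (by simp) e (by simp)
      have cbe : Commute b e := cc b (by simp) e (by simp)
      have cce : Commute c e := cc c (by simp) e (by simp)
      have cab : Commute a b := cc a (by simp) b (by simp)
      have cac : Commute a c := cc a (by simp) c (by simp)
      have cbc : Commute b c := cc b (by simp) c (by simp)
      have perm : ∀ {l : List G}, l.Perm [a, b, c, e] → CList D l := fun {l} hp =>
        ⟨hp.nodup_iff.2 hl.nodup, fun w hw => hl.mem w (hp.subset hw),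
          fun w hw v hv => hl.comm w (hp.subset hw) v (hp.subset hv)⟩
      have hne : ¬ Commute u e := fun hw => hall (by
        obtain ⟨x, y, z⟩ := hn hl rfl hw
        simp [x, y, z, hw])
      have hna : ¬ Commute u a := fun hw => hall (by
        obtain ⟨x, y, z⟩ := hn (x := b) (y := c) (z := e) (w := a) (perm (by
          exact (List.perm_append_comm (l₁ := [b, c, e]) (l₂ := [a])))) (by
          rw [hP, mul_assoc (b * c) e a, cae.symm.eq, ← mul_assoc, mul_assoc b c a, cac.symm.eq, ← mul_assoc,
            cab.symm.eq]) hw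
        simp [x, y, z, hw])
      have hnb : ¬ Commute u b := fun hw => hall (by
        obtain ⟨x, y, z⟩ := hn (x := a) (y := c) (z := e) (w := b) (perm (by
          exact List.Perm.cons a (List.perm_append_comm (l₁ := [c, e]) (l₂ := [b])))) (by
          rw [hP, mul_assoc (a * c) e b, cbe.symm.eq, ← mul_assoc, mul_assoc a c b, cbc.symm.eq, ← mul_assoc]) hw
        simp [x, y, z, hw])
      have hnc : ¬ Commute u c := fun hw => hall (by
        obtain ⟨x, y, z⟩ := hn (x := a) (y := b) (z := e) (w := c) (perm (by
          exact ((List.Perm.swap c e []).cons b).cons a)) (by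
          rw [hP, mul_assoc (a * b) e c, cce.symm.eq, ← mul_assoc]) hw
        simp [x, y, z, hw])
      refine ⟨⟨hu, hna, hnb, hnc⟩, ?_⟩
      show u * P * u * P * u = e
      have uu := sq_eq_one hE hu
      have ee := sq_eq_one hE (hl.mem e (by simp))
      have hPP : P * P = 1 := by simpa [hP, mul_assoc] using h3.mul_self hE
      have hbr : u * e * u = e * u * e := by
        rcases hE.2 u hu e (hl.mem e (by simp)) with e' | e'
        · exfalso
          refine hne (show u * e = e * u from ?_)
          have hi : (u * e)⁻¹ = u * e := inv_eq_of_mul_eq_one_right (by rw [← sq]; exact e')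
          rwa [mul_inv_rev, inv_eq hE (hl.mem e (by simp)), inv_eq hE hu, eq_comm] at hi
        · refine eq_of_mul_inv_eq_one ?_
          rw [mul_inv_rev, mul_inv_rev, inv_eq hE (hl.mem e (by simp)), inv_eq hE hu]
          simpa [pow_succ, mul_assoc] using e'
      have e1 : u * P * u * e * u = P := by
        calc u * P * u * e * u = u * P * u * (e * u * e) * e := by
              simp only [mul_assoc]; rw [ee, mul_one]
          _ = u * P * (u * u) * e * u * e := by rw [← hbr]; simp only [mul_assoc]
          _ = u * (P * e) * u * e := by rw [uu, mul_one]; simp only [mul_assoc]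
          _ = P * e * (u * u) * e := by rw [hut.eq]; simp only [mul_assoc]
          _ = P := by rw [uu, mul_one, mul_assoc, ee, mul_one]
      calc u * P * u * P * u = u * P * u * (u * P * u * e * u) * u := by rw [e1]
        _ = u * (P * (u * u) * P) * (u * e) * (u * u) := by simp only [mul_assoc]
        _ = e := by rw [uu, mul_one, mul_one, hPP, mul_one, ← mul_assoc, uu, one_mul]
    · rintro (⟨hu, hc'⟩ | ⟨hu, hfu⟩)
      · exact ⟨hu, (((hc' a (by simp)).mul_right (hc' b (by simp))).mul_right (hc' c (by simp))).mul_right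
          (hc' e (by simp))⟩
      · obtain ⟨-, -, -, hc'⟩ := star_point hcls h3 hu.1 hu.2.1 hu.2.2.1 hu.2.2.2
        exact ⟨hu.1, hfu ▸ hc'⟩
  rw [hsplit, Set.ncard_union_eq ?_ (Set.toFinite _) (Set.toFinite _), hgood, ncard_commute_list hl,
    show {u | u ∈ D ∧ ∀ w ∈ [a, b, c, e], u ∈ perp D w} = perp D a ∩ perp D b ∩ perp D c ∩ perp D e by
      ext; simp [perp]; tauto, h.four_common hl]
  · rfl
  · exact Set.disjoint_left.2 fun u hu hu' => hu'.1.2.1 (hu.2 a (by simp))

end M24

end Cfsg.Lib.ThreeTr
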