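import Cfsg.Agent.ThreeTransposition.M24Count.Desc

/-!
A primitive class of type M(24): 306936 members, 3240 common neighbours for noncommuting ones, the centraliser of a
member, the order and the width.
-/

set_option autoImplicit false
set_option linter.unusedSectionVars false
set_option linter.style.haveILetI false

namespace Cfsg.Lib.ThreeTr

open Cfsg Subgroup

attribute [local instance] _root_.Classical.propDecidable

universe u

variable {G : Type u} [Group G] {D : Set G}

theorem divisors_m24 : ∀ x ∈ Nat.divisors 512, ∀ y ∈ Nat.divisors 1377, ∀ z ∈ Nat.divisors 1265,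
    x * y * z < 31671 → (x * y * z : ℕ) ≠ 3240 →
    ¬ ((((((891855360 / (x * y * z) + 31671 : ℕ) : ℤ)) * (3510 - ((x * y * z : ℕ) : ℤ)) + 63342) ^ 2) %
        ((3510 - ((x * y * z : ℕ) : ℤ)) ^ 2 + 4 * (31671 - ((x * y * z : ℕ) : ℤ))) = 0 ∧
      IsSquare (((((891855360 / (x * y * z) + 31671 : ℕ) : ℤ)) * (3510 - ((x * y * z : ℕ) : ℤ)) + 63342) ^ 2 /
        ((3510 - ((x * y * z : ℕ) : ℤ)) ^ 2 + 4 * (31671 - ((x * y * z : ℕ) : ℤ)))).natAbs) := by
  decide +kernel

/-- The parameters of a class of type M(24). -/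
theorem m24_full [Finite G] {d : G} (hd : d ∈ D) (hcls : IsThreeTranspositionClass D) (hT : TwinFree D)
    (hR : Rich D) (hZ : center G = ⊥) (hQ : M23 (descSet D d)) :
    Full D 306936 31671 3510 693 3240 351 126 := by
  have T : Tower D 31671 3510 693 351 126 := Tower.of_level hcls hT hd hR hZ hQ.solid.full.level
  have key : ∀ {a c : G}, a ∈ D → c ∈ D → ¬ Commute a c →
      (perp D a ∩ perp D c).ncard = 3240 ∧ D.ncard = 306936 := by
    intro a c ha hc hac
    have hp := T.paths ha hc hac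
    have hcard := T.card_members ha hc hac
    set μ := (perp D a ∩ perp D c).ncard with hμ
    set M := ((mem' D).filter fun e => ¬ Commute a e).card with hM
    norm_num at hp
    have hpos : 0 < μ := Nat.pos_of_ne_zero fun e => by simp [e] at hp
    have hlt : μ < 31671 := T.inter_lt ha hc hac
    obtain ⟨xy, hxy, z, hz, e⟩ : ∃ a, a ∣ 512 * 1377 ∧ ∃ b, b ∣ 1265 ∧ μ = a * b := by
      have : μ ∣ 512 * 1377 * 1265 := ⟨M, by linarith [hp]⟩
      obtain ⟨a, b, h1, h2, h3⟩ := Nat.dvd_mul.1 this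
      exact ⟨a, h1, b, h2, h3.symm⟩
    obtain ⟨x, y, hx, hy, rfl⟩ := Nat.dvd_mul.1 hxy
    have hdiv : 891855360 / μ = M := by rw [← hp]; exact Nat.mul_div_cancel M hpos
    by_cases h3240 : μ = 3240
    · refine ⟨h3240, ?_⟩
      rw [h3240] at hdiv
      omega
    exfalso
    obtain ⟨q, hq⟩ := T.trace_cond ha hc hac
    refine divisors_m24 x (Nat.mem_divisors.2 ⟨hx, by norm_num⟩) y (Nat.mem_divisors.2 ⟨hy, by norm_num⟩) z
      (Nat.mem_divisors.2 ⟨hz, by norm_num⟩) (e ▸ hlt) (e ▸ h3240) ?_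
    rw [← e, hdiv, hcard, ← hμ] at *
    push_cast at hq ⊢
    have hd0 : (0 : ℤ) < (3510 - (μ : ℤ)) ^ 2 + 4 * (31671 - (μ : ℤ)) := by
      have : (μ : ℤ) < 31671 := by exact_mod_cast hlt
      nlinarith
    have hq' : (((M : ℤ) + 31671) * (3510 - (μ : ℤ)) + 63342) ^ 2 =
        ((3510 - (μ : ℤ)) ^ 2 + 4 * (31671 - (μ : ℤ))) * q ^ 2 := by
      linear_combination hq
    rw [hq']
    refine ⟨Int.mul_emod_right _ _, ?_⟩
    rw [Int.mul_ediv_cancel_left _ hd0.ne', Int.natAbs_pow]
    exact ⟨q.natAbs, sq _⟩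
  obtain ⟨c₀, hc₀, hdc₀⟩ := exists_not_commute hcls hR.two hd
  refine ⟨T, (key hd hc₀ hdc₀).2, fun p hp x hx h => (key hp hx h).1, by norm_num, by norm_num,
    fun a ha c hc e he hac hea hec hed => ?_⟩
  have ht := T.plane_const ha hc hac (key ha hc hac).1 (t₀ := 324) (by rw [(key ha hc hac).2]; norm_num)
    (by rw [(key ha hc hac).2]; norm_num) he hea hec hed
  obtain ⟨f, hf⟩ := Finset.card_pos.1 (show 0 < ((mem' D).filter fun x => Commute x a ∧ Commute x c ∧ Commute x e).card
    by omega)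
  simp only [Finset.mem_filter, mem_mem'] at hf
  exact ⟨f, hf⟩

/-- No six commuting members of a class of type M(23) have product one. -/
theorem M23.noRel_six [Finite G] (h : M23 D) : NoRel D 6 := by
  obtain ⟨d, hd, hQ⟩ := h.descended
  exact noRel_succ h.cls h.solid.full.tower.twin hd (m22_five hQ.cls hQ.twin hQ.type)

/-- A member is a product of seven commuting neighbours. -/
theorem m24_seven [Finite G] {d : G} (hd : d ∈ D) (hcls : IsThreeTranspositionClass D) (hT : TwinFree D)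
    (hQ : M23 (descSet D d)) {N k l l' m m' m'' : ℕ} (hF : Full D N k l l' m m' m'') :
    ∃ bs : List G, bs.Nodup ∧ bs.length = 7 ∧ (∀ x ∈ bs, x ∈ perp D d) ∧
      (∀ x ∈ bs, ∀ y ∈ bs, Commute x y) ∧ bs.prod = d := by
  obtain ⟨q, hq, -⟩ := hQ.descended
  obtain ⟨bs, hbn, hlen, hbm, hbc, hprod⟩ := hQ.six q hq
  have hnd : (q :: bs).Nodup := List.nodup_cons.2 ⟨fun h => (hbm q h).2.1 rfl, hbn⟩
  obtain ⟨l, hln, hll, hlm, hlc, hlK, hlall⟩ := lift_relation hcls hT hd (s := q :: bs) hnd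
    (fun r hr => (List.mem_cons.1 hr).elim (fun e => e ▸ hq) fun h => (hbm r h).1)
    (fun r hr s hs => by
      rcases List.mem_cons.1 hr with e | hr <;> rcases List.mem_cons.1 hs with e' | hs
      · exact e ▸ e' ▸ Commute.refl q
      · exact e ▸ (hbm s hs).2.2
      · exact e' ▸ (hbm r hr).2.2.symm
      · exact hbc r hr s hs)
    (by rw [List.prod_cons, hprod, sq_eq_one hQ.cls.1 hq])
  rw [List.length_cons, hlen] at hll
  refine ⟨l, hln, hll, hlm, hlc, (hF.eq_one_or_self hd (closure_perp_commute hlK).symm hlall).resolve_left ?_⟩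
  exact noRel_succ hcls hT hd hQ.noRel_six l hll hln (fun x hx => (hlm x hx).1) hlc

/-- Everything about type M(24). -/
structure M24 (D : Set G) : Prop where
  solid : Solid D 306936 31671 3510 693 3240 351 126
  descended : ∃ d ∈ D, M23 (descSet D d) ∧ ∃ bs : List G, bs.Nodup ∧ bs.length = 7 ∧ (∀ x ∈ bs, x ∈ perp D d) ∧
    (∀ x ∈ bs, ∀ y ∈ bs, Commute x y) ∧ bs.prod = d

theorem M24.mk' [Finite G] (hD : IsThreeTranspositionGroup D) (hprim : IsPrimitiveUnderConj D)
    (ht : IsOfTypeM24 G D) : M24 D := by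
  obtain ⟨d, hd, hcls, hT, hR, hZ, hQg, hQp, h23⟩ := m24_desc hD hprim ht
  have hQ := M23.mk' hQg hQp h23
  have hF := m24_full hd hcls hT hR hZ hQ
  obtain ⟨bs, hbn, hlen, hbs, hbc, hprod⟩ := m24_seven hd hcls hT hQ hF
  have hdK : bs.prod ∈ closure (perp D d) := list_prod_mem fun x hx => Subgroup.subset_closure (hbs x hx)
  rw [hprod] at hdK
  exact ⟨⟨hF, self_mem_all hcls hd hdK, stab_of_desc hcls hT hd fun q hq => hQ.solid.centralizer_eq hq⟩,
    d, hd, hQ, bs, hbn, hlen, hbs, hbc, hprod⟩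

namespace M24

variable [Finite G] (h : M24 D)
include h

theorem cls : IsThreeTranspositionClass D := h.solid.full.cls

theorem card_group : Nat.card G = 306936 * (31671 * (3510 * 18393661440 * 2) * 2) := by
  obtain ⟨d, hd, hQ, -⟩ := h.descended
  rw [h.solid.card_group hd, hQ.card_group]

theorem width : Cfsg.commutingWidth D = 24 := by
  obtain ⟨d, hd, hQ, -⟩ := h.descended
  exact width_of_desc h.cls h.solid.full.tower.twin hd hQ.width

end M24

end Cfsg.Lib.ThreeTr
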