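import Cfsg.Agent.ThreeTransposition.M24Count.Involutions
import Cfsg.Agent.ThreeTransposition.M23Count.Involutions
import Cfsg.Agent.ThreeTransposition.Factors
import Cfsg.Agent.ThreeTransposition.Relations
import Cfsg.Agent.ThreeTransposition.M22Count.Pair.Quotient
import Cfsg.Agent.S0815

/-!
The centraliser of three commuting members of a class of type M(24) and its part of even length: a perfect central
extension of the unitary group of dimension six by the four-group of products of two of the members.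
-/

set_option autoImplicit false
set_option linter.unusedSectionVars false
set_option linter.style.haveILetI false

namespace Cfsg.Lib.ThreeTr

open Cfsg Subgroup Cfsg.Lib.Classical

attribute [local instance] _root_.Classical.propDecidable

universe u

variable {G : Type u} [Group G] {D : Set G}

/-- Three commuting members as a map. -/
def trio (d y z : G) : Fin 3 → G := ![d, y, z]

/-- The three members as a set. -/
def trioSet (d y z : G) : Set G := {d, y, z}

theorem mem_trio_centralizer {d y z g : G} :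
    g ∈ centralizer (trioSet d y z) ↔ ∀ i, g * trio d y z i * g⁻¹ = trio d y z i := by
  rw [mem_centralizer_iff]
  constructor
  · intro h i
    refine mul_inv_eq_iff_eq_mul.2 (h _ ?_).symm
    fin_cases i <;> simp [trio, trioSet]
  · intro h x hx
    obtain ⟨i, rfl⟩ : ∃ i, trio d y z i = x := by
      rcases hx with rfl | rfl | rfl
      exacts [⟨0, rfl⟩, ⟨1, rfl⟩, ⟨2, rfl⟩]
    exact (mul_inv_eq_iff_eq_mul.1 (h i)).symm

theorem trio_clist {d y z : G} (hl : CList D [d, y, z]) : Function.Injective (trio d y z) := by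
  have h := List.nodup_ofFn.1 (show (List.ofFn (trio d y z)).Nodup by simpa [trio] using hl.nodup)
  exact h

theorem clist_three {d y z : G} (hd : d ∈ D) (hy : y ∈ D) (hz : z ∈ D) (h12 : d ≠ y) (h13 : d ≠ z) (h23 : y ≠ z)
    (c12 : Commute d y) (c13 : Commute d z) (c23 : Commute y z) : CList D [d, y, z] :=
  CList.cons hd (CList.cons hy (CList.cons hz ⟨List.nodup_nil, by simp, by simp⟩ (by simp))
    (by simp [perp, hz, h23.symm, c23])) (by simp [perp, hy, hz, h12.symm, h13.symm, c12, c13])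

/-- An element realises any permutation of three commuting members, with either sign. -/
theorem exists_perm_sign (hE : IsThreeTranspositionSet D) (hlt : ListTrans D 4) {χ : G →* ℤˣ}
    (hχ : ∀ x ∈ D, χ x = -1) {d y z : G} (hl : CList D [d, y, z]) (p : Equiv.Perm (Fin 3)) :
    ∃ g : G, χ g = 1 ∧ ∀ i, g * trio d y z i * g⁻¹ = trio d y z (p i) := by
  have hinj := trio_clist hl
  have hmem : ∀ i, trio d y z i ∈ D ∧ ∀ j, Commute (trio d y z i) (trio d y z j) := fun i => by
    have h := List.mem_ofFn.2 (⟨i, rfl⟩ : ∃ j, trio d y z j = trio d y z i)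
    have e : List.ofFn (trio d y z) = [d, y, z] := by simp [trio]
    rw [e] at h
    exact ⟨hl.mem _ h, fun j => hl.comm _ h _ (e ▸ List.mem_ofFn.2 ⟨j, rfl⟩)⟩
  have hc : ∀ q : Equiv.Perm (Fin 3), CList D (List.ofFn fun i => trio d y z (q i)) := fun q =>
    ⟨List.nodup_ofFn.2 (hinj.comp q.injective), fun a ha => by
      obtain ⟨i, rfl⟩ := List.mem_ofFn.1 ha; exact (hmem _).1, fun a ha b hb => by
      obtain ⟨i, rfl⟩ := List.mem_ofFn.1 ha; obtain ⟨j, rfl⟩ := List.mem_ofFn.1 hb; exact (hmem _).2 _⟩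
  obtain ⟨g, hg⟩ := hlt _ _ (hc 1) (hc p) (by simp) (by simp)
  rw [List.map_ofFn] at hg
  have hg' : ∀ i, g * trio d y z i * g⁻¹ = trio d y z (p i) := fun i => (congrFun (List.ofFn_injective hg) i).symm
  rcases Int.units_eq_one_or (χ g) with h | h
  · exact ⟨g, h, hg'⟩
  · refine ⟨g * d, ?_, fun i => ?_⟩
    · rw [map_mul, h, hχ d (hl.mem d (by simp))]; decide
    · have hcd : Commute d (trio d y z i) := (hmem 0).2 i
      rw [← hg' i, mul_inv_rev]
      calc g * d * trio d y z i * (d⁻¹ * g⁻¹) = g * (d * trio d y z i * d⁻¹) * g⁻¹ := by group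
        _ = _ := by rw [hcd.eq, mul_inv_cancel_right]

/-- The product of three commuting members is unchanged by permuting them. -/
theorem trio_prod {d y z g : G} (hl : CList D [d, y, z]) {p : Equiv.Perm (Fin 3)}
    (hg : ∀ i, g * trio d y z i * g⁻¹ = trio d y z (p i)) : g * (d * y * z) * g⁻¹ = d * y * z := by
  have e : List.ofFn (trio d y z) = [d, y, z] := by simp [trio]
  have hpair : (List.ofFn fun i => trio d y z (p i)).Pairwise Commute :=
    List.pairwise_of_forall_mem_list fun a ha b hb => by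
      obtain ⟨i, rfl⟩ := List.mem_ofFn.1 ha
      obtain ⟨j, rfl⟩ := List.mem_ofFn.1 hb
      exact hl.comm _ (e ▸ List.mem_ofFn.2 ⟨_, rfl⟩) _ (e ▸ List.mem_ofFn.2 ⟨_, rfl⟩)
  have hperm := (p.ofFn_comp_perm (trio d y z)).prod_eq' hpair
  have h1 : (List.ofFn fun i => g * trio d y z i * g⁻¹).prod = g * (d * y * z) * g⁻¹ := by
    simp [trio]; group
  rw [← h1, funext hg]
  exact hperm.trans (by rw [e]; simp [mul_assoc])

/-- Products of two and three commuting members determine them. -/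
structure Unique (D : Set G) : Prop where
  uniq : ∀ k, k ≤ 3 → ∀ l l' : List G, CList D l → CList D l' → l.length = k → l'.length = k →
    l.prod = l'.prod → ∀ x, x ∈ l ↔ x ∈ l'

theorem M24.unique [Finite G] (h : M24 D) : Unique D := by
  refine ⟨fun k hk l l' hl hl' e e' hp => factors_unique h.cls.1 k hk (fun i h1 h2 => ?_) l l' e e' hl.nodup hl'.nodup
    hl.mem hl'.mem hl.comm hl'.comm hp⟩
  obtain rfl | rfl | rfl : i = 1 ∨ i = 2 ∨ i = 3 := by omega
  · exact two_noRel h.cls.1
  · exact four_noRel h.cls.1 h.short.twin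
  · exact h.short.six

set_option maxHeartbeats 400000 in
/-- The order of the centraliser of three commuting members. -/
theorem M24.card_trio_centralizer [Finite G] (h : M24 D) {d y z : G} (hl : CList D [d, y, z]) :
    Nat.card ↥(centralizer (trioSet d y z)) = 8 * 9196830720 := by
  have hcls := h.cls
  have hlt := h.listTrans
  set C := centralizer (trioSet d y z) with hC
  let X : Type u := Σ a : {a // a ∈ D}, Σ b : {b // b ∈ perp D a.1}, {c // c ∈ perp D a.1 ∩ perp D b.1}
  have hX : ∀ x : X, CList D [x.1.1, x.2.1.1, x.2.2.1] := fun ⟨⟨a, ha⟩, ⟨b, hb⟩, ⟨c, hc⟩⟩ =>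
    clist_three ha hb.1 hc.1.1 hb.2.1.symm hc.1.2.1.symm hc.2.2.1.symm hb.2.2 hc.1.2.2 hc.2.2.2
  have hd := hl.mem d (by simp)
  have hy : y ∈ perp D d := (CList.of_cons hl).2 y (by simp)
  have hz : z ∈ perp D d ∩ perp D y :=
    ⟨(CList.of_cons hl).2 z (by simp), (CList.of_cons (CList.of_cons hl).1).2 z (by simp)⟩
  have hp : ∀ (g : G) {p x : G}, x ∈ perp D p → g * x * g⁻¹ ∈ perp D (g * p * g⁻¹) := fun g p x hx =>
    (conj_image_perp hcls g p) ▸ ⟨x, hx, rfl⟩
  let f : G → X := fun g => ⟨⟨g * d * g⁻¹, conj_mem hcls g hd⟩, ⟨g * y * g⁻¹, hp g hy⟩,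
    ⟨g * z * g⁻¹, hp g hz.1, hp g hz.2⟩⟩
  have heq : ∀ g g', f g = f g' ↔ g⁻¹ * g' ∈ C := fun g g' => by
    have key : ∀ x : G, g⁻¹ * g' * x * (g⁻¹ * g')⁻¹ = x ↔ g * x * g⁻¹ = g' * x * g'⁻¹ := fun x => by
      constructor <;> intro e
      · conv_lhs => rw [← e]
        group
      · calc g⁻¹ * g' * x * (g⁻¹ * g')⁻¹ = g⁻¹ * (g' * x * g'⁻¹) * g := by group
          _ = x := by rw [← e]; group
    rw [hC, mem_trio_centralizer]
    constructor
    · intro e i
      have e1 := congrArg (fun t : X => (t.1.1, t.2.1.1, t.2.2.1)) e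
      simp only [f, Prod.mk.injEq] at e1
      refine (key _).2 ?_
      fin_cases i
      exacts [e1.1, e1.2.1, e1.2.2]
    · intro e
      have e0 := (key _).1 (e 0)
      have e1 := (key _).1 (e 1)
      have e2 := (key _).1 (e 2)
      simp only [trio, Matrix.cons_val_zero, Matrix.cons_val_one, Matrix.cons_val_two, Matrix.head_cons,
        Matrix.tail_cons] at e0 e1 e2
      have hext : ∀ s t : X, (s.1.1, s.2.1.1, s.2.2.1) = (t.1.1, t.2.1.1, t.2.2.1) → s = t := by
        rintro ⟨⟨a, _⟩, ⟨b, _⟩, ⟨c, _⟩⟩ ⟨⟨a', _⟩, ⟨b', _⟩, ⟨c', _⟩⟩ e'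
        simp only [Prod.mk.injEq] at e'
        obtain ⟨rfl, rfl, rfl⟩ := e'
        rfl
      exact hext _ _ (by simp [f, e0, e1, e2])
  let F : G ⧸ C → X := Quotient.lift f fun g g' e => (heq g g').2 (QuotientGroup.leftRel_apply.1 e)
  have hbij : Function.Bijective F := by
    refine ⟨?_, fun x => ?_⟩
    · rintro ⟨g⟩ ⟨g'⟩ e
      exact QuotientGroup.eq.2 ((heq g g').1 e)
    · obtain ⟨g, hg⟩ := hlt [d, y, z] _ hl (hX x) (by simp) (by simp)
      simp only [List.map_cons, List.map_nil, List.cons.injEq, and_true] at hg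
      refine ⟨QuotientGroup.mk g, ?_⟩
      show f g = x
      obtain ⟨⟨a, _⟩, ⟨b, _⟩, ⟨c, _⟩⟩ := x
      obtain ⟨rfl, rfl, rfl⟩ := hg
      rfl
  have hF := h.solid.full
  have hcard : Nat.card X = 306936 * (31671 * 3510) := by
    haveI : Fintype {a // a ∈ D} := Fintype.ofFinite _
    show Nat.card (Σ a : {a // a ∈ D}, Σ b : {b // b ∈ perp D a.1}, {c // c ∈ perp D a.1 ∩ perp D b.1}) = _
    have hb : ∀ a : {a // a ∈ D},
        Nat.card (Σ b : {b // b ∈ perp D a.1}, {c // c ∈ perp D a.1 ∩ perp D b.1}) = 31671 * 3510 := fun a => by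
      haveI : Fintype {b // b ∈ perp D a.1} := Fintype.ofFinite _
      rw [Nat.card_sigma, Finset.sum_const_nat fun b _ =>
        (Nat.card_coe_set_eq _).trans (hF.tower.adj _ a.2 _ b.2), Finset.card_univ, ← Nat.card_eq_fintype_card]
      exact congrArg (· * 3510) ((Nat.card_coe_set_eq _).trans (hF.tower.deg _ a.2))
    rw [Nat.card_sigma, Finset.sum_const_nat fun a _ => hb a, Finset.card_univ, ← Nat.card_eq_fintype_card]
    exact congrArg (· * (31671 * 3510)) ((Nat.card_coe_set_eq _).trans hF.card)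
  have hG := Subgroup.card_eq_card_quotient_mul_card_subgroup C
  rw [h.card_group, Nat.card_congr (Equiv.ofBijective F hbij), hcard] at hG
  omega

/-- The centraliser of three members over the unitary group. -/
structure TriCore (χ : G →* ℤˣ) (d y z : G) : Prop where
  model : ∃ (F : Type) (_ : Field F) (_ : Fintype F), Fintype.card F = 4 ∧
    ∃ ψ : ↥(centralizer (trioSet d y z)) →* Cfsg.PSU 6 F 2, Function.Surjective ψ ∧
      (∀ k, ψ k = 1 → (k : G) ∈ eight d y z) ∧
      ∀ k : ↥(centralizer (trioSet d y z)), (k : G) = d ∨ (k : G) = y ∨ (k : G) = z → ψ k = 1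
  perfect : ⁅χ.ker ⊓ centralizer (trioSet d y z), χ.ker ⊓ centralizer (trioSet d y z)⁆ =
    χ.ker ⊓ centralizer (trioSet d y z)

theorem map_conj_centralizer (g : G) (S : Set G) :
    (centralizer S).map (MulAut.conj g).toMonoidHom = centralizer ((fun x => g * x * g⁻¹) '' S) := by
  ext x
  constructor
  · rintro ⟨c, hc, rfl⟩
    rw [mem_centralizer_iff]
    rintro _ ⟨s, hs, rfl⟩
    show g * s * g⁻¹ * (g * c * g⁻¹) = g * c * g⁻¹ * (g * s * g⁻¹)
    have := mem_centralizer_iff.1 hc s hs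
    calc g * s * g⁻¹ * (g * c * g⁻¹) = g * (s * c) * g⁻¹ := by group
      _ = _ := by rw [this]; group
  · intro hx
    refine ⟨g⁻¹ * x * g, mem_centralizer_iff.2 fun s hs => ?_, by simp [mul_assoc]⟩
    have := mem_centralizer_iff.1 hx _ ⟨s, hs, rfl⟩
    calc s * (g⁻¹ * x * g) = g⁻¹ * (g * s * g⁻¹ * x) * g := by group
      _ = _ := by rw [this]; group

/-- Conjugation carries the structure. -/
theorem TriCore.conj {χ : G →* ℤˣ} {d y z : G} (h : TriCore χ d y z) (g : G) :
    TriCore χ (g * d * g⁻¹) (g * y * g⁻¹) (g * z * g⁻¹) := by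
  have hset : trioSet (g * d * g⁻¹) (g * y * g⁻¹) (g * z * g⁻¹) =
      (fun x => g * x * g⁻¹) '' trioSet d y z := by
    simp [trioSet, Set.image_insert_eq]
  have hmap := map_conj_centralizer g (trioSet d y z)
  rw [← hset] at hmap
  obtain ⟨F, _, _, h4, ψ, hs, hk, ht⟩ := h.model
  refine ⟨⟨F, inferInstance, inferInstance, h4, ?_⟩, ?_⟩
  · have hback : ∀ k : ↥(centralizer (trioSet (g * d * g⁻¹) (g * y * g⁻¹) (g * z * g⁻¹))),
        g⁻¹ * k * g ∈ centralizer (trioSet d y z) := fun k => by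
      obtain ⟨c, hc, e⟩ := hmap.ge k.2
      rwa [show g⁻¹ * (k : G) * g = c by rw [← e]; simp [mul_assoc]]
    let β : ↥(centralizer (trioSet (g * d * g⁻¹) (g * y * g⁻¹) (g * z * g⁻¹))) →* ↥(centralizer (trioSet d y z)) :=
      MonoidHom.mk' (fun k => ⟨g⁻¹ * k * g, hback k⟩) fun a b => Subtype.ext (by simp [mul_assoc])
    refine ⟨ψ.comp β, fun q => ?_, fun k hk1 => ?_, fun k hk1 => ?_⟩
    · obtain ⟨c, rfl⟩ := hs q
      refine ⟨⟨g * c * g⁻¹, hmap.le ⟨c, c.2, rfl⟩⟩, congrArg ψ (Subtype.ext ?_)⟩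
      show g⁻¹ * (g * c * g⁻¹) * g = c
      group
    · have h8 : g⁻¹ * (k : G) * g ∈ eight d y z := hk _ hk1
      have hk' : (k : G) = g * (g⁻¹ * k * g) * g⁻¹ := by group
      rw [hk']
      generalize g⁻¹ * (k : G) * g = c at h8 ⊢
      change (fun w => g * w * g⁻¹) c ∈ _
      simp only [eight, List.mem_cons, List.not_mem_nil, or_false] at h8 ⊢
      rcases h8 with rfl | rfl | rfl | rfl | rfl | rfl | rfl | rfl <;> simp [mul_assoc]
    · refine ht (β k) ?_
      show g⁻¹ * (k : G) * g = d ∨ g⁻¹ * (k : G) * g = y ∨ g⁻¹ * (k : G) * g = z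
      rcases hk1 with e | e | e <;> simp [e, mul_assoc]
  · have hker : (χ.ker).map (MulAut.conj g).toMonoidHom = χ.ker := by
      ext x
      constructor
      · rintro ⟨w, hw, rfl⟩
        show χ (g * w * g⁻¹) = 1
        rw [map_mul, map_mul, map_inv, MonoidHom.mem_ker.1 hw, mul_one, mul_inv_cancel]
      · refine fun hx => ⟨g⁻¹ * x * g, ?_, by simp [mul_assoc]⟩
        show χ (g⁻¹ * x * g) = 1
        rw [map_mul, map_mul, map_inv, MonoidHom.mem_ker.1 hx, mul_one, inv_mul_cancel]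
    have := congrArg (Subgroup.map (MulAut.conj g).toMonoidHom) h.perfect
    rw [Subgroup.map_commutator, Subgroup.map_inf _ _ _ (MulAut.conj g).injective, hker, hmap] at this
    exact this

namespace TripleModel

variable {d y z : G} {F : Type} [Field F] {H : HermSpace F (Fin 6 → F)} {Q : Type u} [Group Q]
  {π : H.SIsom →* Q} {φ : ↥(closure (triGen D d y z)) →* Q} {m : (Fin 6 → F) → G}
  [Finite G] [Fintype F] (hM : TripleModel D d y z H π φ m)
include hM

theorem clist : CList D [d, y, z] :=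
  clist_three hM.mem_d hM.mem_y.1 hM.mem_z.1.1 hM.mem_y.2.1.symm hM.mem_z.1.2.1.symm hM.mem_z.2.2.1.symm
    hM.mem_y.2.2 hM.mem_z.1.2.2 hM.mem_z.2.2.2

theorem pi_surjective : Function.Surjective π := by
  intro q
  obtain ⟨k, rfl⟩ := hM.surj q
  refine hom_mem_of_gens φ π.range (fun x hx => ?_) k
  rcases hx with e | e
  · rw [hM.trivial x e]; exact one_mem _
  · obtain ⟨v, v0, hv, ev⟩ := hM.cover _ e
    exact ⟨_, (hM.img v v0 hv x ev.symm).symm⟩

/-- The image is the projective unitary group. -/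
theorem equiv_psu : Nonempty (Q ≃* Cfsg.PSU 6 F 2) := by
  haveI := hM.six.fd
  have hF : Fintype.card F = 4 := by rw [← Nat.card_eq_fintype_card]; exact hM.four
  have hF' : Fintype.card F = 2 ^ 2 := by rw [hF]; norm_num
  have hσ : (stdHerm 6 hF').σ = H.σ := by
    refine RingHom.ext fun a => ?_
    show powConj hF' a = H.σ a
    rw [powConj_apply]
    rcases eq_or_ne a 0 with rfl | ha
    · simp
    have h1 := hM.six.norm a ha
    have h3 : a ^ 3 = 1 := by
      have := FiniteField.pow_card_sub_one_eq_one a ha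
      rwa [hF] at this
    exact mul_left_cancel₀ ha (by rw [h1, ← pow_succ']; exact h3)
  obtain ⟨e, he⟩ := H.exists_isometry (stdHerm 6 hF') hσ (by rw [Module.finrank_fin_fun])
  obtain ⟨E⟩ := exists_sisom_equiv e he
  let E' : H.SIsom ≃* Cfsg.SU 6 F 2 := E.trans (suEquiv 6 hF')
  have hc : (center H.SIsom).map E'.toMonoidHom = center (Cfsg.SU 6 F 2) := by
    ext x
    obtain ⟨w, rfl⟩ := E'.surjective x
    constructor
    · rintro ⟨w', hw', e'⟩
      obtain rfl : w' = w := E'.injective e'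
      refine mem_center_iff.2 fun v => ?_
      obtain ⟨v, rfl⟩ := E'.surjective v
      rw [← map_mul, ← map_mul, mem_center_iff.1 hw' v]
    · intro hw
      refine ⟨w, mem_center_iff.2 fun v => E'.injective ?_, rfl⟩
      rw [map_mul, map_mul]
      exact mem_center_iff.1 hw _
  haveI := hM.ker ▸ (inferInstance : (center H.SIsom).Normal)
  exact ⟨((QuotientGroup.quotientMulEquivOfEq hM.ker.symm).trans
    (QuotientGroup.quotientKerEquivOfSurjective π hM.pi_surjective)).symm.trans
    (QuotientGroup.congr _ _ E' hc)⟩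

variable (hD : Short D) {χ : G →* ℤˣ} (hχ : ∀ x ∈ D, χ x = -1)
include hD

theorem closure_eq (hcard : Nat.card ↥(centralizer (trioSet d y z)) = 8 * 9196830720) :
    closure (triGen D d y z) = centralizer (trioSet d y z) := by
  refine Subgroup.eq_of_le_of_card_ge (fun k hk => ?_) (by rw [hM.card_tri hD, hcard])
  obtain ⟨a, b, c⟩ := hM.closure_commute hD hk
  refine mem_centralizer_iff.2 ?_
  rintro _ (rfl | rfl | rfl)
  exacts [a.eq.symm, b.eq.symm, c.eq.symm]

/-- Six members with trivial image. -/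
theorem exists_kill_six : ∃ l : List G, Kill hM l ∧ l.length = 6 := by
  obtain ⟨ω, e, f, hfr⟩ := hM.six.exists_frame hM.four
  obtain ⟨w0, w1, w2, w3, w4⟩ := hM.ω_ne hD hfr
  set u := e 0
  set v := e 1
  set w := e 2
  have q12 : ∀ i j : Fin 3, H.h (e i) (e j) = 0 := hfr.ee
  have g : ∀ i j : Fin 3, H.h (e i) (f j) = if i = j then 1 else 0 := hfr.ef
  have hl := hM.line_ee hD hfr (show (0 : Fin 3) ≠ 1 by decide)
  have k0 : ∀ x : Fin 6 → F, (∃ i, H.h x (f i) ≠ 0) → x ≠ 0 := fun x ⟨i, hi⟩ e0 => hi (by rw [e0, H.zero_left])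
  have sep : ∀ x x' : Fin 6 → F, H.h x x = 0 → H.h x' x' = 0 → x ≠ 0 → x' ≠ 0 →
      (∃ i, H.h x (f i) = 0 ∧ H.h x' (f i) ≠ 0) ∨ (∃ i, H.h x' (f i) = 0 ∧ H.h x (f i) ≠ 0) → m x ≠ m x' := by
    rintro x x' hx hx' x0 x0' (⟨i, h1, h2⟩ | ⟨i, h1, h2⟩)
    · exact hM.m_ne hD x0 hx x0' hx' h1 h2
    · exact (hM.m_ne hD x0' hx' x0 hx h1 h2).symm
  let L6 : List (Fin 6 → F) := [u + v + w, w, u + w, v + w, u + ω • v, u + (ω + 1) • v]
  have hne6 : ∀ x ∈ L6, x ≠ 0 := by
    intro x hx
    simp only [L6, List.mem_cons, List.not_mem_nil, or_false] at hx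
    refine k0 x ?_
    rcases hx with rfl | rfl | rfl | rfl | rfl | rfl <;>
      first
        | (refine ⟨0, ?_⟩; simp [u, v, w, H.add_left, H.smul_left, g]; done)
        | (refine ⟨1, ?_⟩; simp [u, v, w, H.add_left, H.smul_left, g]; done)
        | (refine ⟨2, ?_⟩; simp [u, v, w, H.add_left, H.smul_left, g]; done)
  have ho6 : ∀ x ∈ L6, ∀ x' ∈ L6, H.h x x' = 0 := by
    intro x hx x' hx'
    simp only [L6, List.mem_cons, List.not_mem_nil, or_false] at hx hx'
    rcases hx with rfl | rfl | rfl | rfl | rfl | rfl <;>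
      rcases hx' with rfl | rfl | rfl | rfl | rfl | rfl <;>
      simp [u, v, w, H.add_left, H.add_right, H.smul_left, H.smul_right, q12]
  have hnd6 : (L6.map m).Nodup := by
    simp only [L6, List.map_cons, List.map_nil, List.nodup_cons, List.mem_cons, List.not_mem_nil, or_false, not_or,
      List.nodup_nil, and_true, not_false_eq_true]
    refine ⟨⟨?_, ?_, ?_, ?_, ?_⟩, ⟨?_, ?_, ?_, ?_⟩, ⟨?_, ?_, ?_⟩, ⟨?_, ?_⟩, hM.comb_ne hD hfr hl w4.symm⟩ <;>
      refine sep _ _ (ho6 _ (by simp [L6]) _ (by simp [L6])) (ho6 _ (by simp [L6]) _ (by simp [L6]))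
        (hne6 _ (by simp [L6])) (hne6 _ (by simp [L6])) ?_ <;>
      first
        | (refine Or.inl ⟨0, ?_⟩; simp [u, v, w, H.add_left, H.smul_left, g, w0, w2]; done)
        | (refine Or.inl ⟨1, ?_⟩; simp [u, v, w, H.add_left, H.smul_left, g, w0, w2]; done)
        | (refine Or.inl ⟨2, ?_⟩; simp [u, v, w, H.add_left, H.smul_left, g, w0, w2]; done)
        | (refine Or.inr ⟨0, ?_⟩; simp [u, v, w, H.add_left, H.smul_left, g, w0, w2]; done)
        | (refine Or.inr ⟨1, ?_⟩; simp [u, v, w, H.add_left, H.smul_left, g, w0, w2]; done)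
        | (refine Or.inr ⟨2, ?_⟩; simp [u, v, w, H.add_left, H.smul_left, g, w0, w2]; done)
  exact ⟨_, hM.kill_list hD hfr L6 hne6 ho6 hnd6
    (hfr.six_sum hM.six (q12 0 0) (q12 1 1) (q12 2 2) (q12 0 1) (q12 0 2) (q12 1 2)), by simp [L6]⟩

/-- Five members with trivial image and product the product of the three. -/
theorem exists_five : ∃ l : List G, l.length = 5 ∧ (∀ x ∈ l, x ∈ triSet D d y z) ∧ l.prod = d * y * z := by
  obtain ⟨ω, e, f, hfr⟩ := hM.six.exists_frame hM.four
  have hl := hM.line_ee hD hfr (show (0 : Fin 3) ≠ 1 by decide)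
  refine ⟨_, by simp, fun x hx => ?_, hM.line_five hD hfr hl⟩
  obtain ⟨v, hv, rfl⟩ := List.mem_map.1 hx
  simp only [List.mem_cons, List.not_mem_nil, or_false] at hv
  have hn := fun s => hM.line_ne hD hfr hl s
  rcases hv with rfl | rfl | rfl | rfl | rfl
  · exact hM.mem _ (hn 0).2.1 hl.aa
  · exact hM.mem _ (hn 0).2.2.1 hl.bb
  all_goals exact hM.mem _ (hn _).1 (hn _).2.2.2

include hχ

theorem chi_eight {x : G} (hx : x ∈ eight d y z) (h1 : χ x = 1) :
    x = 1 ∨ x = d * y ∨ x = d * z ∨ x = y * z := by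
  have a := hχ d hM.mem_d
  have b := hχ y hM.mem_y.1
  have c := hχ z hM.mem_z.1.1
  simp only [eight, List.mem_cons, List.not_mem_nil, or_false] at hx
  rcases hx with rfl | rfl | rfl | rfl | rfl | rfl | rfl | rfl
  all_goals simp_all

/-- The three members and the members commuting with them over the unitary group. -/
theorem triCore (hlt : ListTrans D 4) (hcard : Nat.card ↥(centralizer (trioSet d y z)) = 8 * 9196830720) :
    TriCore χ d y z := by
  have hKC := hM.closure_eq hD hcard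
  let ι : ↥(centralizer (trioSet d y z)) ≃* ↥(closure (triGen D d y z)) := MulEquiv.subgroupCongr hKC.symm
  have hιv : ∀ k, ((ι k : ↥(closure (triGen D d y z))) : G) = k := fun k => rfl
  obtain ⟨E⟩ := hM.equiv_psu
  refine ⟨⟨F, inferInstance, inferInstance, by rw [← Nat.card_eq_fintype_card]; exact hM.four,
    (E.toMonoidHom.comp (φ.comp ι.toMonoidHom)), E.surjective.comp (hM.surj.comp ι.surjective),
    fun k hk => hM.ker_eight (ι k) (E.injective (hk.trans E.map_one.symm)), fun k hk => ?_⟩, ?_⟩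
  · show E (φ (ι k)) = 1
    rw [hM.trivial (ι k) hk, map_one]
  rw [← hKC]
  set K := χ.ker ⊓ (closure (triGen D d y z)) with hK
  set K' := ⁅K, K⁆ with hK'
  have hle : K' ≤ K := Subgroup.commutator_le_self K
  have hl := hM.clist
  obtain ⟨dd, yy, zz⟩ := hM.invol hD
  obtain ⟨hdy, hdz, hyz⟩ := hM.three_commute hD
  have hdC : d ∈ (closure (triGen D d y z)) := subset_closure (Or.inl (Or.inl rfl))
  have hyC : y ∈ (closure (triGen D d y z)) := subset_closure (Or.inl (Or.inr (Or.inl rfl)))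
  have hzC : z ∈ (closure (triGen D d y z)) := subset_closure (Or.inl (Or.inr (Or.inr rfl)))
  have h8C : ∀ e ∈ eight d y z, ∀ he : e ∈ (closure (triGen D d y z)), φ ⟨e, he⟩ = 1 := fun e h8 he => by
    have t1 := hM.im_triv hD (Or.inl rfl : d = d ∨ d = y ∨ d = z)
    have t2 := hM.im_triv hD (Or.inr (Or.inl rfl) : y = d ∨ y = y ∨ y = z)
    have t3 := hM.im_triv hD (Or.inr (Or.inr rfl) : z = d ∨ z = y ∨ z = z)
    have hi : hM.Im e 1 := by
      simp only [eight, List.mem_cons, List.not_mem_nil, or_false] at h8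
      rcases h8 with rfl | rfl | rfl | rfl | rfl | rfl | rfl | rfl
      · exact hM.im_one hD
      · exact t1
      · exact t2
      · exact t3
      · simpa using hM.im_mul hD t1 t2
      · simpa using hM.im_mul hD t1 t3
      · simpa using hM.im_mul hD t2 t3
      · simpa using hM.im_mul hD (hM.im_mul hD t1 t2) t3
    exact hi.2.trans (map_one π)
  -- the derived group covers the image
  have honto : ∀ q : Q, ∃ k, ∃ hk : k ∈ K', φ ⟨k, (hle hk).2⟩ = q := by
    intro q
    have hsur : (K.subgroupOf (closure (triGen D d y z))).map φ = ⊤ := eq_top_iff.2 fun q _ => by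
      obtain ⟨c, rfl⟩ := hM.surj q
      rcases Int.units_eq_one_or (χ c) with e | e
      · exact ⟨c, ⟨e, c.2⟩, rfl⟩
      · refine ⟨c * ⟨d, hdC⟩, ⟨?_, mul_mem c.2 hdC⟩, ?_⟩
        · show χ ((c : G) * d) = 1
          rw [map_mul, e, hχ d hM.mem_d]; decide
        · rw [map_mul, hM.trivial ⟨d, hdC⟩ (Or.inl rfl), mul_one]
    have hcomm : (⁅K.subgroupOf (closure (triGen D d y z)), K.subgroupOf (closure (triGen D d y z))⁆).map φ = ⊤ := by
      rw [Subgroup.map_commutator, hsur, ← _root_.commutator_def, hM.perfect]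
    obtain ⟨c, hc, rfl⟩ := (hcomm ▸ mem_top q : q ∈ _)
    have hmapK : (K.subgroupOf (closure (triGen D d y z))).map (closure (triGen D d y z)).subtype = K := map_subgroupOf_eq_of_le inf_le_right
    have : (c : G) ∈ K' := by
      rw [hK', ← hmapK, ← Subgroup.map_commutator]
      exact ⟨c, hc, rfl⟩
    exact ⟨c, this, rfl⟩
  choose lift hlift hliftφ using honto
  have hnorm : ∀ g : G, (∀ c ∈ (closure (triGen D d y z)), g * c * g⁻¹ ∈ (closure (triGen D d y z))) → ∀ k ∈ K', g * k * g⁻¹ ∈ K' := fun g hg k hk => by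
    have hKle : K.map (MulAut.conj g).toMonoidHom ≤ K := by
      rintro _ ⟨x, hx, rfl⟩
      exact ⟨show χ (g * x * g⁻¹) = 1 by rw [map_mul, map_mul, map_inv, MonoidHom.mem_ker.1 hx.1, mul_one, mul_inv_cancel],
        hg x hx.2⟩
    have := Subgroup.map_commutator K K (MulAut.conj g).toMonoidHom
    exact Subgroup.commutator_mono hKle hKle (this ▸ ⟨k, hk, rfl⟩)
  -- products of two of the members
  suffices hsuf : d * y ∈ K' ∧ d * z ∈ K' ∧ y * z ∈ K' by
    refine le_antisymm hle fun c hc => ?_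
    have e8 : c * (lift (φ ⟨c, hc.2⟩))⁻¹ ∈ eight d y z := by
      refine hM.ker_eight (⟨c, hc.2⟩ * (⟨_, (hle (hlift (φ ⟨c, hc.2⟩))).2⟩ : ↥(closure (triGen D d y z)))⁻¹) ?_
      rw [map_mul, map_inv, hliftφ, mul_inv_cancel]
    have hk := hlift (φ ⟨c, hc.2⟩)
    have : c * (lift (φ ⟨c, hc.2⟩))⁻¹ ∈ K' := by
      rcases hM.chi_eight hD hχ e8 (by rw [map_mul, map_inv, hc.1, (hle hk).1, inv_one, mul_one]) with e | e | e | e <;>
        rw [e]
      exacts [one_mem _, hsuf.1, hsuf.2.1, hsuf.2.2]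
    simpa using mul_mem this hk
  by_cases hone : d * y ∈ K' ∨ d * z ∈ K' ∨ y * z ∈ K'
  · have hperm : ∀ p : Equiv.Perm (Fin 3), ∀ i j, trio d y z i * trio d y z j ∈ K' →
        trio d y z (p i) * trio d y z (p j) ∈ K' := fun p i j hij => by
      obtain ⟨g, -, hg⟩ := exists_perm_sign hD.cls.1 hlt hχ hl p
      have hgC : ∀ c ∈ (closure (triGen D d y z)), g * c * g⁻¹ ∈ (closure (triGen D d y z)) := fun c hc => by
        rw [hKC, mem_trio_centralizer] at hc ⊢
        intro k
        obtain ⟨k, rfl⟩ := p.surjective k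
        rw [← hg k]
        calc g * c * g⁻¹ * (g * trio d y z k * g⁻¹) * (g * c * g⁻¹)⁻¹ = g * (c * trio d y z k * c⁻¹) * g⁻¹ := by group
          _ = _ := by rw [hc k]
      have := hnorm g hgC _ hij
      rwa [← hg i, ← hg j, show g * trio d y z i * g⁻¹ * (g * trio d y z j * g⁻¹) =
        g * (trio d y z i * trio d y z j) * g⁻¹ by group]
    have e10 : y * d = d * y := hdy.eq.symm
    have e20 : z * d = d * z := hdz.eq.symm
    have e21 : z * y = y * z := hyz.eq.symm
    rcases hone with h | h | h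
    · exact ⟨h, by
        have := hperm (Equiv.swap 1 2) 0 1 h
        simpa [trio, Equiv.swap_apply_def] using this, by
        have := hperm (Equiv.swap 0 2) 0 1 h
        simpa [trio, Equiv.swap_apply_def, e21] using this⟩
    · refine ⟨?_, h, ?_⟩
      · have := hperm (Equiv.swap 1 2) 0 2 h
        simpa [trio, Equiv.swap_apply_def] using this
      · have := hperm (Equiv.swap 0 1) 0 2 h
        simpa [trio, Equiv.swap_apply_def] using this
    · refine ⟨?_, ?_, h⟩
      · have := hperm (Equiv.swap 0 2) 1 2 h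
        simpa [trio, Equiv.swap_apply_def, e10] using this
      · have := hperm (Equiv.swap 0 1) 1 2 h
        simpa [trio, Equiv.swap_apply_def] using this
  exfalso
  push Not at hone
  have hinj : ∀ k ∈ K', k ∈ eight d y z → k = 1 := fun k hk h8 => by
    rcases hM.chi_eight hD hχ h8 (hle hk).1 with e | e | e | e
    · exact e
    · exact absurd (e ▸ hk) hone.1
    · exact absurd (e ▸ hk) hone.2.1
    · exact absurd (e ▸ hk) hone.2.2
  have hCe : ∀ e ∈ eight d y z, ∀ c ∈ (closure (triGen D d y z)), Commute c e := fun e he c hc => by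
    obtain ⟨a, b, c'⟩ := hM.closure_commute hD hc
    simp only [eight, List.mem_cons, List.not_mem_nil, or_false] at he
    rcases he with rfl | rfl | rfl | rfl | rfl | rfl | rfl | rfl
    exacts [Commute.one_right c, a, b, c', a.mul_right b, a.mul_right c', b.mul_right c',
      (a.mul_right b).mul_right c']
  have heq1 : ∀ k ∈ K', ∀ k' ∈ K', k * k'⁻¹ ∈ eight d y z → k = k' := fun k hk k' hk' h8 =>
    mul_inv_eq_one.1 (hinj _ (mul_mem hk (inv_mem hk')) h8)
  have hsplit : ∀ x ∈ triSet D d y z, ∀ x' ∈ triSet D d y z, ∀ e ∈ eight d y z, e⁻¹ * x ∈ K' → e⁻¹ * x' ∈ K' := by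
    intro x hx x' hx' e he hk
    have hcl : ∀ w ∈ triSet D d y z, CList D [d, y, z, w] := fun w hw => by
      have t0 : CList D [w] := ⟨List.nodup_singleton w, by simp [hw.1.1.1], by simp⟩
      have t1 : CList D [z, w] := t0.cons hM.mem_z.1.1 (by simp [hw.2])
      have t2 : CList D [y, z, w] := t1.cons hM.mem_y.1 (by simp [hM.mem_z.2, hw.1.2])
      exact t2.cons hM.mem_d (by simp [hM.mem_y, hM.mem_z.1, hw.1.1])
    obtain ⟨g, hg⟩ := hlt _ _ (hcl x hx) (hcl x' hx') rfl le_rfl
    simp only [List.map_cons, List.map_nil, List.cons.injEq, and_true] at hg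
    obtain ⟨gd, gy, gz, gx⟩ := hg
    have hgC : g ∈ (closure (triGen D d y z)) := by
      rw [hKC, mem_trio_centralizer]
      intro i
      fin_cases i
      exacts [gd.symm, gy.symm, gz.symm]
    have hge : g * e⁻¹ * g⁻¹ = e⁻¹ := by
      rw [(hCe e he g hgC).inv_right.eq, mul_inv_cancel_right]
    have := hnorm g (fun c hc => mul_mem (mul_mem hgC hc) (inv_mem hgC)) _ hk
    rwa [show g * (e⁻¹ * x) * g⁻¹ = g * e⁻¹ * g⁻¹ * (g * x * g⁻¹) by group, hge, ← gx] at this
  obtain ⟨l5, hl5, hm5, hp5⟩ := hM.exists_five hD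
  obtain ⟨l6, hk6, hl6⟩ := hM.exists_kill_six hD
  obtain ⟨x₀, hx₀⟩ : ∃ x₀, x₀ ∈ l5 := List.exists_mem_of_length_pos (by omega)
  have hx₀t := hm5 x₀ hx₀
  have hx₀C := hM.mem_K hD hx₀t
  obtain ⟨e, he, hek⟩ : ∃ e ∈ eight d y z, e⁻¹ * x₀ ∈ K' := by
    refine ⟨x₀ * (lift (φ ⟨x₀, hx₀C⟩))⁻¹, hM.ker_eight (⟨x₀, hx₀C⟩ * (⟨_, (hle (hlift _)).2⟩ : ↥(closure (triGen D d y z)))⁻¹) (by
      rw [map_mul, map_inv, hliftφ, mul_inv_cancel]), ?_⟩
    rw [mul_inv_rev, inv_inv, inv_mul_cancel_right]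
    exact hlift _
  have heC : e ∈ (closure (triGen D d y z)) := by
    simp only [eight, List.mem_cons, List.not_mem_nil, or_false] at he
    rcases he with rfl | rfl | rfl | rfl | rfl | rfl | rfl | rfl
    exacts [one_mem (closure (triGen D d y z)), hdC, hyC, hzC, mul_mem hdC hyC, mul_mem hdC hzC, mul_mem hyC hzC,
      mul_mem (mul_mem hdC hyC) hzC]
  have hee : e * e = 1 := by
    simp only [eight, List.mem_cons, List.not_mem_nil, or_false] at he
    have sq : ∀ {a b : G}, Commute a b → a * a = 1 → b * b = 1 → a * b * (a * b) = 1 := fun {a b} hc ha hb => by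
      rw [hc.symm.mul_mul_mul_comm, ha, hb, one_mul]
    rcases he with rfl | rfl | rfl | rfl | rfl | rfl | rfl | rfl
    exacts [one_mul 1, dd, yy, zz, sq hdy dd yy, sq hdz dd zz, sq hyz yy zz,
      sq (hdz.mul_left hyz) (sq hdy dd yy) zz]
  have hlist : ∀ l : List G, (∀ x ∈ l, x ∈ triSet D d y z) → (e ^ l.length)⁻¹ * l.prod ∈ K' := by
    intro l
    induction l with
    | nil => intro _; simp
    | cons x t ih =>
      intro hmem
      have h1 := hsplit x₀ hx₀t x (hmem x (by simp)) e he hek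
      have h2 := ih fun w hw => hmem w (by simp [hw])
      have hc : Commute x (e ^ t.length)⁻¹ :=
        ((hCe e he x (hM.mem_K hD (hmem x (by simp)))).pow_right _).inv_right
      have := mul_mem h1 h2
      rwa [show e⁻¹ * x * ((e ^ t.length)⁻¹ * t.prod) = e⁻¹ * (x * (e ^ t.length)⁻¹) * t.prod by group, hc.eq,
        ← mul_assoc e⁻¹, ← mul_inv_rev, ← pow_succ, mul_assoc _ x] at this
  have hp6C : l6.prod ∈ (closure (triGen D d y z)) := hk6.im.1
  have hp6 : l6.prod ∈ eight d y z := hM.kill_eight hD hk6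
  have h6 := hlist l6 hk6.mem
  rw [hl6, show e ^ 6 = 1 by rw [show (6 : ℕ) = 2 * 3 from rfl, pow_mul, sq, hee, one_pow], inv_one, one_mul] at h6
  have hp6one : l6.prod = 1 := hinj _ h6 hp6
  obtain ⟨m1, m2, m3⟩ := hone
  rcases hM.kill_six hD hk6 hl6 with e' | e' | e' | e'
  · exact m1 (e' ▸ h6)
  · exact m2 (e' ▸ h6)
  · exact m3 (e' ▸ h6)
  · have := congrArg χ (e'.symm.trans hp6one)
    simp [hχ d hM.mem_d, hχ y hM.mem_y.1, hχ z hM.mem_z.1.1] at this

end TripleModel

/-- Every triple of commuting members. -/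
theorem M24.triCore [Finite G] (h : M24 D) {χ : G →* ℤˣ} (hχ : ∀ x ∈ D, χ x = -1) {d y z : G}
    (hl : CList D [d, y, z]) : TriCore χ d y z := by
  obtain ⟨d₀, hd₀, hQ, -⟩ := h.descended
  obtain ⟨q, hq, hQ2⟩ := hQ.descended
  obtain ⟨y₀, hy₀, rfl⟩ := id hq
  obtain ⟨z₀, F, _, _, H, Q, _, π, φ, m, hM⟩ := h.exists_tripleModel hd₀ hQ hy₀ hQ2
  have hl₀ := hM.clist
  have hcore := hM.triCore h.short hχ h.listTrans (h.card_trio_centralizer hl₀)
  obtain ⟨g, hg⟩ := h.listTrans _ _ hl₀ hl rfl (by simp)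
  simp only [List.map_cons, List.map_nil, List.cons.injEq, and_true] at hg
  obtain ⟨rfl, rfl, rfl⟩ := hg
  exact hcore.conj g

end Cfsg.Lib.ThreeTr
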