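import Cfsg.Agent.ThreeTransposition.M24Count.Sylow

/-!
The sign homomorphism of a group of type M(24): first on the centraliser of a member, then on the whole group.
-/

set_option autoImplicit false
set_option linter.unusedSectionVars false
set_option linter.style.haveILetI false

namespace Cfsg.Lib.ThreeTr

open Cfsg Subgroup Cfsg.Lib.Classical

attribute [local instance] _root_.Classical.propDecidable

universe u

variable {G : Type u} [Group G] {D : Set G}

/-- An involution exchanging two commuting members. -/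
theorem member_swap_facts (hE : IsThreeTranspositionSet D) {a y z : G} (ha : a ∈ D) (hy : y ∈ D) (hz : z ∈ D)
    (hay : ¬ Commute a y) (haz : ¬ Commute a z) (hyz : Commute y z) :
    a * (y * z * a * (y * z)) * y * (a * (y * z * a * (y * z)))⁻¹ = z ∧
      a * (y * z * a * (y * z)) * z * (a * (y * z * a * (y * z)))⁻¹ = y ∧
      a * (y * z * a * (y * z)) * (a * (y * z * a * (y * z))) = 1 := by
  have aa := sq_eq_one hE ha
  have yy := sq_eq_one hE hy
  have zz := sq_eq_one hE hz
  have by' : a * y * a = y * a * y := braid hE ha hy hay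
  have bz : a * z * a = z * a * z := braid hE ha hz haz
  have yz2 : y * z * (y * z) = 1 := by
    calc y * z * (y * z) = y * (z * y) * z := by simp only [mul_assoc]
      _ = (y * y) * (z * z) := by rw [← hyz.eq]; simp only [mul_assoc]
      _ = 1 := by rw [yy, zz, one_mul]
  have b2 : y * z * a * (y * z) * (y * z * a * (y * z)) = 1 := by
    calc y * z * a * (y * z) * (y * z * a * (y * z)) = y * z * (a * (y * z * (y * z)) * a) * (y * z) := by
          simp only [mul_assoc]
      _ = 1 := by rw [yz2, mul_one, aa, mul_one, yz2]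
  have winv : (a * (y * z * a * (y * z)))⁻¹ = y * z * a * (y * z) * a := by
    refine inv_eq_of_mul_eq_one_right ?_
    calc a * (y * z * a * (y * z)) * (y * z * a * (y * z) * a) =
          a * (y * z * a * (y * z) * (y * z * a * (y * z))) * a := by simp only [mul_assoc]
      _ = 1 := by rw [b2, mul_one, aa]
  have cy : y * z * y * (y * z) = y := by
    calc y * z * y * (y * z) = y * z * (y * y) * z := by simp only [mul_assoc]
      _ = y := by rw [yy, mul_one, mul_assoc, zz, mul_one]
  have cz : y * z * z * (y * z) = z := by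
    rw [mul_assoc y z z, zz, mul_one, ← mul_assoc, yy, one_mul]
  have cay : y * z * (y * a * y) * (y * z) = z * a * z := by
    calc y * z * (y * a * y) * (y * z) = (y * z * y) * a * (y * y) * z := by simp only [mul_assoc]
      _ = z * a * z := by rw [yy, mul_one, mul_assoc y z y, ← hyz.eq, ← mul_assoc, yy, one_mul]
  have caz : y * z * (z * a * z) * (y * z) = y * a * y := by
    calc y * z * (z * a * z) * (y * z) = y * (z * z) * a * (z * y * z) := by simp only [mul_assoc]
      _ = y * a * y := by rw [zz, mul_one, ← hyz.eq, mul_assoc y z z, zz, mul_one]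
  refine ⟨?_, ?_, ?_⟩
  · rw [winv]
    calc a * (y * z * a * (y * z)) * y * (y * z * a * (y * z) * a)
        = a * (y * z * (a * (y * z * y * (y * z)) * a) * (y * z)) * a := by simp only [mul_assoc]
      _ = a * (z * a * z) * a := by rw [cy, by', cay]
      _ = z := by rw [← bz]; calc a * (a * z * a) * a = (a * a) * z * (a * a) := by simp only [mul_assoc]
                    _ = z := by rw [aa, one_mul, mul_one]
  · rw [winv]
    calc a * (y * z * a * (y * z)) * z * (y * z * a * (y * z) * a)
        = a * (y * z * (a * (y * z * z * (y * z)) * a) * (y * z)) * a := by simp only [mul_assoc]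
      _ = a * (y * a * y) * a := by rw [cz, bz, caz]
      _ = y := by rw [← by']; calc a * (a * y * a) * a = (a * a) * y * (a * a) := by simp only [mul_assoc]
                    _ = y := by rw [aa, one_mul, mul_one]
  · have zyz : z * y * z = y := by rw [← hyz.eq, mul_assoc, zz, mul_one]
    have hab : a * (y * z * a * (y * z)) * a = y * z * a * (y * z) := by
      calc a * (y * z * a * (y * z)) * a = (a * y * a) * (a * z * a) * (y * z * a) := by
            have e : a * y * a * (a * z * a) = a * y * z * a := by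
              calc a * y * a * (a * z * a) = a * y * (a * a) * z * a := by simp only [mul_assoc]
                _ = a * y * z * a := by rw [aa, mul_one]
            rw [e]; simp only [mul_assoc]
        _ = y * a * (y * z) * a * (z * y * z) * a := by rw [by', bz]; simp only [mul_assoc]
        _ = y * a * (z * y) * a * y * a := by rw [zyz, hyz.eq]
        _ = y * a * z * ((y * a * y) * a) := by simp only [mul_assoc]
        _ = y * (a * z * a) * y := by
            rw [← by', mul_assoc (a * y) a a, aa, mul_one]; simp only [mul_assoc]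
        _ = y * z * a * (y * z) := by rw [bz]; simp only [mul_assoc]; rw [hyz.eq]
    calc a * (y * z * a * (y * z)) * (a * (y * z * a * (y * z))) =
          (a * (y * z * a * (y * z)) * a) * (y * z * a * (y * z)) := by simp only [mul_assoc]
      _ = 1 := by rw [hab, b2]

/-- An extension of a sign to a larger group through an involution. -/
theorem exists_sign_of_swap [Finite G] {K H0 : Subgroup G} (hKH : K ≤ H0) (δ : ↥K →* ℤˣ) {d w : G} {r : ℕ}
    (hr : Odd r) (hdK : d ∈ K) (hd : δ ⟨d, hdK⟩ = -1) (hd2 : d * d = 1) (hdc : ∀ g ∈ H0, Commute g d) (hw : w ∈ H0) (hwK : w ∉ K)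
    (hw2 : w * w = 1) (hnorm : ∀ k : ↥K, ∃ h : w * (k : G) * w⁻¹ ∈ K, δ ⟨w * k * w⁻¹, h⟩ = δ k)
    (hcard : Nat.card ↥H0 = 2 * r * Nat.card ↥K) :
    ∃ ε : ↥H0 →* ℤˣ, ε ⟨d, hKH hdK⟩ = -1 := by
  set N := δ.ker.map K.subtype with hN
  have hwi : w⁻¹ = w := inv_eq_of_mul_eq_one_right hw2
  have hNn : ∀ x ∈ N, w * x * w ∈ N := by
    rintro _ ⟨k, hk, rfl⟩
    obtain ⟨h, e⟩ := hnorm k
    refine ⟨⟨_, h⟩, e.trans hk, ?_⟩
    show w * (k : G) * w⁻¹ = w * k * w
    rw [hwi]
  have hle : Nat.card ↥(closure (insert w (N : Set G))) ≤ 2 * Nat.card ↥N := by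
    have := card_closure_insert_le (S := (N : Set G)) hw2 (fun x hx => by rw [closure_eq]; exact hNn x hx)
    rwa [closure_eq] at this
  set M := closure (insert w (N : Set G))
  have hNM : N ≤ M := fun x hx => subset_closure (Set.mem_insert_of_mem _ hx)
  have hwM : w ∈ M := subset_closure (Set.mem_insert _ _)
  have hNK : N ≤ K := map_subtype_le _
  have hge : 2 * Nat.card ↥N ≤ Nat.card ↥M := by
    obtain ⟨c, hc⟩ := Subgroup.card_dvd_of_le hNM
    rcases Nat.lt_or_ge c 2 with hc2 | hc2
    · exfalso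
      interval_cases c
      · exact Nat.card_pos.ne' (hc.trans (mul_zero _))
      · exact hwK (hNK ((Subgroup.eq_of_le_of_card_ge hNM (le_of_eq (hc.trans (mul_one _)))).symm ▸ hwM))
    · rw [hc, mul_comm 2]; exact Nat.mul_le_mul_left _ hc2
  have hKN : Nat.card ↥K = 2 * Nat.card ↥N := by
    rw [hN, card_map_of_injective K.subtype_injective, ← δ.ker.card_mul_index,
      DihedralSupplement.index_ker_two δ hd, mul_comm]
  have hMH : M ≤ H0 := (closure_le _).2 (Set.insert_subset hw fun x hx => hKH (hNK hx))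
  have hdM : d ∉ M := by
    have hdN : d ∉ N := by
      rintro ⟨k, hk, e⟩
      have : k = ⟨d, hdK⟩ := Subtype.ext e
      rw [SetLike.mem_coe, MonoidHom.mem_ker, this, hd] at hk
      exact absurd hk (by decide)
    intro hdM'
    have hmem : d ∈ (N : Set G) ∪ (· * w) '' (N : Set G) := by
      have hset : ((N : Set G) ∪ (· * w) '' (N : Set G)) = (M : Set G) := by
        refine Set.eq_of_subset_of_ncard_le (Set.union_subset hNM ?_) ?_ (Set.toFinite _)
        · rintro _ ⟨x, hx, rfl⟩; exact mul_mem (hNM hx) hwM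
        · have hdisj : Disjoint (N : Set G) ((· * w) '' (N : Set G)) := by
            rw [Set.disjoint_left]
            rintro x hx ⟨x', hx', e⟩
            exact hwK (by
              have : w = x'⁻¹ * x := by rw [← show x' * w = x from e, inv_mul_cancel_left]
              rw [this]; exact hNK (mul_mem (inv_mem hx') hx))
          rw [Set.ncard_union_eq hdisj (Set.toFinite _) (Set.toFinite _),
            Set.ncard_image_of_injective _ (mul_left_injective w), ← Nat.card_coe_set_eq, ← Nat.card_coe_set_eq]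
          show Nat.card ↥M ≤ Nat.card ↥N + Nat.card ↥N
          omega
      rw [hset]; exact hdM'
    rcases hmem with h | ⟨x, hx, e⟩
    · exact hdN h
    · refine hwK ?_
      have : w = x⁻¹ * d := by rw [← show x * w = d from e, inv_mul_cancel_left]
      rw [this]; exact mul_mem (inv_mem (hNK hx)) hdK
  have hidx : (M.subgroupOf H0).index = 2 ^ 1 * r := by
    have h := (M.subgroupOf H0).card_mul_index
    rw [Nat.card_congr (Subgroup.subgroupOfEquivOfLe hMH).toEquiv, hcard, show Nat.card ↥M = Nat.card ↥K by omega,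
      mul_comm (2 * r)] at h
    rw [pow_one]
    exact Nat.eq_of_mul_eq_mul_left Nat.card_pos h
  obtain ⟨ε, hε⟩ := DihedralSupplement.exists_sign (M.subgroupOf H0) le_rfl hr hidx
  refine ⟨ε, hε _ (Subtype.ext (by simp [sq, hd2])) fun g => ?_⟩
  have hgk : g⁻¹ * (⟨d, hKH hdK⟩ : ↥H0) ^ (2 ^ (1 - 1)) * g = ⟨d, hKH hdK⟩ := by
    refine Subtype.ext ?_
    simp only [Nat.sub_self, pow_zero, pow_one, coe_mul, coe_inv]
    rw [(hdc _ g.2).inv_left.eq, inv_mul_cancel_right]
  rw [hgk, mem_subgroupOf]
  exact hdM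

/-- The centraliser of a member has a sign taking every neighbour to minus one. -/
theorem M24.exists_sign_closure_perp [Finite G] (h : M24 D) :
    ∃ d ∈ D, (∃ bs : List G, Odd bs.length ∧ (∀ x ∈ bs, x ∈ perp D d) ∧ bs.prod = d) ∧
      ∃ ε : ↥(closure (perp D d)) →* ℤˣ,
        ∀ x : ↥(closure (perp D d)), ((x : G) = d ∨ (x : G) ∈ perp D d) → ε x = -1 := by
  obtain ⟨d, hd, hQ, bs, -, hlen, hbm, -, hprod⟩ := h.descended
  refine ⟨d, hd, ⟨bs, hlen ▸ ⟨3, rfl⟩, hbm, hprod⟩, ?_⟩
  have hE := h.cls.1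
  have hT := h.solid.full.tower.twin
  obtain ⟨q, hq, hQ2⟩ := hQ.descended
  obtain ⟨y, hy, rfl⟩ := id hq
  obtain ⟨z, F, _, _, H, Q, _, π, φ, m, hM⟩ := h.exists_tripleModel hd hQ hy hQ2
  have hD := h.short
  obtain ⟨δ, hδ⟩ := hM.exists_sign hD
  have hz := hM.mem_z.1
  have cyz : Commute (y : G) z := hM.mem_z.2.2.2
  set zH : ↥(closure (perp D d)) := ⟨z, subset_closure hz⟩
  have hz1 : (QuotientGroup.mk zH : ↥(closure (perp D d)) ⧸ center ↥(closure (perp D d))) ∈ descSet D d := ⟨zH, hz, rfl⟩
  obtain ⟨a1, ha1, n1, n2, -⟩ := hQ.solid.full.exists_nonperp₄ (QuotientGroup.mk y) (QuotientGroup.mk zH)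
    (QuotientGroup.mk y) (QuotientGroup.mk y) ⟨y, hy, rfl⟩ hz1 ⟨y, hy, rfl⟩ ⟨y, hy, rfl⟩
  obtain ⟨aH, haH, rfl⟩ := ha1
  set a : G := (aH : G)
  have hay : ¬ Commute a y := fun hc => n1 ((desc_commute_iff h.cls hT hd hy haH).2 hc.symm)
  have haz : ¬ Commute a z := fun hc => n2 ((desc_commute_iff h.cls hT hd hz haH).2 hc.symm)
  obtain ⟨wy, wz, w2⟩ := member_swap_facts hE haH.1 hy.1 hz.1 hay haz cyz
  set w := a * ((y : G) * z * a * ((y : G) * z))
  have hwH : w ∈ (closure (perp D d)) := mul_mem aH.2 (mul_mem (mul_mem (mul_mem y.2 (subset_closure hz)) aH.2)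
    (mul_mem y.2 (subset_closure hz)))
  have hself := h.solid.self_mem d hd
  have hKH : (closure (triGen D d y z)) ≤ (closure (perp D d)) := (closure_le _).2 (by
    rintro x ((rfl | rfl | rfl) | hx)
    · exact hself
    · exact y.2
    · exact subset_closure hz
    · exact subset_closure hx.1.1)
  have hdK : d ∈ (closure (triGen D d y z)) := subset_closure (Or.inl (by simp))
  have wd : w * d * w⁻¹ = d := by rw [(closure_perp_commute hwH).eq, mul_inv_cancel_right]
  have hwK : w ∉ (closure (triGen D d y z)) := fun hw => by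
    obtain ⟨-, c2, -⟩ := hM.closure_commute hD hw
    exact hM.mem_z.2.2.1 (by rw [← wy, c2.eq, mul_inv_cancel_right])
  have hmapK : ∀ k ∈ (closure (triGen D d y z)), w * k * w⁻¹ ∈ (closure (triGen D d y z)) := by
    have hle : (closure (triGen D d y z)) ≤ (closure (triGen D d y z)).comap (MulAut.conj w).toMonoidHom := by
      rw [closure_le]
      rintro x ((rfl | rfl | rfl) | hx)
      · rw [SetLike.mem_coe, mem_comap, MulEquiv.coe_toMonoidHom, MulAut.conj_apply]
        rw [wd]; exact hdK
      · show w * (y : G) * w⁻¹ ∈ (closure (triGen D d y z))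
        rw [wy]; exact subset_closure (Or.inl (by simp))
      · rw [SetLike.mem_coe, mem_comap, MulEquiv.coe_toMonoidHom, MulAut.conj_apply]
        rw [wz]; exact subset_closure (Or.inl (by simp))
      · show w * x * w⁻¹ ∈ (closure (triGen D d y z))
        refine subset_closure (Or.inr ?_)
        have key : ∀ p, x ∈ perp D p → w * x * w⁻¹ ∈ perp D (w * p * w⁻¹) := fun p hp => by
          rw [← conj_image_perp h.cls w p]; exact ⟨x, hp, rfl⟩
        exact ⟨⟨wd ▸ key d hx.1.1, wz ▸ key z hx.2⟩, wy ▸ key y hx.1.2⟩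
    exact fun k hk => hle hk
  -- the sign is kept by the swap
  let cw : ↥(closure (triGen D d y z)) →* ↥(closure (triGen D d y z)) := (((MulAut.conj w).toMonoidHom.comp (closure (triGen D d y z)).subtype).codRestrict (closure (triGen D d y z)) fun k => hmapK k k.2)
  let χ : ↥(closure (triGen D d y z)) →* ℤˣ := δ * δ.comp cw
  have hχ : ∀ k, χ k = 1 := by
    have hker : ∀ n : ↥(closure (triGen D d y z)), φ n = 1 → χ n = 1 := by
      have t : ∀ n : ↥(closure (triGen D d y z)), ((n : G) = d ∨ (n : G) = y ∨ (n : G) = z) → χ n = 1 := fun n hn => by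
        show δ n * δ (cw n) = 1
        rw [hδ n hn, hδ (cw n) (by
          show w * (n : G) * w⁻¹ = d ∨ w * (n : G) * w⁻¹ = y ∨ w * (n : G) * w⁻¹ = z
          rcases hn with e | e | e <;> rw [e]
          · exact Or.inl wd
          · exact Or.inr (Or.inr wy)
          · exact Or.inr (Or.inl wz))]
        decide
      intro n hn
      have dK : d ∈ (closure (triGen D d y z)) := hdK
      have yK : (y : G) ∈ (closure (triGen D d y z)) := subset_closure (Or.inl (by simp))
      have zK : z ∈ (closure (triGen D d y z)) := subset_closure (Or.inl (by simp))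
      have t1 := t ⟨d, dK⟩ (Or.inl rfl)
      have t2 := t ⟨y, yK⟩ (Or.inr (Or.inl rfl))
      have t3 := t ⟨z, zK⟩ (Or.inr (Or.inr rfl))
      have h8 := hM.ker_eight n hn
      simp only [eight, List.mem_cons, List.not_mem_nil, or_false] at h8
      rcases h8 with e | e | e | e | e | e | e | e
      · rw [show n = 1 from Subtype.ext e, map_one]
      · rw [show n = ⟨d, dK⟩ from Subtype.ext e, t1]
      · rw [show n = ⟨y, yK⟩ from Subtype.ext e, t2]
      · rw [show n = ⟨z, zK⟩ from Subtype.ext e, t3]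
      · rw [show n = ⟨d, dK⟩ * ⟨y, yK⟩ from Subtype.ext e, map_mul, t1, t2, one_mul]
      · rw [show n = ⟨d, dK⟩ * ⟨z, zK⟩ from Subtype.ext e, map_mul, t1, t3, one_mul]
      · rw [show n = ⟨y, yK⟩ * ⟨z, zK⟩ from Subtype.ext e, map_mul, t2, t3, one_mul]
      · rw [show n = ⟨d, dK⟩ * ⟨y, yK⟩ * ⟨z, zK⟩ from Subtype.ext e, map_mul, map_mul, t1, t2, t3, one_mul, one_mul]
    intro k
    have hk : φ k ∈ (commutator ↥(closure (triGen D d y z))).map φ := by
      rw [_root_.commutator_def, map_commutator, map_top_of_surjective φ hM.surj, ← _root_.commutator_def, hM.perfect]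
      exact mem_top _
    obtain ⟨c, hc, hce⟩ := hk
    have hc1 : χ c = 1 := Abelianization.commutator_subset_ker χ hc
    have := hker (c⁻¹ * k) (by rw [map_mul, map_inv, hce, inv_mul_cancel])
    rwa [map_mul, map_inv, hc1, inv_one, one_mul] at this
  have hnorm : ∀ k : ↥(closure (triGen D d y z)), ∃ hk : w * (k : G) * w⁻¹ ∈ (closure (triGen D d y z)), δ ⟨w * k * w⁻¹, hk⟩ = δ k := fun k => by
    refine ⟨hmapK k k.2, ?_⟩
    have := hχ k
    change δ k * δ (cw k) = 1 at this
    calc δ ⟨w * k * w⁻¹, hmapK k k.2⟩ = δ (cw k) := rfl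
      _ = (δ k)⁻¹ := eq_inv_of_mul_eq_one_right this
      _ = δ k := Int.units_inv_eq_self _
  have hcard : Nat.card ↥(closure (perp D d)) = 2 * (31671 * 1755) * Nat.card ↥(closure (triGen D d y z)) := by
    rw [hM.card_tri hD, Subgroup.card_eq_card_quotient_mul_card_subgroup (center ↥(closure (perp D d))), hQ.card_group,
      h.solid.card_center_closure_perp hd]
  obtain ⟨ε, hε⟩ := exists_sign_of_swap hKH δ (r := 31671 * 1755) ⟨27791302, by norm_num⟩ hdK
    (hδ ⟨d, hdK⟩ (Or.inl rfl)) (sq_eq_one hE hd) (fun g hg => closure_perp_commute hg) hwH hwK w2 hnorm hcard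
  refine ⟨ε, ?_⟩
  have hconst : ∀ x x' : ↥(closure (perp D d)), (x : G) ∈ perp D d → (x' : G) ∈ perp D d → ε x = ε x' := fun x x' hx hx' => by
    obtain ⟨g, hg, hgx⟩ := h.solid.full.tower.rich.perp_transitive hd hx hx'
    rw [show x' = ⟨g, hg⟩ * x * ⟨g, hg⟩⁻¹ from Subtype.ext hgx.symm, map_mul, map_mul, map_inv,
      mul_comm (ε ⟨g, hg⟩), mul_inv_cancel_right]
  obtain ⟨x₀, hx₀⟩ := h.solid.full.tower.rich.exists_perp hd
  set c := ε ⟨x₀, subset_closure hx₀⟩
  have hlist : ∀ (l : List G) (hl : ∀ x ∈ l, x ∈ perp D d),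
      ε ⟨l.prod, list_prod_mem fun x hx => subset_closure (hl x hx)⟩ = c ^ l.length := by
    intro l
    induction l with
    | nil => intro _; exact (congrArg ε (Subtype.ext rfl)).trans ((map_one ε).trans (pow_zero c).symm)
    | cons x l ih =>
      intro hl
      have := ih fun x hx => hl x (List.mem_cons_of_mem _ hx)
      rw [List.length_cons, pow_succ', ← this, show c = ε ⟨x, subset_closure (hl x (List.mem_cons_self ..))⟩ from
        (hconst ⟨x, subset_closure (hl x (List.mem_cons_self ..))⟩ ⟨x₀, subset_closure hx₀⟩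
          (hl x (List.mem_cons_self ..)) hx₀).symm, ← map_mul]
      exact congrArg ε (Subtype.ext List.prod_cons)
  have hc : c = -1 := by
    rcases Int.units_eq_one_or c with e | e
    · have := hlist bs hbm
      rw [e, one_pow] at this
      have e2 : (⟨bs.prod, list_prod_mem fun x hx => subset_closure (hbm x hx)⟩ : ↥(closure (perp D d))) = ⟨d, hKH hdK⟩ :=
        Subtype.ext hprod
      rw [e2, hε] at this
      exact absurd this (by decide)
    · exact e
  rintro x (hx | hx)
  · rw [show x = ⟨d, hKH hdK⟩ from Subtype.ext hx, hε]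
  · rw [hconst x ⟨x₀, subset_closure hx₀⟩ hx hx₀, ← hc]

/-- The sign of a group of type M(24). -/
theorem M24.exists_sign [Finite G] (h : M24 D) : ∃ χ : G →* ℤˣ, ∀ x ∈ D, χ x = -1 := by
  obtain ⟨d, hd, ⟨bs, hbo, hbm, hprod⟩, ε, hε⟩ := h.exists_sign_closure_perp
  have hcls := h.cls
  have hE := hcls.1
  set hat : G → G × ℤˣ := fun p => (p, -1) with hhat
  set Dh : Set (G × ℤˣ) := hat '' D with hDh
  have hinj : Function.Injective hat := fun a b e => congrArg Prod.fst e
  have hcomm : ∀ a b : G, Commute (hat a) (hat b) ↔ Commute a b := fun a b =>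
    ⟨fun hc => congrArg Prod.fst hc.eq, fun hc => Prod.ext hc.eq rfl⟩
  have hperp : ∀ p, perp Dh (hat p) = hat '' perp D p := by
    intro p
    ext x
    constructor
    · rintro ⟨⟨v, hv, rfl⟩, h1, h2⟩
      exact ⟨v, ⟨hv, fun e => h1 (by rw [e]), (hcomm p v).1 h2⟩, rfl⟩
    · rintro ⟨v, ⟨hv, h1, h2⟩, rfl⟩
      exact ⟨⟨v, hv, rfl⟩, fun e => h1 (hinj e), (hcomm p v).2 h2⟩
  have hconj : ∀ (g : G × ℤˣ), ∀ x ∈ Dh, g * x * g⁻¹ ∈ Dh := by
    rintro g _ ⟨v, hv, rfl⟩
    refine ⟨g.1 * v * g.1⁻¹, conj_mem hcls g.1 hv, Prod.ext rfl ?_⟩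
    show (-1 : ℤˣ) = g.2 * -1 * g.2⁻¹
    rw [mul_comm g.2, mul_inv_cancel_right]
  have hEh : IsThreeTranspositionSet Dh := by
    refine ⟨?_, ?_⟩
    · rintro _ ⟨v, hv, rfl⟩
      refine orderOf_eq_prime (p := 2) (Prod.ext ?_ ?_) fun e => ?_
      · show v ^ 2 = 1; rw [sq, sq_eq_one hE hv]
      · show (-1 : ℤˣ) ^ 2 = 1; decide
      · exact absurd (congrArg Prod.snd e) (by decide : ¬ ((-1 : ℤˣ) = 1))
    · rintro _ ⟨v, hv, rfl⟩ _ ⟨v', hv', rfl⟩
      rcases hE.2 _ hv _ hv' with e | e
      · exact Or.inl (Prod.ext e (show ((-1 : ℤˣ) * -1) ^ 2 = 1 by decide))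
      · exact Or.inr (Prod.ext e (show ((-1 : ℤˣ) * -1) ^ 3 = 1 by decide))
  -- neighbourhood groups miss the sign
  have hbase : ((1 : G), (-1 : ℤˣ)) ∉ closure (perp Dh (hat d)) := by
    intro hm
    have hle : closure (perp Dh (hat d)) ≤
        ((closure (perp D d)).subtype.prod ε).range := by
      rw [closure_le, hperp]
      rintro _ ⟨v, hv, rfl⟩
      exact ⟨⟨v, subset_closure hv⟩, Prod.ext rfl (hε _ (Or.inr hv))⟩
    obtain ⟨g, hg⟩ := hle hm
    have h1 : g = 1 := Subtype.ext (congrArg Prod.fst hg)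
    have h2 : ε g = -1 := congrArg Prod.snd hg
    rw [h1, map_one] at h2
    exact absurd h2 (by decide)
  have hselfd : hat d ∈ closure (perp Dh (hat d)) := by
    have hm : (bs.map hat).prod ∈ closure (perp Dh (hat d)) := by
      refine list_prod_mem fun x hx => subset_closure ?_
      obtain ⟨v, hv, rfl⟩ := List.mem_map.1 hx
      rw [hperp]
      exact ⟨v, hbm v hv, rfl⟩
    have he : ∀ l : List G, (l.map hat).prod = (l.prod, (-1 : ℤˣ) ^ l.length) := by
      intro l
      induction l with
      | nil => rfl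
      | cons x l ih => rw [List.map_cons, List.prod_cons, ih, List.prod_cons, List.length_cons, pow_succ']; rfl
    rw [he, hprod, hbo.neg_one_pow] at hm
    exact hm
  have hmove : ∀ (g p : G), (closure (perp Dh (hat p))).map (MulAut.conj (g, (1 : ℤˣ))).toMonoidHom =
      closure (perp Dh (hat (g * p * g⁻¹))) := by
    intro g p
    rw [MonoidHom.map_closure, hperp, hperp, ← conj_image_perp hcls g p, Set.image_image, Set.image_image]
    congr 1
  have hmiss : ∀ p ∈ D, ((1 : G), (-1 : ℤˣ)) ∉ closure (perp Dh (hat p)) := by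
    intro p hp hm
    obtain ⟨g, rfl⟩ := exists_conj hcls hd hp
    rw [← hmove g d] at hm
    obtain ⟨k, hk, e⟩ := hm
    refine hbase ?_
    have : k = ((1 : G), (-1 : ℤˣ)) := by
      refine (MulAut.conj (g, (1 : ℤˣ))).injective (e.trans (Prod.ext ?_ ?_)) <;> simp
    rwa [this] at hk
  have hself : ∀ p ∈ Dh, p ∈ closure (perp Dh p) := by
    rintro _ ⟨p, hp, rfl⟩
    obtain ⟨g, rfl⟩ := exists_conj hcls hd hp
    rw [← hmove g d]
    exact ⟨hat d, hselfd, Prod.ext rfl (by show (1 : ℤˣ) * -1 * 1⁻¹ = -1; decide)⟩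
  have huniq : ∀ {p : G}, p ∈ D → ∀ {x x' : G × ℤˣ}, x ∈ closure (perp Dh (hat p)) →
      x' ∈ closure (perp Dh (hat p)) → x.1 = x'.1 → x = x' := by
    intro p hp x x' hx hx' e
    have hm := mul_mem (inv_mem hx) hx'
    rcases Int.units_eq_one_or (x⁻¹ * x').2 with e2 | e2
    · exact inv_mul_eq_one.1 (Prod.ext (by simp [e]) e2)
    · refine absurd ?_ (hmiss p hp)
      rwa [show x⁻¹ * x' = ((1 : G), (-1 : ℤˣ)) from Prod.ext (by simp [e]) e2] at hm
  have hlift : ∀ (S : Set G) (k : G), k ∈ closure S → ∃ k' ∈ closure (hat '' S), k'.1 = k := by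
    intro S k hk
    have : closure S ≤ (closure (hat '' S)).map (MonoidHom.fst G ℤˣ) := by
      rw [MonoidHom.map_closure, Set.image_image]
      simp [hhat]
    obtain ⟨k', hk', e⟩ := this hk
    exact ⟨k', hk', e⟩
  have htri : ∀ {u v w : G × ℤˣ}, u ∈ Dh → v ∈ Dh → w ∈ Dh → ¬ Commute u v → ¬ Commute u w → ¬ Commute v w →
      ∃ k ∈ closure (perp Dh u), v * w * (u * v) = u * w * k := by
    intro u' v' w' hu' hv' hw' huv' huw' hvw'
    obtain ⟨u, hu, rfl⟩ := hu'
    obtain ⟨v, hv, rfl⟩ := hv'
    obtain ⟨w, hw, rfl⟩ := hw'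
    have huv : ¬ Commute u v := fun e => huv' ((hcomm u v).2 e)
    have huw : ¬ Commute u w := fun e => huw' ((hcomm u w).2 e)
    have hvw : ¬ Commute v w := fun e => hvw' ((hcomm v w).2 e)
    have uu := sq_eq_one hE hu
    have vv := sq_eq_one hE hv
    have ww := sq_eq_one hE hw
    refine ⟨hat w * hat u * hat v * hat w * hat u * hat v, ?_, Prod.ext ?_ ?_⟩
    swap
    · show v * w * (u * v) = u * w * (w * u * v * w * u * v)
      calc v * w * (u * v) = (u * (w * w) * u) * (v * w * (u * v)) := by rw [ww, mul_one, uu, one_mul]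
        _ = _ := by simp only [mul_assoc]
    swap
    · show (-1 : ℤˣ) * -1 * (-1 * -1) = -1 * -1 * (-1 * -1 * -1 * -1 * -1 * -1)
      decide
    have mem_of : ∀ {x : G}, x ∈ D → Commute x u → hat x ∈ closure (perp Dh (hat u)) := fun {x} hx hc => by
      by_cases e : x = u
      · rw [e]; exact hself _ ⟨u, hu, rfl⟩
      · exact subset_closure (hperp u ▸ ⟨x, ⟨hx, e, hc.symm⟩, rfl⟩)
    by_cases hpl : Commute (u * v * u) w
    · by_cases e : w = u * v * u
      · have : hat w * hat u * hat v * hat w * hat u * hat v = 1 := by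
          refine Prod.ext ?_ (show (-1 : ℤˣ) * -1 * -1 * -1 * -1 * -1 = 1 by decide)
          show w * u * v * w * u * v = 1
          rw [e]
          calc u * v * u * u * v * (u * v * u) * u * v = u * (v * ((u * u) * v)) * (u * (v * ((u * u) * v))) := by
                simp only [mul_assoc]
            _ = 1 := by rw [uu, one_mul, vv, mul_one, uu]
        rw [this]; exact one_mem _
      · have hk : w * u * v * w * u * v = u * (v * w * v) := by
          calc w * u * v * w * u * v = (w * (u * v * u)) * (u * w * u) * v := by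
                simp only [mul_assoc]; rw [← mul_assoc u u, uu, one_mul]
            _ = ((u * v * u) * w) * (u * w * u) * v := by rw [hpl.symm.eq]
            _ = u * v * (u * w * u) * w * u * v := by simp only [mul_assoc]
            _ = u * v * (w * u * w) * w * u * v := by rw [braid hE hu hw huw]
            _ = u * v * w * (u * ((w * w) * u)) * v := by simp only [mul_assoc]
            _ = _ := by rw [ww, one_mul, uu, mul_one]; simp only [mul_assoc]
        rw [show hat w * hat u * hat v * hat w * hat u * hat v = hat u * hat (v * w * v) from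
          Prod.ext hk (show (-1 : ℤˣ) * -1 * -1 * -1 * -1 * -1 = -1 * -1 by decide)]
        refine mul_mem (hself _ ⟨u, hu, rfl⟩) (mem_of ?_ ?_)
        · simpa [inv_eq hE hv] using conj_mem hcls v hw
        · rw [show v * w * v = v * w * v⁻¹ by rw [inv_eq hE hv],
            show u = v * (u * v * u) * v⁻¹ by
              rw [braid hE hu hv huv, inv_eq hE hv]
              calc u = (v * v) * u * (v * v) := by rw [vv, one_mul, mul_one]
                _ = _ := by simp only [mul_assoc],
            conj_commute_iff]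
          exact hpl.symm
    · obtain ⟨f, hfD, hfu, hfv, hfw⟩ := h.solid.full.plane u hu v hv w hw huv (fun h' => huw h'.symm)
        (fun h' => hvw h'.symm) fun h' => hpl h'.symm
      have hu1 : u ∈ perp D f := ⟨hu, fun e => huv (e ▸ hfv), hfu⟩
      have hv1 : v ∈ perp D f := ⟨hv, fun e => huv (e ▸ hfu).symm, hfv⟩
      have hw1 : w ∈ perp D f := ⟨hw, fun e => huw (e ▸ hfu).symm, hfw⟩
      have mf : ∀ {x : G}, x ∈ perp D f → hat x ∈ closure (perp Dh (hat f)) := fun {x} hx =>
        subset_closure (hperp f ▸ ⟨x, hx, rfl⟩)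
      have hk' := mul_mem (mul_mem (mul_mem (mul_mem (mul_mem (mf hw1) (mf hu1)) (mf hv1)) (mf hw1)) (mf hu1)) (mf hv1)
      have hfix : Commute (w * u * v * w * u * v) u := by
        refine mul_inv_eq_iff_eq_mul.1 ?_
        calc w * u * v * w * u * v * u * (w * u * v * w * u * v)⁻¹
            = (w * u) * ((v * w) * ((u * v) * u * (u * v)⁻¹) * (v * w)⁻¹) * (w * u)⁻¹ := by group
          _ = u := by rw [mul_conj_eq hE hu hv huv, mul_conj_eq hE hv hw hvw, mul_conj_eq hE hw hu fun h' => huw h'.symm]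
      obtain ⟨k, hk, zz, hzz, hzzH, e⟩ := h.solid.stab f hfD u hu1 _
        (mul_mem (mul_mem (mul_mem (mul_mem (mul_mem (subset_closure hw1) (subset_closure hu1)) (subset_closure hv1))
          (subset_closure hw1)) (subset_closure hu1)) (subset_closure hv1)) hfix
      obtain ⟨k', hk'm, hk'e⟩ := hlift _ k hk
      have hkf : k' ∈ closure (perp Dh (hat f)) := closure_mono
        (by rw [hperp]; exact Set.image_mono Set.inter_subset_left) hk'm
      have hku : k' ∈ closure (perp Dh (hat u)) := closure_mono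
        (by rw [hperp]; exact Set.image_mono Set.inter_subset_right) hk'm
      rcases h.solid.full.eq_one_or_self hfD (closure_perp_commute hzzH).symm hzz with e1 | e1
      · rw [huniq hfD hk' hkf (show w * u * v * w * u * v = k'.1 by rw [hk'e, e, e1, mul_one])]
        exact hku
      · rw [huniq hfD hk' (mul_mem hkf (hself _ ⟨f, hfD, rfl⟩))
          (show w * u * v * w * u * v = k'.1 * f by rw [hk'e, e, e1])]
        exact mul_mem hku (mem_of hfD hfu)
  have hnp : ∀ p q r s : G × ℤˣ, p ∈ Dh → q ∈ Dh → r ∈ Dh → s ∈ Dh →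
      ∃ w ∈ Dh, ¬ Commute p w ∧ ¬ Commute q w ∧ ¬ Commute r w ∧ ¬ Commute s w := by
    intro p' q' r' s' hp' hq' hr' hs'
    obtain ⟨p, hp, rfl⟩ := hp'
    obtain ⟨q, hq, rfl⟩ := hq'
    obtain ⟨r, hr, rfl⟩ := hr'
    obtain ⟨s, hs, rfl⟩ := hs'
    obtain ⟨w, hw, h1, h2, h3, h4⟩ := h.solid.full.exists_nonperp₄ p q r s hp hq hr hs
    exact ⟨hat w, ⟨w, hw, rfl⟩, fun e => h1 ((hcomm _ _).1 e), fun e => h2 ((hcomm _ _).1 e),
      fun e => h3 ((hcomm _ _).1 e), fun e => h4 ((hcomm _ _).1 e)⟩
  have hone : ((1 : G), (-1 : ℤˣ)) ∉ closure Dh := fun hm =>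
    hmiss d hd (centralizer_le_of_triangle hEh hconj hself hnp htri ⟨d, hd, rfl⟩ hm
      (Prod.ext ((one_mul d).trans (mul_one d).symm) (show (-1 : ℤˣ) * -1 = -1 * -1 from rfl)))
  -- the projection is an isomorphism
  set pr := (MonoidHom.fst G ℤˣ).comp (closure Dh).subtype
  have hprinj : Function.Injective pr := by
    rw [injective_iff_map_eq_one]
    intro x hx
    rcases Int.units_eq_one_or (x : G × ℤˣ).2 with e | e
    · exact Subtype.ext (Prod.ext hx e)
    · refine absurd ?_ hone
      have := x.2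
      rwa [show (x : G × ℤˣ) = ((1 : G), (-1 : ℤˣ)) from Prod.ext hx e] at this
  have hprsurj : Function.Surjective pr := by
    have hle : (⊤ : Subgroup G) ≤ pr.range := by
      rw [← hcls.2.2, closure_le]
      intro v hv
      exact ⟨⟨hat v, subset_closure ⟨v, hv, rfl⟩⟩, rfl⟩
    exact fun g => hle (mem_top g)
  set iso := MulEquiv.ofBijective pr ⟨hprinj, hprsurj⟩
  refine ⟨((MonoidHom.snd G ℤˣ).comp (closure Dh).subtype).comp iso.symm.toMonoidHom, fun x hx => ?_⟩
  have : iso.symm x = ⟨hat x, subset_closure ⟨x, hx, rfl⟩⟩ := iso.injective (by rw [iso.apply_symm_apply]; rfl)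
  show ((iso.symm x : ↥(closure Dh)) : G × ℤˣ).2 = -1
  rw [this]

end Cfsg.Lib.ThreeTr
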