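import Cfsg.Agent.ThreeTransposition.M24Count.FixedMember
import Cfsg.Agent.ThreeTransposition.M24Count.Parity

/-!
The four classes of involutions of type M(24).
-/

set_option autoImplicit false
set_option linter.unusedSectionVars false
set_option linter.style.haveILetI false

namespace Cfsg.Lib.ThreeTr

open Cfsg Subgroup

attribute [local instance] _root_.Classical.propDecidable

universe u

variable {G : Type u} [Group G] {D : Set G}

namespace M24

variable [Finite G] (h : M24 D)
include h

theorem twin : TwinFree D := h.solid.full.tower.twin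

theorem listTrans : ListTrans D 4 := by
  obtain ⟨d, hd, hQ, -⟩ := h.descended
  exact ListTrans.succ h.cls h.twin hd hQ.listTrans

/-- Every involution is a product of at most four commuting members. -/
theorem invForm : InvForm D 4 := by
  intro x hx
  obtain ⟨d, hd, hQ, -⟩ := h.descended
  obtain ⟨p, hp, hxp⟩ := h.exists_fixed (mul_self_of_orderOf_two hx)
  obtain ⟨g, hg⟩ := exists_conj h.cls hp hd
  have hgx : g * x * g⁻¹ ∈ closure (perp D d) := by
    rw [← h.solid.centralizer_eq hd]
    refine mem_centralizer_singleton_iff.2 ?_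
    rw [← hg]
    exact ((conj_commute_iff g x p).2 hxp).eq
  obtain ⟨s, hs, h1, h4, hsp⟩ := form_in_centraliser h.cls h.twin hd h.solid.full hQ.invForm hgx (by
    rw [← hx]; exact orderOf_injective (MulAut.conj g).toMonoidHom (MulAut.conj g).injective x)
  refine ⟨s.map fun a => g⁻¹ * a * g⁻¹⁻¹, hs.map_conj h.cls g⁻¹, by simpa using h1, by simpa using h4, ?_⟩
  rw [conj_list_prod, hsp]
  group

theorem sign_prod {l : List G} (hl : ∀ a ∈ l, a ∈ D) {χ : G →* ℤˣ} (hχ : ∀ a ∈ D, χ a = -1) :
    χ l.prod = (-1) ^ l.length := by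
  induction l with
  | nil => simp
  | cons a t ih =>
    rw [List.prod_cons, map_mul, hχ a (hl a (by simp)), ih fun b hb => hl b (by simp [hb]), List.length_cons, pow_succ']

/-- A product of four commuting members is not one of two. -/
theorem four_ne_two {a b c e f g : G} (h4 : CList D [a, b, c, e]) (h2 : CList D [f, g]) :
    [a, b, c, e].prod ≠ [f, g].prod := by
  intro he
  have hE := h.cls.1
  have hf := h2.mem f (by simp); have hg := h2.mem g (by simp)
  have hfg : f ≠ g := by simpa using h2.nodup
  have cfg := h2.comm f (by simp) g (by simp)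
  have hcm : ∀ z ∈ [a, b, c, e], Commute z f ∧ Commute z g := fun z hz => by
    refine (commute_pair_iff hE hf hg (h4.mem z hz) hfg cfg).1 ?_
    rw [show f * g = [f, g].prod by simp, ← he]
    exact Commute.list_prod_right _ _ fun w hw => h4.comm z hz w hw
  have hcomm : ∀ z ∈ [a, b, c, e] ++ [f, g], ∀ w ∈ [a, b, c, e] ++ [f, g], Commute z w := by
    intro z hz w hw
    rw [List.mem_append] at hz hw
    rcases hz with hz | hz <;> rcases hw with hw | hw
    · exact h4.comm z hz w hw
    · rcases List.mem_pair.1 hw with rfl | rfl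
      exacts [(hcm z hz).1, (hcm z hz).2]
    · rcases List.mem_pair.1 hz with rfl | rfl
      exacts [(hcm w hw).1.symm, (hcm w hw).2.symm]
    · exact h2.comm z hz w hw
  have hprod : ([a, b, c, e] ++ [f, g]).prod = 1 := by
    rw [List.prod_append, he, h2.mul_self hE]
  by_cases hn : ([a, b, c, e] ++ [f, g]).Nodup
  · exact h.short.six _ rfl hn (fun z hz => (List.mem_append.1 hz).elim (h4.mem z) (h2.mem z)) hcomm hprod
  -- one of the two is among the four: three equal one
  obtain ⟨w, hw4, hw2⟩ : ∃ w, w ∈ [a, b, c, e] ∧ w ∈ [f, g] := by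
    by_contra hd
    push Not at hd
    exact hn (List.nodup_append.2 ⟨h4.nodup, h2.nodup, fun x hx y hy e' => hd x hx (e' ▸ hy)⟩)
  obtain ⟨r, hr⟩ : ∃ r, (w :: r).Perm [a, b, c, e] := ⟨_, (List.perm_cons_erase hw4).symm⟩
  obtain ⟨r', hr'⟩ : ∃ r', (w :: r').Perm [f, g] := ⟨_, (List.perm_cons_erase hw2).symm⟩
  have hw : CList D (w :: r) := ⟨hr.nodup_iff.2 h4.nodup, fun z hz => h4.mem z (hr.subset hz),
    fun z hz v hv => h4.comm z (hr.subset hz) v (hr.subset hv)⟩
  have hw' : CList D (w :: r') := ⟨hr'.nodup_iff.2 h2.nodup, fun z hz => h2.mem z (hr'.subset hz),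
    fun z hz v hv => h2.comm z (hr'.subset hz) v (hr'.subset hv)⟩
  have e1 := hr.prod_eq' (List.pairwise_of_forall_mem_list fun z hz v hv => hw.comm z hz v hv)
  have e2 := hr'.prod_eq' (List.pairwise_of_forall_mem_list fun z hz v hv => hw'.comm z hz v hv)
  rw [← e1, ← e2, List.prod_cons, List.prod_cons] at he
  have l1 := hr.length_eq
  have l2 := hr'.length_eq
  simp only [List.length_cons, List.length_nil] at l1 l2
  have := h.solid.full.tower.length_unique (by norm_num) (by norm_num) hw.of_cons.1 hw'.of_cons.1 (by omega) (by omega)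
    (by omega) (by omega) (mul_left_cancel he)
  omega

theorem length_unique {l l' : List G} (hl : CList D l) (hl' : CList D l') (h1 : 1 ≤ l.length) (h4 : l.length ≤ 4)
    (h1' : 1 ≤ l'.length) (h4' : l'.length ≤ 4) (e : l.prod = l'.prod) : l.length = l'.length := by
  obtain ⟨χ, hχ⟩ := h.exists_sign
  have hpar : (-1 : ℤˣ) ^ l.length = (-1) ^ l'.length := by
    rw [← h.sign_prod hl.mem hχ, ← h.sign_prod hl'.mem hχ, e]
  have low : ∀ {s s' : List G}, CList D s → CList D s' → s.length = 4 → s'.length = 2 → s.prod ≠ s'.prod := by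
    intro s s' hs hs' h4 h2
    match s, s', h4, h2 with
    | [a, b, c, e], [f, g], _, _ => exact h.four_ne_two hs hs'
  by_cases e4 : l.length = 4 <;> by_cases e4' : l'.length = 4
  · omega
  · by_contra
    by_cases e2 : l'.length = 2
    · exact low hl hl' e4 e2 e
    · rw [e4] at hpar
      rcases (show l'.length = 1 ∨ l'.length = 3 by omega) with e3 | e3 <;> rw [e3] at hpar <;>
        exact absurd hpar (by decide)
  · by_contra
    by_cases e2 : l.length = 2
    · exact low hl' hl e4' e2 e.symm
    · rw [e4'] at hpar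
      rcases (show l.length = 1 ∨ l.length = 3 by omega) with e3 | e3 <;> rw [e3] at hpar <;>
        exact absurd hpar (by decide)
  · exact h.solid.full.tower.length_unique (by norm_num) (by norm_num) hl hl' h1 (by omega) h1' (by omega) e

theorem exists_prod (n : ℕ) (h1 : 1 ≤ n) (h4 : n ≤ 4) :
    ∃ l : List G, CList D l ∧ l.length = n ∧ orderOf l.prod = 2 := by
  have T := h.solid.full.tower
  obtain ⟨d, hd, -⟩ := h.descended
  obtain ⟨l, hl, hlen⟩ := T.exists_clist hd (by norm_num) (by norm_num) (by norm_num) (n := n) h4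
  refine ⟨l, hl, hlen, orderOf_eq_prime (p := 2) (by rw [sq, hl.mul_self h.cls.1]) fun e => ?_⟩
  by_cases hn : n = 4
  · exact four_noRel h.cls.1 h.twin l (hlen.trans hn) hl.nodup hl.mem hl.comm e
  have := T.count_list hl (by omega) (by omega)
  rw [e, Finset.filter_true_of_mem (fun y _ => Commute.one_right y),
    show (mem' D).card = 306936 by rw [← h.solid.full.card, Set.ncard_eq_toFinset_card D (Set.toFinite _)]; rfl] at this
  split_ifs at this <;> omega

end M24

end Cfsg.Lib.ThreeTr
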