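import Cfsg.Agent.ThreeTransposition.M24Count.Parity
import Cfsg.Agent.ThreeTransposition.Factors
import Cfsg.Agent.ThreeTransposition.PairNormaliser.QuasiNormal

/-!
Two commuting members of a class of type M(24) inside the derived group: their joint centraliser is the double cover
of a group of type M(22), and has index two in the centraliser of their product.
-/

set_option autoImplicit false
set_option linter.unusedSectionVars false
set_option linter.style.haveILetI false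

namespace Cfsg.Lib.ThreeTr

open Cfsg Subgroup

universe u

variable {G : Type u} [Group G] {D : Set G}

theorem map_center_congr {A B : Type*} [Group A] [Group B] (e : A ≃* B) :
    (center A).map e.toMonoidHom = center B := by
  ext x
  obtain ⟨x, rfl⟩ := e.surjective x
  rw [Subgroup.mem_map_equiv, e.symm_apply_apply, mem_center_iff, mem_center_iff]
  refine ⟨fun h g => ?_, fun h g => e.injective (by rw [map_mul, map_mul]; exact h (e g))⟩
  obtain ⟨g, rfl⟩ := e.surjective g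
  rw [← map_mul, ← map_mul, h g]

/-- Central quotients along an isomorphism. -/
theorem quot_center_congr {A B : Type*} [Group A] [Group B] (e : A ≃* B) :
    Nonempty (A ⧸ center A ≃* B ⧸ center B) :=
  ⟨QuotientGroup.congr (center A) (center B) e (map_center_congr e)⟩

/-- The neighbourhood groups of two members are isomorphic. -/
theorem closure_perp_congr (hcls : IsThreeTranspositionClass D) {p q : G} (hp : p ∈ D) (hq : q ∈ D) :
    Nonempty (↥(closure (perp D p)) ≃* ↥(closure (perp D q))) := by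
  obtain ⟨g, rfl⟩ := exists_conj hcls hp hq
  exact ⟨((MulAut.conj g).subgroupMap (closure (perp D p))).trans
    (MulEquiv.subgroupCongr (map_conj_closure_perp hcls g p))⟩

namespace M24

variable [Finite G] (h : M24 D) {χ : G →* ℤˣ} (hχ : ∀ x ∈ D, χ x = -1)
include h hχ

theorem derived_eq : commutator G = χ.ker := by
  refine le_antisymm (Abelianization.commutator_subset_ker χ) fun g hg => ?_
  obtain ⟨d, hd, -⟩ := h.descended
  have hle : (⊤ : Subgroup G) ≤ commutator G ⊔ zpowers d := by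
    rw [← h.cls.2.2, closure_le]
    intro x hx
    obtain ⟨k, rfl⟩ := exists_conj h.cls hd hx
    rw [show k * d * k⁻¹ = k * d * k⁻¹ * d⁻¹ * d by group]
    refine mul_mem (mem_sup_left ?_) (mem_sup_right (mem_zpowers d))
    rw [_root_.commutator_def]
    exact commutator_mem_commutator (mem_top k) (mem_top d)
  obtain ⟨l, hl, z, hz, rfl⟩ := mem_sup_of_normal_left.1 (hle (mem_top g))
  obtain ⟨n, rfl⟩ := mem_zpowers_iff.1 hz
  have hl1 : χ l = 1 := Abelianization.commutator_subset_ker χ hl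
  rw [MonoidHom.mem_ker, map_mul, hl1, one_mul, map_zpow, hχ d hd] at hg
  rcases Int.even_or_odd n with ⟨m, rfl⟩ | he
  · rw [zpow_add, ← (Commute.refl d).mul_zpow, sq_eq_one h.cls.1 hd, one_zpow, mul_one]
    exact hl
  · rw [he.neg_one_zpow] at hg
    exact absurd hg (by decide)

theorem core_iso {d : G} (hd : d ∈ D) (hQ : M23 (descSet D d)) {x : ↥(closure (perp D d))}
    (hx : (x : G) ∈ perp D d) : Nonempty (↥(χ.ker ⊓ centralizer ({d, (x : G)} : Set G)) ≃*
      ↥(closure (perp (descSet D d) (x : ↥(closure (perp D d)) ⧸ center ↥(closure (perp D d)))))) := by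
  set K₀ := χ.ker ⊓ centralizer ({d, (x : G)} : Set G) with hK₀
  set R := centralizer ({(x : ↥(closure (perp D d)) ⧸ center ↥(closure (perp D d)))} : Set _) with hR
  have hle : K₀ ≤ closure (perp D d) := fun k hk => by
    rw [← h.solid.centralizer_eq hd, mem_centralizer_singleton_iff]
    exact (mem_centralizer_iff.1 hk.2 d (Or.inl rfl)).symm
  set φ := (QuotientGroup.mk' (center ↥(closure (perp D d)))).comp (inclusion hle) with hφ
  have hmem : ∀ k, φ k ∈ R := by
    intro k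
    rw [hR, mem_centralizer_singleton_iff]
    exact (Commute.map (show Commute (inclusion hle k) x from
      Subtype.ext (mem_centralizer_iff.1 k.2.2 (x : G) (Or.inr rfl)).symm) (QuotientGroup.mk' _)).eq
  set φ' := φ.codRestrict R hmem with hφ'
  have hker : ∀ z : ↥(closure (perp D d)), z ∈ center ↥(closure (perp D d)) → (z : G) = 1 ∨ (z : G) = d :=
    fun z hz => h.solid.full.eq_one_or_self hd (closure_perp_commute z.2).symm
      fun e he => congrArg Subtype.val (mem_center_iff.1 hz ⟨e, subset_closure he⟩)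
  have hinj : Function.Injective φ' := by
    rw [injective_iff_map_eq_one]
    intro k hk
    rcases hker _ ((QuotientGroup.eq_one_iff _).1 (congrArg Subtype.val hk)) with e | e
    · exact Subtype.ext e
    · have h1 : χ (k : G) = 1 := k.2.1
      rw [show (k : G) = d from e, hχ d hd] at h1
      exact absurd h1 (by decide)
  have hsurj : Function.Surjective φ' := by
    rintro ⟨q, hq⟩
    obtain ⟨y, rfl⟩ := QuotientGroup.mk_surjective q
    rw [hR, mem_centralizer_singleton_iff] at hq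
    have hy : (y : G) * x * (y : G)⁻¹ = x := by
      refine desc_mk_inj h.cls h.solid.full.tower.twin hd (x := y * x * y⁻¹) ?_ hx ?_
      · exact conj_mem_perp (fun g _ he => conj_mem h.cls g he) y.2 hx
      · rw [QuotientGroup.mk_mul, QuotientGroup.mk_mul, QuotientGroup.mk_inv, hq, mul_inv_cancel_right]
    have hyK : (y : G) ∈ centralizer ({d, (x : G)} : Set G) := by
      rw [mem_centralizer_iff]
      rintro w (rfl | rfl)
      · exact (closure_perp_commute y.2).symm.eq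
      · exact (mul_inv_eq_iff_eq_mul.1 hy).symm
    rcases Int.units_eq_one_or (χ (y : G)) with e | e
    · exact ⟨⟨y, e, hyK⟩, Subtype.ext rfl⟩
    · refine ⟨⟨(y : G) * d, ?_, mul_mem hyK ?_⟩, Subtype.ext ?_⟩
      · show χ ((y : G) * d) = 1
        rw [map_mul, e, hχ d hd]; decide
      · show d ∈ centralizer ({d, (x : G)} : Set G)
        rw [mem_centralizer_iff]
        rintro w (rfl | rfl)
        · rfl
        · exact hx.2.2.symm.eq
      · have hz : (⟨d, h.solid.self_mem d hd⟩ : ↥(closure (perp D d))) ∈ center ↥(closure (perp D d)) := by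
          rw [h.solid.center_closure_perp hd]; exact mem_zpowers d
        show ((y * ⟨d, h.solid.self_mem d hd⟩ : ↥(closure (perp D d))) : _ ⧸ center ↥(closure (perp D d))) =
          (y : _ ⧸ center ↥(closure (perp D d)))
        rw [QuotientGroup.mk_mul, (QuotientGroup.eq_one_iff _).2 hz, mul_one]
  exact ⟨(MulEquiv.ofBijective φ' ⟨hinj, hsurj⟩).trans
    (MulEquiv.subgroupCongr (hQ.solid.centralizer_eq ⟨x, hx, rfl⟩))⟩

/-- The joint centraliser inside the derived group is the double cover of a group of type M(22). -/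
theorem pair_core {d₁ d₂ : G} (h₁ : d₁ ∈ D) (h₂ : d₂ ∈ perp D d₁) :
    IsQuasisimple ↥(χ.ker ⊓ centralizer ({d₁, d₂} : Set G)) ∧
      Nat.card (center ↥(χ.ker ⊓ centralizer ({d₁, d₂} : Set G))) = 2 ∧
      ∃ (H : Type u) (_ : Group H) (_ : Finite H) (E : Set H), M22 E ∧
        Nonempty (↥(χ.ker ⊓ centralizer ({d₁, d₂} : Set G)) ⧸ center ↥(χ.ker ⊓ centralizer ({d₁, d₂} : Set G)) ≃* H) := by
  obtain ⟨d, hd, hQ, -⟩ := h.descended
  obtain ⟨g, hg⟩ := exists_conj h.cls h₁ hd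
  have hx : g * d₂ * g⁻¹ ∈ perp D d := hg ▸ conj_image_perp h.cls g d₁ ▸ ⟨d₂, h₂, rfl⟩
  have hmap : (χ.ker ⊓ centralizer ({d₁, d₂} : Set G)).map (MulAut.conj g).toMonoidHom =
      χ.ker ⊓ centralizer ({d, g * d₂ * g⁻¹} : Set G) := by
    ext y
    rw [Subgroup.mem_map_equiv, MulAut.conj_symm_apply, mem_inf, mem_inf]
    refine and_congr ?_ ?_
    · simp only [MonoidHom.mem_ker, map_mul, map_inv, Int.units_inv_eq_self]
      rw [mul_comm (χ g), mul_assoc, Int.units_mul_self, mul_one]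
    · simp only [mem_centralizer_iff, Set.mem_insert_iff, Set.mem_singleton_iff, forall_eq_or_imp, forall_eq, ← hg]
      have key : ∀ w : G, w * (g⁻¹ * y * g) = g⁻¹ * y * g * w ↔ g * w * g⁻¹ * y = y * (g * w * g⁻¹) := fun w => by
        refine ⟨fun e => ?_, fun e => ?_⟩
        · calc g * w * g⁻¹ * y = g * (w * (g⁻¹ * y * g)) * g⁻¹ := by group
            _ = _ := by rw [e]; group
        · calc w * (g⁻¹ * y * g) = g⁻¹ * (g * w * g⁻¹ * y) * g := by group
            _ = _ := by rw [e]; group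
      exact and_congr (key d₁) (key d₂)
  obtain ⟨i⟩ := h.core_iso hχ hd hQ (x := ⟨_, subset_closure hx⟩) hx
  let e := (((MulAut.conj g).subgroupMap (χ.ker ⊓ centralizer ({d₁, d₂} : Set G))).trans
    (MulEquiv.subgroupCongr hmap)).trans i
  have hm : ((⟨_, subset_closure hx⟩ : ↥(closure (perp D d))) : ↥(closure (perp D d)) ⧸ center ↥(closure (perp D d))) ∈
      descSet D d := ⟨⟨_, subset_closure hx⟩, hx, rfl⟩
  refine ⟨Cfsg.Lib.Components.qs_congr' e.symm (hQ.quasisimple hm), ?_, ?_⟩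
  · rw [← hQ.solid.card_center_closure_perp hm, ← map_center_congr e]
    exact Nat.card_congr ((center _).equivMapOfInjective _ e.injective).toEquiv
  · obtain ⟨q, hq, hQ2⟩ := hQ.descended
    obtain ⟨c⟩ := quot_center_congr e
    obtain ⟨t⟩ := closure_perp_congr hQ.cls hm hq
    obtain ⟨c'⟩ := quot_center_congr t
    exact ⟨_, inferInstance, inferInstance, _, hQ2, ⟨c.trans c'⟩⟩

omit hχ in
theorem product_moves {d₁ d₂ g : G} (h₁ : d₁ ∈ D) (h₂ : d₂ ∈ perp D d₁) (hg : Commute g (d₁ * d₂)) :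
    g * d₁ * g⁻¹ = d₁ ∧ g * d₂ * g⁻¹ = d₂ ∨ g * d₁ * g⁻¹ = d₂ ∧ g * d₂ * g⁻¹ = d₁ := by
  have hne : d₁ ≠ d₂ := fun e => h₂.2.1 e.symm
  have hne' : g * d₁ * g⁻¹ ≠ g * d₂ * g⁻¹ := fun e => hne (mul_left_cancel (mul_right_cancel e))
  have hc' : Commute (g * d₁ * g⁻¹) (g * d₂ * g⁻¹) := (conj_commute_iff g _ _).2 h₂.2.2
  have hp : g * d₁ * g⁻¹ * (g * d₂ * g⁻¹) = d₁ * d₂ := by
    calc g * d₁ * g⁻¹ * (g * d₂ * g⁻¹) = g * (d₁ * d₂) * g⁻¹ := by group
      _ = d₁ * d₂ := by rw [hg.eq, mul_inv_cancel_right]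
  have key := factors_unique h.cls.1 2 (by norm_num)
    (fun i h1 h2 => by
      obtain rfl | rfl : i = 1 ∨ i = 2 := by omega
      · exact two_noRel h.cls.1
      · exact four_noRel h.cls.1 h.solid.full.tower.twin)
    [g * d₁ * g⁻¹, g * d₂ * g⁻¹] [d₁, d₂] rfl rfl (by simp [hne']) (by simp [hne])
    (by rintro a (_ | ⟨_, _ | ⟨_, h'⟩⟩) <;> first | exact conj_mem h.cls g h₁ | exact conj_mem h.cls g h₂.1 | cases h')
    (by rintro a (_ | ⟨_, _ | ⟨_, h'⟩⟩) <;> first | exact h₁ | exact h₂.1 | cases h')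
    (by simp [hc', hc'.symm]) (by simp [h₂.2.2, h₂.2.2.symm]) (by simpa using hp)
  have k1 := (key (g * d₁ * g⁻¹)).1 (by simp)
  have k2 := (key (g * d₂ * g⁻¹)).1 (by simp)
  simp only [List.mem_cons, List.not_mem_nil, or_false] at k1 k2
  rcases k1 with a | a <;> rcases k2 with b | b
  exacts [absurd (a.trans b.symm) hne', Or.inl ⟨a, b⟩, Or.inr ⟨a, b⟩, absurd (a.trans b.symm) hne']

/-- An element of the derived group exchanging two commuting members. -/
theorem exists_exchange {d₁ d₂ : G} (h₁ : d₁ ∈ D) (h₂ : d₂ ∈ perp D d₁) :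
    ∃ w ∈ χ.ker, w * d₁ * w⁻¹ = d₂ ∧ w * d₂ * w⁻¹ = d₁ := by
  obtain ⟨g, hg⟩ := exists_conj h.cls h₁ h₂.1
  have hm := (conj_image_perp h.cls g d₁).subset ⟨d₂, h₂, rfl⟩
  rw [hg] at hm
  obtain ⟨k, hk, hke⟩ := h.solid.full.tower.rich.perp_transitive h₂.1 hm
    (show d₁ ∈ perp D d₂ from ⟨h₁, fun e => h₂.2.1 e.symm, h₂.2.2.symm⟩)
  have e1 : k * g * d₁ * (k * g)⁻¹ = d₂ := by
    calc k * g * d₁ * (k * g)⁻¹ = k * (g * d₁ * g⁻¹) * k⁻¹ := by group
      _ = d₂ := by rw [hg, (closure_perp_commute hk).eq, mul_inv_cancel_right]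
  have e2 : k * g * d₂ * (k * g)⁻¹ = d₁ := by rw [← hke]; group
  rcases Int.units_eq_one_or (χ (k * g)) with e | e
  · exact ⟨k * g, e, e1, e2⟩
  · refine ⟨k * g * d₁, ?_, ?_, ?_⟩
    · show χ (k * g * d₁) = 1
      rw [map_mul, e, hχ d₁ h₁]; decide
    · calc k * g * d₁ * d₁ * (k * g * d₁)⁻¹ = k * g * d₁ * (k * g)⁻¹ := by group
        _ = d₂ := e1
    · calc k * g * d₁ * d₂ * (k * g * d₁)⁻¹ = k * g * (d₁ * d₂ * d₁⁻¹) * (k * g)⁻¹ := by group
        _ = d₁ := by rw [h₂.2.2.eq, mul_inv_cancel_right, e2]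

/-- The centraliser of a product of two commuting members in the derived group, over any group isomorphic to those of type M(22). -/
theorem pair_derived {d₁ d₂ : G} (h₁ : d₁ ∈ D) (h₂ : d₂ ∈ perp D d₁) {L K CL : Subgroup G} (hL : L = commutator G)
    (hK : K = L ⊓ centralizer ({d₁, d₂} : Set G)) (hCL : CL = L ⊓ centralizer ({d₁ * d₂} : Set G))
    [hn : ((zpowers (d₁ * d₂)).subgroupOf CL).Normal] {F : Type} [Group F] [Finite F]
    (hF : Nat.card (MulAut F) ≤ 2 * Nat.card F)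
    (hiso : ∀ {H : Type u} [Group H] [Finite H] {E : Set H}, M22 E → Nonempty (H ≃* F)) :
    IsQuasisimple ↥K ∧ K = (Cfsg.generalizedFittingSubgroup ↥CL).map CL.subtype ∧ K ≤ CL ∧
      (K.subgroupOf CL).index = 2 ∧ d₁ * d₂ ∈ K ∧
      Nonempty (↥CL ⧸ (zpowers (d₁ * d₂)).subgroupOf CL ≃* MulAut F) := by
  rw [h.derived_eq hχ] at hL
  subst hL
  obtain ⟨hqs, hcard, H, _, _, E, hE, ⟨iH⟩⟩ := h.pair_core hχ h₁ h₂
  obtain ⟨iF⟩ := hiso hE
  rw [← hK] at hqs hcard iH
  have hne : d₁ ≠ d₂ := fun e => h₂.2.1 e.symm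
  have hd11 := sq_eq_one h.cls.1 h₁
  have hd22 := sq_eq_one h.cls.1 h₂.1
  have hc := h₂.2.2
  set j := d₁ * d₂ with hj
  have hmemK : ∀ {y : G}, y ∈ K ↔ χ y = 1 ∧ Commute y d₁ ∧ Commute y d₂ := fun {y} => by
    rw [hK, mem_inf, MonoidHom.mem_ker, mem_centralizer_iff]
    simp only [Set.mem_insert_iff, Set.mem_singleton_iff, forall_eq_or_imp, forall_eq]
    exact ⟨fun h => ⟨h.1, h.2.1.symm, h.2.2.symm⟩, fun h => ⟨h.1, h.2.1.eq.symm, h.2.2.eq.symm⟩⟩
  have hmemCL : ∀ {y : G}, y ∈ CL ↔ χ y = 1 ∧ Commute y j := fun {y} => by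
    rw [hCL, mem_inf, MonoidHom.mem_ker, mem_centralizer_singleton_iff]; rfl
  have hle : K ≤ CL := fun y hy =>
    hmemCL.2 ⟨(hmemK.1 hy).1, (hmemK.1 hy).2.1.mul_right (hmemK.1 hy).2.2⟩
  have hjK : j ∈ K := hmemK.2 ⟨by rw [hj, map_mul, hχ d₁ h₁, hχ d₂ h₂.1]; decide,
    (Commute.refl d₁).mul_left hc.symm, hc.mul_left (Commute.refl d₂)⟩
  have hj1 : j ≠ 1 := fun e => hne ((eq_inv_of_mul_eq_one_left e).trans (inv_eq h.cls.1 h₂.1))
  have hjc : ∀ y ∈ K, Commute y j := fun y hy => (hmemCL.1 (hle hy)).2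
  -- the centre
  have hcenter : ∀ z : ↥K, z ∈ center ↥K → (z : G) ∈ zpowers j := by
    have hjz : (⟨j, hjK⟩ : ↥K) ∈ center ↥K := mem_center_iff.2 fun y => Subtype.ext (hjc y y.2).eq
    have e : center ↥K = zpowers (⟨j, hjK⟩ : ↥K) := (Subgroup.eq_of_le_of_card_ge (zpowers_le.2 hjz) (by
      rw [hcard, Nat.card_zpowers, ← Subgroup.orderOf_coe,
        orderOf_eq_prime (p := 2) (x := j) (by
          rw [pow_two, hj, show d₁ * d₂ * (d₁ * d₂) = d₁ * (d₂ * d₁) * d₂ by simp only [mul_assoc], ← hc.eq,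
            ← mul_assoc, hd11, one_mul, hd22]) hj1])).symm
    intro z hz
    obtain ⟨n, rfl⟩ := mem_zpowers_iff.1 (e ▸ hz)
    exact mem_zpowers_iff.2 ⟨n, rfl⟩
  -- index two
  obtain ⟨w, hw, hw1, hw2⟩ := h.exists_exchange hχ h₁ h₂
  have hwCL : w ∈ CL := hmemCL.2 ⟨hw, mul_inv_eq_iff_eq_mul.1 (by
    rw [hj, show w * (d₁ * d₂) * w⁻¹ = w * d₁ * w⁻¹ * (w * d₂ * w⁻¹) by group, hw1, hw2, ← hc.eq])⟩
  have hidx : (K.subgroupOf CL).index = 2 := by
    rw [index_eq_two_iff]
    refine ⟨⟨w, hwCL⟩, fun b => ?_⟩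
    have hb := hmemCL.1 b.2
    rw [mem_subgroupOf, mem_subgroupOf]
    have hbw : ∀ a : G, (b : G) * w * a * ((b : G) * w)⁻¹ = b * (w * a * w⁻¹) * (b : G)⁻¹ := fun a => by group
    rcases h.product_moves h₁ h₂ hb.2 with ⟨e1, e2⟩ | ⟨e1, e2⟩
    · refine Or.inr ⟨hmemK.2 ⟨hb.1, mul_inv_eq_iff_eq_mul.1 e1, mul_inv_eq_iff_eq_mul.1 e2⟩, fun hh => ?_⟩
      have := (hmemK.1 hh).2.1
      rw [Commute, SemiconjBy, ← mul_inv_eq_iff_eq_mul] at this
      rw [Subgroup.coe_mul, hbw, hw1, e2] at this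
      exact hne this.symm
    · refine Or.inl ⟨hmemK.2 ⟨?_, mul_inv_eq_iff_eq_mul.1 ?_, mul_inv_eq_iff_eq_mul.1 ?_⟩, fun hh => ?_⟩
      · rw [Subgroup.coe_mul, map_mul, hb.1, hw]; rfl
      · rw [Subgroup.coe_mul, hbw, hw1, e2]
      · rw [Subgroup.coe_mul, hbw, hw2, e1]
      · have := (hmemK.1 hh).2.1
        rw [Commute, SemiconjBy, ← mul_inv_eq_iff_eq_mul, e1] at this
        exact hne this.symm
  set N := K.subgroupOf CL with hN
  haveI : N.Normal := normal_of_index_eq_two hidx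
  let eN : ↥N ≃* ↥K := subgroupOfEquivOfLe hle
  have hqsN : IsQuasisimple ↥N := Cfsg.Lib.Components.qs_congr' eN.symm hqs
  have hC : centralizer (N : Set ↥CL) = (zpowers j).subgroupOf CL := by
    refine le_antisymm (fun g hg => ?_) fun g hg => ?_
    · rw [mem_centralizer_iff] at hg
      have hg' : ∀ y ∈ K, Commute (g : G) y := fun y hy =>
        (congrArg Subtype.val (hg ⟨y, hle hy⟩ (mem_subgroupOf.2 hy))).symm
      have hb := hmemCL.1 g.2
      rcases h.product_moves h₁ h₂ hb.2 with ⟨e1, e2⟩ | ⟨e1, e2⟩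
      · have hgK : (g : G) ∈ K := hmemK.2 ⟨hb.1, mul_inv_eq_iff_eq_mul.1 e1, mul_inv_eq_iff_eq_mul.1 e2⟩
        exact mem_subgroupOf.2 (hcenter ⟨g, hgK⟩ (mem_center_iff.2 fun y => Subtype.ext (hg' y y.2).symm.eq))
      · exfalso
        obtain ⟨e, he⟩ := Set.nonempty_of_ncard_ne_zero (s := perp D d₁ ∩ perp D d₂)
          (by rw [h.solid.full.tower.adj d₁ h₁ d₂ h₂]; norm_num)
        have heK : e * d₁ ∈ K := hmemK.2 ⟨by rw [map_mul, hχ e he.1.1, hχ d₁ h₁]; decide,
          he.1.2.2.symm.mul_left (Commute.refl d₁), he.2.2.2.symm.mul_left hc⟩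
        set e' := (g : G) * e * (g : G)⁻¹ with he'
        have hrel : e' * d₂ = e * d₁ := by
          rw [he', ← e1, show (g : G) * e * (g : G)⁻¹ * ((g : G) * d₁ * (g : G)⁻¹) = g * (e * d₁) * (g : G)⁻¹ by group,
            (hg' _ heK).eq, mul_inv_cancel_right]
        have he'1 : e' ∈ perp D d₁ := by
          rw [← e2]; exact conj_image_perp h.cls (g : G) d₂ ▸ ⟨e, he.2, rfl⟩
        have he'2 : e' ∈ perp D d₂ := by
          rw [← e1]; exact conj_image_perp h.cls (g : G) d₁ ▸ ⟨e, he.1, rfl⟩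
        have hee : e' = e * d₁ * d₂ := by rw [← hrel, mul_assoc, hd22, mul_one]
        have hcee : Commute e e' := by
          rw [hee]; exact ((Commute.refl e).mul_right he.1.2.2.symm).mul_right he.2.2.2.symm
        have hne' : e ≠ e' := fun eq => hne (mul_left_cancel (show e * d₁ = e * d₂ by rw [← hrel, ← eq]))
        refine four_noRel h.cls.1 h.solid.full.tower.twin [e, d₁, d₂, e'] rfl ?_ ?_ ?_ ?_
        · simp [he.1.2.1, he.2.2.1, hne', hne, he'1.2.1.symm, he'2.2.1.symm]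
        · simp [he.1.1, h₁, h₂.1, he'1.1]
        · simp [he.1.2.2, he.1.2.2.symm, he.2.2.2, he.2.2.2.symm, hc, hc.symm, hcee, hcee.symm, he'1.2.2,
            he'1.2.2.symm, he'2.2.2, he'2.2.2.symm]
        · simp only [List.prod_cons, List.prod_nil, mul_one]
          rw [show e * (d₁ * (d₂ * e')) = e * d₁ * d₂ * e' by simp only [mul_assoc], ← hee]
          exact sq_eq_one h.cls.1 he'1.1
    · rw [mem_centralizer_iff]
      intro y hy
      obtain ⟨n, hn'⟩ := mem_zpowers_iff.1 (mem_subgroupOf.1 hg)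
      refine Subtype.ext ?_
      show (y : G) * g = g * y
      rw [← hn']
      exact ((hjc _ (mem_subgroupOf.1 hy)).zpow_right n).eq
  have hJN : centralizer (N : Set ↥CL) ≤ N := hC ▸ fun g hg => mem_subgroupOf.2 (zpowers_le.2 hjK (mem_subgroupOf.1 hg))
  refine ⟨hqs, ?_, hle, hidx, hjK, ?_⟩
  · rw [genFitting_of_quasisimple_normal hqsN hJN, hN, map_subgroupOf_eq_of_le hle]
  obtain ⟨c⟩ := quot_center_congr eN
  let e := (c.trans iH).trans iF
  haveI : Finite (MulAut F) := Finite.of_injective _ DFunLike.coe_injective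
  refine quotient_equiv_mulAut (Group.isPerfect_def.1 hqsN.1) hC e (hF.trans ?_)
  have h1 : Nat.card ↥N = 2 * Nat.card F := by
    rw [Subgroup.card_eq_card_quotient_mul_card_subgroup (center ↥N), Nat.card_congr e.toEquiv, mul_comm,
      ← hcard, ← map_center_congr eN,
      ← Nat.card_congr ((center ↥N).equivMapOfInjective eN.toMonoidHom eN.injective).toEquiv]
  have h2 : Nat.card ↥((zpowers j).subgroupOf CL) = 2 := by
    rw [Nat.card_congr (subgroupOfEquivOfLe (zpowers_le.2 (hle hjK))).toEquiv, Nat.card_zpowers,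
      orderOf_eq_prime (p := 2) (by
        rw [pow_two, hj, show d₁ * d₂ * (d₁ * d₂) = d₁ * (d₂ * d₁) * d₂ by simp only [mul_assoc], ← hc.eq,
          ← mul_assoc, hd11, one_mul, hd22]) hj1]
  have h3 := N.card_mul_index
  have h4 := Subgroup.card_eq_card_quotient_mul_card_subgroup ((zpowers j).subgroupOf CL)
  rw [hidx, h1] at h3
  rw [h2, ← h3] at h4
  show 2 * Nat.card F ≤ _
  exact le_of_eq (Nat.eq_of_mul_eq_mul_right two_pos h4)

end M24

end Cfsg.Lib.ThreeTr
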