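import Cfsg.Agent.ThreeTransposition.M23Count.M23

/-!
The class of the members commuting with one member of a class of type M(24) is a primitive class of type M(23).
-/

set_option autoImplicit false
set_option linter.unusedSectionVars false
set_option linter.style.haveILetI false

namespace Cfsg.Lib.ThreeTr

open Cfsg Subgroup

universe u

variable {G : Type u} [Group G] {D : Set G}

/-- Removing the identity from the set keeps the type M(22). -/
theorem isOfTypeM22_sdiff_one {S : Set G} (h : IsOfTypeM22 G S) : IsOfTypeM22 G (S \ {1}) := by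
  obtain ⟨hZ, d, hd, c, hc, hdc, hA, hB⟩ := h
  have hd1 : d ∉ ({1} : Set G) := fun e => hdc ((Set.mem_singleton_iff.1 e) ▸ Commute.one_left c)
  have hc1 : c ∉ ({1} : Set G) := fun e => hdc ((Set.mem_singleton_iff.1 e) ▸ Commute.one_right d)
  have e : ∀ p : G, {y : G | y ∈ S \ {1} ∧ y ≠ p ∧ Commute p y} = {y : G | y ∈ S ∧ y ≠ p ∧ Commute p y} \ {1} :=
    fun p => by
      ext y
      simp only [Set.mem_sdiff, Set.mem_ofPred_eq]
      tauto
  have e2 : ({y : G | y ∈ S \ {1} ∧ y ≠ d ∧ Commute d y} ∩ {y : G | y ∈ S \ {1} ∧ y ≠ c ∧ Commute c y}) =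
      ({y : G | y ∈ S ∧ y ≠ d ∧ Commute d y} ∩ {y : G | y ∈ S ∧ y ≠ c ∧ Commute c y}) \ {1} := by
    ext y
    simp only [Set.mem_sdiff, Set.mem_inter_iff, Set.mem_ofPred_eq]
    tauto
  refine ⟨hZ, d, ⟨hd, hd1⟩, c, ⟨hc, hc1⟩, hdc, ?_, ?_⟩
  · have tr : ∀ {A B : Subgroup G}, A = B → (∃ (F : Type) (_ : Field F) (_ : Fintype F), Fintype.card F = 4 ∧
        Nonempty (↥A ⧸ center ↥A ≃* PSU 6 F 2)) → (∃ (F : Type) (_ : Field F) (_ : Fintype F), Fintype.card F = 4 ∧
        Nonempty (↥B ⧸ center ↥B ≃* PSU 6 F 2)) := fun h h' => by subst h; exact h'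
    exact tr ((congrArg Subgroup.closure (e d)).trans (Subgroup.closure_sdiff_one _)).symm hA
  · have tr : ∀ {A B : Subgroup G}, A = B →
        (∃ c₃ : ZMod 3, c₃ ≠ 0 ∧ IsProjReflectionGroupModThree (↥A ⧸ center ↥A) 6 1 c₃) →
        (∃ c₃ : ZMod 3, c₃ ≠ 0 ∧ IsProjReflectionGroupModThree (↥B ⧸ center ↥B) 6 1 c₃) := fun h h' => by
      subst h; exact h'
    exact tr ((congrArg Subgroup.closure e2).trans (Subgroup.closure_sdiff_one _)).symm hB

/-- A class of type M(23) in a group with trivial centre is twin-free. -/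
theorem twinFree_of_m23 [Finite G] (hcls : IsThreeTranspositionClass D) (h23 : IsOfTypeM23 G D) : TwinFree D := by
  obtain ⟨-, d, hd, c, -, -, h22, -⟩ := h23
  have hE := hcls.1
  have hconj : ∀ g : G, ∀ x ∈ D, g * x * g⁻¹ ∈ D := fun g x hx => conj_mem hcls g hx
  set H := closure (perp D d) with hH
  set S : Set (↥H ⧸ center ↥H) := (QuotientGroup.mk : ↥H → _) '' {y | (y : G) ∈ perp D d ∧ y ∉ center ↥H} with hS
  have hSeq : S = descSet D d \ {1} := by
    ext q
    constructor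
    · rintro ⟨y, ⟨hy, hync⟩, rfl⟩
      exact ⟨⟨y, hy, rfl⟩, fun e => hync ((QuotientGroup.eq_one_iff y).1 e)⟩
    · rintro ⟨⟨y, hy, rfl⟩, hne⟩
      exact ⟨y, ⟨hy, fun e => hne ((QuotientGroup.eq_one_iff y).2 e)⟩, rfl⟩
  have hS22 : IsOfTypeM22 (↥H ⧸ center ↥H) S := hSeq ▸ isOfTypeM22_sdiff_one h22
  have hSset : IsThreeTranspositionSet S := by
    refine ⟨?_, ?_⟩
    · rintro _ ⟨y, ⟨hy, hync⟩, rfl⟩
      refine orderOf_eq_prime (p := 2) ?_ fun h => hync ((QuotientGroup.eq_one_iff y).1 h)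
      rw [← QuotientGroup.mk_pow, show y ^ 2 = 1 from Subtype.ext (by simpa [sq] using sq_eq_one hE hy.1),
        QuotientGroup.mk_one]
    · rintro _ ⟨y, ⟨hy, -⟩, rfl⟩ _ ⟨z, ⟨hz, -⟩, rfl⟩
      rcases hE.2 _ hy.1 _ hz.1 with h | h
      · left
        rw [← QuotientGroup.mk_mul, ← QuotientGroup.mk_pow, show (y * z) ^ 2 = 1 from Subtype.ext (by simpa using h),
          QuotientGroup.mk_one]
      · right
        rw [← QuotientGroup.mk_mul, ← QuotientGroup.mk_pow, show (y * z) ^ 3 = 1 from Subtype.ext (by simpa using h),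
          QuotientGroup.mk_one]
  have hSconj : ∀ g : ↥H ⧸ center ↥H, ∀ s ∈ S, g * s * g⁻¹ ∈ S := by
    rintro g _ ⟨y, ⟨hy, hync⟩, rfl⟩
    obtain ⟨g, rfl⟩ := QuotientGroup.mk_surjective g
    refine ⟨g * y * g⁻¹, ⟨by simpa using conj_mem_perp hconj g.2 hy, fun h => hync ?_⟩, rfl⟩
    have := (inferInstance : (center ↥H).Normal).conj_mem _ h g⁻¹
    rwa [show g⁻¹ * (g * y * g⁻¹) * g⁻¹⁻¹ = y by group] at this
  have hSgen : closure S = ⊤ := by rw [hSeq, Subgroup.closure_sdiff_one, closure_descSet]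
  obtain ⟨-, hST⟩ := m22_class ⟨hSset, hSconj, hSgen⟩ hS22
  obtain ⟨-, q, hq, -⟩ := id hS22
  obtain ⟨x, ⟨hx, hxnc⟩, -⟩ := hq
  have hx0 : ∀ v ∈ D, VRel D (x : G) v → (x : G) = v := by
    intro v hv h
    have hvd : Commute d v := ((h d hd).1 hx.2.2.symm).symm
    by_cases hvd' : v = d
    · subst hvd'
      refine absurd (mem_center_iff.2 fun g => Subtype.ext ?_) hxnc
      have hle : H ≤ centralizer ({(x : G)} : Set G) :=
        (closure_le _).2 fun w hw => mem_centralizer_singleton_iff.2 ((h w hw.1).2 hw.2.2).symm.eq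
      exact mem_centralizer_singleton_iff.1 (hle g.2)
    have hvp : v ∈ perp D d := ⟨hv, hvd', hvd⟩
    set y : ↥H := ⟨v, subset_closure hvp⟩ with hy
    have hync : y ∉ center ↥H := by
      intro hcy
      refine hxnc (mem_center_iff.2 fun g => Subtype.ext ?_)
      have hle : H ≤ centralizer ({(x : G)} : Set G) :=
        (closure_le _).2 fun w hw => mem_centralizer_singleton_iff.2 (((h w hw.1).2
          (congrArg Subtype.val (mem_center_iff.1 hcy ⟨w, subset_closure hw⟩)).symm)).symm.eq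
      exact mem_centralizer_singleton_iff.1 (hle g.2)
    have hq : (x : ↥H ⧸ center ↥H) = y := by
      refine hST _ ⟨x, ⟨hx, hxnc⟩, rfl⟩ _ ⟨y, ⟨hvp, hync⟩, rfl⟩ ?_
      rintro _ ⟨w, ⟨hw, -⟩, rfl⟩
      constructor
      · intro hxw
        exact (show Commute y w from Subtype.ext
          (((h w hw.1).1 (commute_of_commute_mk hE hconj hx hw hxnc hxw))).eq).map (QuotientGroup.mk' _)
      · intro hyw
        exact (show Commute x w from Subtype.ext
          (((h w hw.1).2 (commute_of_commute_mk hE hconj hvp hw hync hyw))).eq).map (QuotientGroup.mk' _)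
    exact congrArg Subtype.val (mk_injOn hE hconj hx hvp hxnc hq)
  intro a ha b hb h
  obtain ⟨g, hg⟩ := exists_conj hcls ha hx.1
  have h' := (vRel_isClassRel hcls).equiv g ha hb h
  rw [hg] at h'
  have := hx0 _ (hconj g b hb) h'
  rw [← hg] at this
  exact mul_left_cancel (mul_right_cancel this)

/-- A twin-free class of type M(22) is neighbour-free. -/
theorem neighbourFree_m22 [Finite G] (hcls : IsThreeTranspositionClass D) (hT : TwinFree D) (h22 : IsOfTypeM22 G D) :
    NeighbourFree D := by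
  obtain ⟨d, hd, -, -, -, -, hsimp, hZ, -⟩ := m22_perp_facts h22
  haveI := hsimp
  obtain ⟨hcls', -⟩ := class_of_simple (descSet_set hcls.1 fun x hx => not_mem_center_of_twinFree hcls hT hd hx)
    (fun g x hx => conj_mem_descSet (fun g y hy => conj_mem hcls g hy) g hx) (closure_descSet d) hZ
  obtain ⟨_, ⟨y, hy, -⟩, -⟩ := hcls'.2.1
  exact neighbourFree_of_desc hcls hT hd ⟨_, hy⟩ (neighbourFree_of_simple hcls')

/-- The distinguished member of a primitive class of type M(24). -/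
theorem m24_desc [Finite G] (hD : IsThreeTranspositionGroup D) (hprim : IsPrimitiveUnderConj D)
    (ht : IsOfTypeM24 G D) : ∃ d ∈ D, IsThreeTranspositionClass D ∧ TwinFree D ∧ Rich D ∧ center G = ⊥ ∧
      IsThreeTranspositionGroup (descSet D d) ∧ IsPrimitiveUnderConj (descSet D d) ∧
      IsOfTypeM23 (↥(closure (perp D d)) ⧸ center ↥(closure (perp D d))) (descSet D d) := by
  obtain ⟨hE, hconj, hgen⟩ := hD
  obtain ⟨hZ, d, hd, c, -, -, h23, -⟩ := ht
  change IsOfTypeM23 _ (descSet D d) at h23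
  have hcls : IsThreeTranspositionClass D :=
    ⟨hE, ⟨d, hd, Set.Subset.antisymm (fun x hx => isConj_iff.2 (hprim.1 d hd x hx)) fun x hx => by
      obtain ⟨g, rfl⟩ := isConj_iff.1 hx
      exact hconj g d hd⟩, hgen⟩
  have hT : TwinFree D := fun a ha b hb hab => eq_of_vRel_of_primitive hprim hcls ha hb hab
  have hnc : ∀ x : ↥(closure (perp D d)), (x : G) ∈ perp D d → x ∉ center ↥(closure (perp D d)) :=
    fun x hx => not_mem_center_of_twinFree hcls hT hd hx
  have hQ : IsThreeTranspositionGroup (descSet D d) :=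
    ⟨descSet_set hE hnc, fun g x hx => conj_mem_descSet hconj g hx, closure_descSet d⟩
  obtain ⟨-, d₂, hd₂, c₂, hc₂, hdc₂, h22, c₃, hc₃, hrefl⟩ := id h23
  change IsProjReflectionGroupModThree (↥(closure (perp (descSet D d) d₂ ∩ perp (descSet D d) c₂)) ⧸
    center ↥(closure (perp (descSet D d) d₂ ∩ perp (descSet D d) c₂))) 7 (-c₃) c₃ at hrefl
  obtain ⟨q, hq⟩ := inter_nonempty_of_projReflection (by norm_num) hc₃ hrefl
  obtain ⟨u, hu, rfl⟩ := hd₂
  obtain ⟨v, hv, rfl⟩ := hc₂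
  obtain ⟨w, hw, rfl⟩ := hq.1.1
  have hR : Rich D := ⟨hcls, hprim, d, hd, u, hu.1, hu.2.1.symm, hu.2.2⟩
  have hQcls : IsThreeTranspositionClass (descSet D d) :=
    map_class (perp_class hR hd) (QuotientGroup.mk' _) (QuotientGroup.mk'_surjective _) hu fun h =>
      hnc u hu ((QuotientGroup.eq_one_iff u).1 h)
  have hQT : TwinFree (descSet D d) := twinFree_of_m23 hQcls h23
  have hQconj : ∀ g : ↥(closure (perp D d)) ⧸ center ↥(closure (perp D d)), ∀ x ∈ descSet D d,
      g * x * g⁻¹ ∈ descSet D d := fun g x hx => conj_mem hQcls g hx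
  have hQ2 : IsThreeTranspositionGroup (descSet (descSet D d) (QuotientGroup.mk u)) :=
    ⟨descSet_set hQcls.1 fun x hx => not_mem_center_of_twinFree hQcls hQT ⟨u, hu, rfl⟩ hx,
      fun g x hx => conj_mem_descSet hQconj g hx, closure_descSet _⟩
  obtain ⟨h2cls, h2T⟩ := m22_class hQ2 h22
  have hN : NeighbourFree (descSet D d) :=
    neighbourFree_of_desc hQcls hQT ⟨u, hu, rfl⟩ ⟨_, hq.1⟩ (neighbourFree_m22 h2cls h2T h22)
  have hcommon : ∀ x ∈ perp D d, ∀ y ∈ perp D d, ¬ Commute x y →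
      ∃ z ∈ perp D d, Commute z x ∧ Commute z y := fun x hx y hy hxy =>
    hR.common_neighbour hd hx hy hxy hd hu hv (fun e => hdc₂ ((desc_commute_iff hcls hT hd hu hv).2 e)) hw
      ((desc_commute_iff hcls hT hd hw hu).1 hq.1.2.2.symm) ((desc_commute_iff hcls hT hd hw hv).1 hq.2.2.2.symm)
  exact ⟨d, hd, hcls, hT, hR, hZ, hQ, primitive_of_linked hQcls hQT hN
    ⟨_, ⟨u, hu, rfl⟩, _, ⟨v, hv, rfl⟩, fun e => hdc₂ (e ▸ Commute.refl _)⟩ (linked_descSet hcommon), h23⟩

end Cfsg.Lib.ThreeTr
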