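import Cfsg.Agent.ThreeTransposition.M24Count.Involutions
import Cfsg.Agent.ThreeTransposition.M22Count.UniqueClass

/-!
Types M(23) and M(24) have only one generating class of 3-transpositions: the property climbs one level.
-/

set_option autoImplicit false
set_option linter.unusedSectionVars false
set_option linter.style.haveILetI false

namespace Cfsg.Lib.ThreeTr

open Cfsg Subgroup

attribute [local instance] _root_.Classical.propDecidable

universe u

variable {G : Type u} [Group G] {D : Set G}

/-- Uniqueness of the class climbs one level. -/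
theorem unique_of_desc [Finite G] {N k l l' m m' m'' n : ℕ} (hS : Solid D N k l l' m m' m'') {d : G} (hd : d ∈ D)
    (hsimp : IsSimpleGroup (↥(closure (perp D d)) ⧸ center ↥(closure (perp D d))))
    (hZ : center (↥(closure (perp D d)) ⧸ center ↥(closure (perp D d))) = ⊥)
    (hU : ∀ T : Set (↥(closure (perp D d)) ⧸ center ↥(closure (perp D d))), IsThreeTranspositionClass T → T = descSet D d)
    (hI : InvForm D n) (hL : ListTrans D 2) (hk : k ≠ 0) (hl0 : l ≠ 0) (hkl : l + 1 < k) (hll : l' + 1 < l) (hl'0 : l' ≠ 0)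
    {D' : Set G} (hD' : IsThreeTranspositionClass D') : D' = D := by
  haveI := hsimp
  have hcls := hS.full.cls
  have T := hS.full.tower
  have eq_of : ∀ {x : G}, x ∈ D → x ∈ D' → D' = D := fun {x} hx hx' => by
    refine Set.Subset.antisymm (fun z hz => ?_) fun z hz => ?_
    · obtain ⟨g, rfl⟩ := exists_conj hD' hx' hz
      exact conj_mem hcls g hx
    · obtain ⟨g, rfl⟩ := exists_conj hcls hx hz
      exact conj_mem hD' g hx'
  have shape : ∀ x ∈ D', x ∈ closure (perp D d) → x = d ∨ ∃ y ∈ perp D d, x = y ∨ x = y * d := by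
    intro x hx hxK
    set X : ↥(closure (perp D d)) := ⟨x, hxK⟩ with hX
    by_cases hxc : X ∈ center ↥(closure (perp D d))
    · refine Or.inl ((hS.full.eq_one_or_self hd (closure_perp_commute hxK).symm fun e he =>
        congrArg Subtype.val (mem_center_iff.1 hxc ⟨e, subset_closure he⟩)).resolve_left fun e => ?_)
      have h2 := hD'.1.1 x hx
      rw [e, orderOf_one] at h2
      norm_num at h2
    set C : Set (↥(closure (perp D d)) ⧸ center ↥(closure (perp D d))) :=
      {q | ∃ z : ↥(closure (perp D d)), (z : G) ∈ D' ∧ z ∉ center ↥(closure (perp D d)) ∧ QuotientGroup.mk z = q}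
      with hC
    have hset : IsThreeTranspositionSet C := by
      refine ⟨?_, ?_⟩
      · rintro _ ⟨z, hz, hzc, rfl⟩
        refine orderOf_eq_prime (p := 2) ?_ fun e => hzc ((QuotientGroup.eq_one_iff z).1 e)
        rw [← QuotientGroup.mk_pow, show z ^ 2 = 1 from Subtype.ext (by simpa [sq] using sq_eq_one hD'.1 hz),
          QuotientGroup.mk_one]
      · rintro _ ⟨z, hz, -, rfl⟩ _ ⟨w, hw, -, rfl⟩
        rcases hD'.1.2 _ hz _ hw with e | e
        · left
          rw [← QuotientGroup.mk_mul, ← QuotientGroup.mk_pow, show (z * w) ^ 2 = 1 from Subtype.ext (by simpa using e),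
            QuotientGroup.mk_one]
        · right
          rw [← QuotientGroup.mk_mul, ← QuotientGroup.mk_pow, show (z * w) ^ 3 = 1 from Subtype.ext (by simpa using e),
            QuotientGroup.mk_one]
    have hconjC : ∀ g : ↥(closure (perp D d)) ⧸ center ↥(closure (perp D d)), ∀ t ∈ C, g * t * g⁻¹ ∈ C := by
      rintro g _ ⟨z, hz, hzc, rfl⟩
      obtain ⟨g, rfl⟩ := QuotientGroup.mk_surjective g
      refine ⟨g * z * g⁻¹, by simpa using conj_mem hD' (g : G) hz, fun e => hzc ?_, rfl⟩
      have := (inferInstance : (center ↥(closure (perp D d))).Normal).conj_mem _ e g⁻¹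
      rwa [show g⁻¹ * (g * z * g⁻¹) * g⁻¹⁻¹ = z by group] at this
    have hgen : closure C = ⊤ := by
      haveI : (closure C).Normal := by
        refine ⟨fun n hn g => ?_⟩
        induction hn using closure_induction with
        | mem n hn => exact subset_closure (hconjC g n hn)
        | one => simp
        | mul u v _ _ hu hv =>
          rw [show g * (u * v) * g⁻¹ = g * u * g⁻¹ * (g * v * g⁻¹) by group]; exact mul_mem hu hv
        | inv u _ hu => rw [show g * u⁻¹ * g⁻¹ = (g * u * g⁻¹)⁻¹ by group]; exact inv_mem hu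
      refine (IsSimpleGroup.eq_bot_or_eq_top_of_normal (closure C) inferInstance).resolve_left fun e => hxc ?_
      have h1 : (QuotientGroup.mk X : ↥(closure (perp D d)) ⧸ center ↥(closure (perp D d))) ∈ closure C :=
        subset_closure ⟨X, hx, hxc, rfl⟩
      rw [e, mem_bot] at h1
      exact (QuotientGroup.eq_one_iff X).1 h1
    have hmem : (QuotientGroup.mk X : ↥(closure (perp D d)) ⧸ center ↥(closure (perp D d))) ∈ descSet D d := by
      rw [← hU C (class_of_simple hset hconjC hgen hZ).1]
      exact ⟨X, hx, hxc, rfl⟩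
    obtain ⟨y, hy, hye⟩ := hmem
    have hc := QuotientGroup.eq.1 hye
    refine Or.inr ⟨y, hy, ?_⟩
    rcases hS.full.eq_one_or_self hd (closure_perp_commute (SetLike.coe_mem (y⁻¹ * X))).symm
        (fun e he => congrArg Subtype.val (mem_center_iff.1 hc ⟨e, subset_closure he⟩)) with e | e
    · rw [coe_mul, coe_inv] at e
      exact Or.inl (inv_mul_eq_one.1 e).symm
    · rw [coe_mul, coe_inv, inv_mul_eq_iff_eq_mul] at e
      exact Or.inr e
  obtain ⟨x₀, hx₀, -⟩ := hD'.2.1
  obtain ⟨s, hs, h1, -, hsp⟩ := hI x₀ (hD'.1.1 x₀ hx₀)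
  obtain ⟨a, t, rfl⟩ := List.exists_cons_of_length_pos h1
  obtain ⟨g, hg⟩ := exists_conj hcls (hs.mem a (by simp)) hd
  have hx₁ : g * x₀ * g⁻¹ ∈ D' := conj_mem hD' g hx₀
  have hxK : g * x₀ * g⁻¹ ∈ closure (perp D d) := by
    rw [← hS.centralizer_eq hd]
    refine mem_centralizer_singleton_iff.2 ?_
    rw [← hg]
    refine ((conj_commute_iff g x₀ a).2 ?_).eq
    rw [← hsp]
    exact (Commute.list_prod_right _ _ fun w hw => hs.comm a (by simp) w hw).symm
  rcases shape _ hx₁ hxK with e | ⟨y, hy, e | e⟩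
  · exact eq_of hd (e ▸ hx₁)
  · exact eq_of hy.1 (e ▸ hx₁)
  have pairs : ∀ u ∈ D, ∀ v ∈ perp D u, u * v ∈ D' := by
    intro u hu v hv
    have one : ∀ w ∈ D, CList D [w] := fun w hw => ⟨List.nodup_singleton w, by simp [hw], by simp⟩
    have hl₁ : CList D [y, d] :=
      (one d hd).cons hy.1 fun w hw => List.mem_singleton.1 hw ▸ ⟨hd, hy.2.1.symm, hy.2.2.symm⟩
    have hl₂ : CList D [u, v] := (one v hv.1).cons hu fun w hw => List.mem_singleton.1 hw ▸ hv
    have := (hL.isConj_prod hl₁ hl₂ rfl (le_refl 2))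
    obtain ⟨g', hg'⟩ := isConj_iff.1 this
    simp only [List.prod_cons, List.prod_nil, mul_one] at hg'
    rw [← hg', ← e]
    exact conj_mem hD' g' hx₁
  exfalso
  obtain ⟨q, hq, hlen⟩ := T.exists_clist hd hk hl0 hl'0 (n := 3) (by norm_num)
  obtain ⟨p₁, p₂, p₃, rfl⟩ := List.length_eq_three.1 hlen
  obtain ⟨g₂, hg₂⟩ := exists_conj hcls (hq.mem p₁ (by simp)) hd
  have hq' := hq.map_conj hcls g₂
  simp only [List.map_cons, List.map_nil, hg₂] at hq'
  obtain ⟨hce, hdp⟩ := hq'.of_cons
  generalize g₂ * p₂ * g₂⁻¹ = c, g₂ * p₃ * g₂⁻¹ = f at hce hdp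
  have hc := hdp c (by simp)
  have hf := hdp f (by simp)
  have hcf := hce.of_cons.2 f (by simp)
  have hne : ∀ w ∈ D, c * f ≠ w := fun w hw e' => by
    have := T.length_unique hkl hll hce (⟨List.nodup_singleton w, by simp [hw], by simp⟩ : CList D [w]) (by simp)
      (by simp) (by simp) (by simp) (by simp [e'])
    simp at this
  rcases shape _ (pairs c hc.1 f hcf) (mul_mem (subset_closure hc) (subset_closure hf)) with e' | ⟨w, hw, e' | e'⟩
  · exact hne d hd e'
  · exact hne w hw.1 e'
  have hwd : CList D [w, d] := (⟨List.nodup_singleton d, by simp [hd], by simp⟩ : CList D [d]).cons hw.1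
    fun z hz => List.mem_singleton.1 hz ▸ ⟨hd, hw.2.1.symm, hw.2.2.symm⟩
  have hpair := pair_unique hcls.1 T.twin (l := [c, f]) (l' := [w, d]) rfl rfl hce.nodup hwd.nodup hce.mem hwd.mem
    hce.comm hwd.comm (by simpa using e')
  have := (hpair d).2 (by simp)
  simp only [List.mem_cons, List.not_mem_nil, or_false] at this
  rcases this with e'' | e''
  exacts [hc.2.1 e''.symm, hf.2.1 e''.symm]

theorem ListTrans.mono {n n' : ℕ} (h : ListTrans D n) (hn : n' ≤ n) : ListTrans D n' :=
  fun l l' hl hl' e hl2 => h l l' hl hl' e (hl2.trans hn)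

theorem M23.class_unique [Finite G] (h : M23 D) {D' : Set G} (hD' : IsThreeTranspositionClass D') : D' = D := by
  obtain ⟨d, hd, hQ⟩ := h.descended
  exact unique_of_desc h.solid hd hQ.isSimple hQ.center_eq (fun _ hT => hQ.class_unique hT) h.invForm
    (h.listTrans.mono (by norm_num)) (by norm_num) (by norm_num) (by norm_num) (by norm_num) (by norm_num) hD'

theorem M24.class_unique [Finite G] (h : M24 D) {D' : Set G} (hD' : IsThreeTranspositionClass D') : D' = D := by
  obtain ⟨d, hd, hQ, -⟩ := h.descended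
  exact unique_of_desc h.solid hd hQ.isSimple hQ.solid.full.tower.center_eq (fun _ hT => hQ.class_unique hT) h.invForm
    (h.listTrans.mono (by norm_num)) (by norm_num) (by norm_num) (by norm_num) (by norm_num) (by norm_num) hD'

end Cfsg.Lib.ThreeTr
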