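import Cfsg.Agent.ThreeTransposition.M24Count.Members
import Cfsg.Agent.Components.Misc.DihedralSupplement

/-!
A subgroup of order `2 ^ 17` avoiding `d` in the group generated by three commuting members and the members
commuting with them, and the sign homomorphism it gives.
-/

set_option autoImplicit false
set_option linter.unusedSectionVars false
set_option linter.style.haveILetI false

namespace Cfsg.Lib.ThreeTr

open Cfsg Subgroup Cfsg.Lib.Classical

attribute [local instance] _root_.Classical.propDecidable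

universe u

variable {G : Type u} [Group G] {D : Set G}

/-- Adjoining an involution that normalises a generated subgroup at most doubles it. -/
theorem card_closure_insert_le [Finite G] {S : Set G} {g : G} (hg : g * g = 1)
    (hc : ∀ x ∈ S, g * x * g ∈ closure S) :
    Nat.card ↥(closure (insert g S)) ≤ 2 * Nat.card ↥(closure S) := by
  have hinv : g⁻¹ = g := inv_eq_of_mul_eq_one_right hg
  have hnorm : ∀ n ∈ closure S, g * n * g ∈ closure S := by
    intro n hn
    have hle : closure S ≤ (closure S).comap (MulAut.conj g).toMonoidHom :=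
      (closure_le _).2 fun x hx => by simpa [hinv] using hc x hx
    simpa [hinv] using hle hn
  have hmem : ∀ n ∈ closure (insert g S), n ∈ (closure S : Set G) ∪ (· * g) '' (closure S : Set G) := by
    intro n hn
    induction hn using closure_induction_left with
    | one => exact Or.inl (one_mem _)
    | mul_left x hx n _ ih =>
      rcases hx with rfl | hx
      · rcases ih with h | ⟨k, hk, rfl⟩
        · exact Or.inr ⟨x * n * x, hnorm n h, by simp [mul_assoc, hg]⟩
        · exact Or.inl (by simpa [mul_assoc] using hnorm k hk)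
      · rcases ih with h | ⟨k, hk, rfl⟩
        · exact Or.inl (mul_mem (subset_closure hx) h)
        · exact Or.inr ⟨x * k, mul_mem (subset_closure hx) hk, by simp [mul_assoc]⟩
    | inv_mul_cancel x hx n _ ih =>
      rcases hx with rfl | hx
      · rw [hinv]
        rcases ih with h | ⟨k, hk, rfl⟩
        · exact Or.inr ⟨x * n * x, hnorm n h, by simp [mul_assoc, hg]⟩
        · exact Or.inl (by simpa [mul_assoc] using hnorm k hk)
      · rcases ih with h | ⟨k, hk, rfl⟩
        · exact Or.inl (mul_mem (inv_mem (subset_closure hx)) h)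
        · exact Or.inr ⟨x⁻¹ * k, mul_mem (inv_mem (subset_closure hx)) hk, by simp [mul_assoc]⟩
  calc Nat.card ↥(closure (insert g S)) = ((closure (insert g S) : Subgroup G) : Set G).ncard :=
        (Nat.card_coe_set_eq _)
    _ ≤ ((closure S : Set G) ∪ (· * g) '' (closure S : Set G)).ncard := Set.ncard_le_ncard hmem (Set.toFinite _)
    _ ≤ (closure S : Set G).ncard + ((· * g) '' (closure S : Set G)).ncard := Set.ncard_union_le _ _
    _ ≤ (closure S : Set G).ncard + (closure S : Set G).ncard :=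
        Nat.add_le_add_left (Set.ncard_image_le (Set.toFinite _)) _
    _ = 2 * Nat.card ↥(closure S) := by rw [two_mul, ← Nat.card_coe_set_eq]; rfl

/-- Commuting involutions generate at most `2 ^ n` elements. -/
theorem card_closure_commuting_le [Finite G] : ∀ (l : List G), (∀ a ∈ l, a * a = 1) →
    (∀ a ∈ l, ∀ b ∈ l, Commute a b) → Nat.card ↥(closure {x | x ∈ l}) ≤ 2 ^ l.length
  | [], _, _ => by
    rw [show ({x | x ∈ ([] : List G)} : Set G) = ∅ by simp, Subgroup.closure_empty, Subgroup.card_bot]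
    simp
  | a :: l, h2, hc => by
    have ih := card_closure_commuting_le l (fun b hb => h2 b (by simp [hb]))
      fun b hb c hc' => hc b (by simp [hb]) c (by simp [hc'])
    have hstep := card_closure_insert_le (S := {x | x ∈ l}) (h2 a (by simp)) fun x hx => by
      rw [(hc a (by simp) x (List.mem_cons_of_mem _ hx)).eq, mul_assoc, h2 a (by simp), mul_one]
      exact subset_closure hx
    rw [show ({x | x ∈ a :: l} : Set G) = insert a {x | x ∈ l} by ext x; simp]
    rw [List.length_cons, pow_succ]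
    omega

variable {d y z : G} {F : Type} [Field F] {H : HermSpace F (Fin 6 → F)} {Q : Type u} [Group Q]
  {π : H.SIsom →* Q} {φ : ↥(closure (triGen D d y z)) →* Q} {m : (Fin 6 → F) → G} {ω : F}
  {e f : Fin 3 → Fin 6 → F}

/-- Two members on the line through `a` and `b`. -/
def rootm (m : (Fin 6 → F) → G) (ω : F) (a b : Fin 6 → F) (α : F) : G :=
  m (a + (α * ω) • b) * m (a + (α * (ω + 1)) • b)

/-- Two orthogonal isotropic vectors with partners. -/
structure Line (H : HermSpace F (Fin 6 → F)) (a b p q : Fin 6 → F) : Prop where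
  aa : H.h a a = 0
  bb : H.h b b = 0
  ab : H.h a b = 0
  ap : H.h a p = 1
  bp : H.h b p = 0
  aq : H.h a q = 0
  bq : H.h b q = 1

/-- The generators of the abelian part. -/
def abGen (m : (Fin 6 → F) → G) (ω : F) (e : Fin 3 → Fin 6 → F) (d y z : G) : List G :=
  [d * y, d * z, d * m (e 0), d * m (e 1), d * m (e 2), rootm m ω (e 0) (e 1) 1, rootm m ω (e 0) (e 1) ω,
    rootm m ω (e 0) (e 2) 1, rootm m ω (e 0) (e 2) ω, rootm m ω (e 1) (e 2) 1, rootm m ω (e 1) (e 2) ω]

/-- The abelian part. -/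
def abPart (m : (Fin 6 → F) → G) (ω : F) (e : Fin 3 → Fin 6 → F) (d y z : G) : Subgroup G :=
  closure {x | x ∈ abGen m ω e d y z}

namespace TripleModel

section

variable [Finite G] [Finite F] (hM : TripleModel D d y z H π φ m) (hD : Short D) (hfr : Frame H ω e f)
include hM hD hfr

theorem line_ne {a b p q : Fin 6 → F} (hl : Line H a b p q) (s : F) :
    a + s • b ≠ 0 ∧ a ≠ 0 ∧ b ≠ 0 ∧ H.h (a + s • b) (a + s • b) = 0 := by
  refine ⟨fun h => ?_, fun h => ?_, fun h => ?_, hfr.iso_comb hM.six hl.aa hl.bb hl.ab s s⟩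
  · have := congrArg (fun v => H.h v p) h
    simp [H.add_left, H.smul_left, hl.ap, hl.bp, H.zero_left] at this
  · have := hl.ap
    rw [h, H.zero_left] at this
    exact zero_ne_one this
  · have := hl.bq
    rw [h, H.zero_left] at this
    exact zero_ne_one this

theorem line_smul {a b p q : Fin 6 → F} (hl : Line H a b p q) {s : F} (hs : s ≠ 0) :
    Line H a (s • b) p (H.σ s⁻¹ • q) := by
  refine ⟨hl.aa, ?_, ?_, hl.ap, ?_, ?_, ?_⟩
  · rw [H.smul_left, H.smul_right, hl.bb, mul_zero, mul_zero]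
  · rw [H.smul_right, hl.ab, mul_zero]
  · rw [H.smul_left, hl.bp, mul_zero]
  · rw [H.smul_right, hl.aq, mul_zero]
  · rw [H.smul_left, H.smul_right, hl.bq, H.conj.invol, mul_one, mul_inv_cancel₀ hs]

theorem ω_ne : ω ≠ 0 ∧ ω ≠ 1 ∧ ω + 1 ≠ 0 ∧ ω + 1 ≠ 1 ∧ ω + 1 ≠ ω := by
  have h0 : ω ≠ 0 := fun h => by
    have := hfr.sq
    rw [h, mul_zero, zero_add] at this
    exact zero_ne_one this
  have h1 : ω ≠ 1 := fun h => by
    have := hfr.sq
    rw [h, mul_one, hM.six.add_self] at this
    exact one_ne_zero this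
  exact ⟨h0, h1, fun h => h1 (by linear_combination h - hM.six.two), fun h => h0 (by linear_combination h),
    fun h => one_ne_zero (α := F) (by linear_combination h)⟩

theorem comb_ne {a b p q : Fin 6 → F} (hl : Line H a b p q) {s t : F} (hst : s ≠ t) :
    m (a + s • b) ≠ m (a + t • b) := by
  refine hM.m_ne hD (hM.line_ne hD hfr hl s).1 (hM.line_ne hD hfr hl s).2.2.2 (hM.line_ne hD hfr hl t).1
    (hM.line_ne hD hfr hl t).2.2.2 (u := q + H.σ s • p) ?_ ?_
  · simp only [H.add_left, H.add_right, H.smul_left, H.smul_right, hl.ap, hl.bp, hl.aq, hl.bq, H.conj.invol,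
      mul_one, mul_zero, add_zero, zero_add]
    exact hM.six.add_self s
  · simp only [H.add_left, H.add_right, H.smul_left, H.smul_right, hl.ap, hl.bp, hl.aq, hl.bq, H.conj.invol,
      mul_one, mul_zero, add_zero, zero_add]
    exact fun h => hst (by linear_combination h - t * hM.six.two)

theorem im_list : ∀ (l : List (Fin 6 → F)), (∀ v ∈ l, v ≠ 0 ∧ H.h v v = 0) →
    hM.Im (l.map m).prod (l.map hM.six.tr).prod
  | [], _ => by simpa using hM.im_one hD
  | v :: l, h => by
    rw [List.map_cons, List.map_cons, List.prod_cons, List.prod_cons]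
    exact hM.im_mul hD (hM.im_m hD (h v (by simp)).1 (h v (by simp)).2) (im_list l fun w hw => h w (by simp [hw]))

theorem kill_list (l : List (Fin 6 → F)) (h : ∀ v ∈ l, v ≠ 0) (ho : ∀ v ∈ l, ∀ w ∈ l, H.h v w = 0)
    (hnd : (l.map m).Nodup) (hp : (l.map hM.six.tr).prod = 1) : Kill hM (l.map m) := by
  refine ⟨fun x hx => ?_, hnd, fun x hx w hw => ?_, hp ▸ hM.im_list hD hfr l fun v hv => ⟨h v hv, ho v hv v hv⟩⟩
  · obtain ⟨v, hv, rfl⟩ := List.mem_map.1 hx
    exact hM.mem v (h v hv) (ho v hv v hv)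
  · obtain ⟨v, hv, rfl⟩ := List.mem_map.1 hx
    obtain ⟨v', hv', rfl⟩ := List.mem_map.1 hw
    exact hM.m_commute hD (h v hv) (ho v hv v hv) (h v' hv') (ho v' hv' v' hv') (ho v hv v' hv')

theorem line_five {a b p q : Fin 6 → F} (hl : Line H a b p q) :
    (([a, b, a + (1 : F) • b, a + ω • b, a + (ω + 1) • b] : List (Fin 6 → F)).map m).prod = d * y * z := by
  obtain ⟨w0, w1, w2, w3, w4⟩ := hM.ω_ne hD hfr
  have hn := fun s => hM.line_ne hD hfr hl s
  have hb0 := (hn 0).2.2.1
  have hsum := fun s => (hn s).1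
  have na : ∀ s : F, s ≠ 0 → m a ≠ m (a + s • b) := fun s hs => by
    have := hM.comb_ne hD hfr hl (s := 0) (t := s) hs.symm
    rwa [zero_smul, add_zero] at this
  have nb : ∀ s, m b ≠ m (a + s • b) := fun s =>
    hM.m_ne hD hb0 hl.bb (hsum s) (hn s).2.2.2 (u := p) hl.bp
      (by rw [H.add_left, H.smul_left, hl.ap, hl.bp, mul_zero, add_zero]; exact one_ne_zero)
  have nab : m a ≠ m b := hM.m_ne hD (hn 0).2.1 hl.aa hb0 hl.bb (u := q) hl.aq (hl.bq ▸ one_ne_zero)
  refine hM.kill_five hD (hM.kill_list hD hfr _ ?_ ?_ ?_ (hfr.line_sum hM.six hl.aa hl.bb hl.ab)) rfl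
  · intro v hv
    simp only [List.mem_cons, List.not_mem_nil, or_false] at hv
    rcases hv with rfl | rfl | rfl | rfl | rfl
    · exact (hn 0).2.1
    · exact hb0
    all_goals exact hsum _
  · intro v hv w hw
    simp only [List.mem_cons, List.not_mem_nil, or_false] at hv hw
    rcases hv with rfl | rfl | rfl | rfl | rfl <;> rcases hw with rfl | rfl | rfl | rfl | rfl <;>
      simp [H.add_left, H.add_right, H.smul_left, H.smul_right, hl.aa, hl.bb, hl.ab, H.eq_zero_symm hl.ab]
  · simp only [List.map_cons, List.map_nil, List.nodup_cons, List.mem_cons, List.not_mem_nil, or_false, not_or,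
      List.nodup_nil, and_true, not_false_eq_true]
    exact ⟨⟨nab, na _ one_ne_zero, na _ w0, na _ w2⟩, ⟨nb _, nb _, nb _⟩,
      ⟨hM.comb_ne hD hfr hl w1.symm, hM.comb_ne hD hfr hl w3.symm⟩, hM.comb_ne hD hfr hl w4.symm⟩

theorem rootm_one {a b : Fin 6 → F} : rootm m ω a b 1 = m (a + ω • b) * m (a + (ω + 1) • b) := by
  rw [rootm, one_mul, one_mul]

theorem rootm_smul {a b : Fin 6 → F} (s : F) : rootm m ω a (s • b) 1 = rootm m ω a b s := by
  rw [hM.rootm_one hD hfr, rootm, smul_smul, smul_smul, mul_comm ω s, mul_comm (ω + 1) s]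

theorem comb_commute {a b p q : Fin 6 → F} (hl : Line H a b p q) (s t : F) :
    Commute (m (a + s • b)) (m (a + t • b)) :=
  hM.m_commute hD (hM.line_ne hD hfr hl s).1 (hM.line_ne hD hfr hl s).2.2.2 (hM.line_ne hD hfr hl t).1
    (hM.line_ne hD hfr hl t).2.2.2 (hfr.iso_comb hM.six hl.aa hl.bb hl.ab s t)

theorem m_sq {v : Fin 6 → F} (v0 : v ≠ 0) (hv : H.h v v = 0) : m v * m v = 1 :=
  sq_eq_one hD.cls.1 (hM.mem v v0 hv).1.1.1

theorem m_comm3 {v : Fin 6 → F} (v0 : v ≠ 0) (hv : H.h v v = 0) :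
    Commute (m v) d ∧ Commute (m v) y ∧ Commute (m v) z :=
  hM.closure_commute hD (hM.mem_K hD (hM.mem v v0 hv))

theorem rootm_sq {a b p q : Fin 6 → F} (hl : Line H a b p q) (α : F) :
    rootm m ω a b α * rootm m ω a b α = 1 := by
  have hn := fun s => hM.line_ne hD hfr hl s
  have h := prod_mul_prod_eq_one [m (a + (α * ω) • b), m (a + (α * (ω + 1)) • b)]
    (fun x hx => by
      simp only [List.mem_cons, List.not_mem_nil, or_false] at hx
      rcases hx with rfl | rfl <;> exact hM.m_sq hD hfr (hn _).1 (hn _).2.2.2)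
    (fun x hx w hw => by
      simp only [List.mem_cons, List.not_mem_nil, or_false] at hx hw
      rcases hx with rfl | rfl <;> rcases hw with rfl | rfl <;> exact hM.comb_commute hD hfr hl _ _)
  simpa [rootm] using h

theorem rootm_zero {a b p q : Fin 6 → F} (hl : Line H a b p q) : rootm m ω a b 0 = 1 := by
  rw [rootm, zero_mul, zero_mul, zero_smul, add_zero]
  exact hM.m_sq hD hfr (hM.line_ne hD hfr hl 0).2.1 hl.aa

theorem rootm_add {a b p q : Fin 6 → F} (hl : Line H a b p q) :
    rootm m ω a b (ω + 1) = rootm m ω a b 1 * rootm m ω a b ω := by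
  have e1 : (ω + 1) * ω = (1 : F) := by linear_combination hfr.sq + ω * hM.six.two
  have e2 : (ω + 1) * (ω + 1) = ω := by linear_combination hfr.sq + (ω + 1) * hM.six.two
  have e3 : ω * (ω + 1) = (1 : F) := by rw [mul_comm]; exact e1
  have hn := fun s => hM.line_ne hD hfr hl s
  simp only [rootm, e1, e2, e3, one_mul, hfr.sq]
  calc m (a + (1 : F) • b) * m (a + ω • b) = m (a + ω • b) * m (a + (1 : F) • b) := hM.comb_commute hD hfr hl 1 ω
    _ = m (a + ω • b) * (m (a + (ω + 1) • b) * m (a + (ω + 1) • b)) * m (a + (1 : F) • b) := by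
        rw [hM.m_sq hD hfr (hn _).1 (hn _).2.2.2, mul_one]
    _ = _ := by simp only [mul_assoc]

theorem rootm_im {a b p q : Fin 6 → F} (hl : Line H a b p q) (α : F) :
    hM.Im (rootm m ω a b α) (hM.six.root ω a b α) :=
  hM.im_mul hD (hM.im_m hD (hM.line_ne hD hfr hl _).1 (hM.line_ne hD hfr hl _).2.2.2)
    (hM.im_m hD (hM.line_ne hD hfr hl _).1 (hM.line_ne hD hfr hl _).2.2.2)

theorem rootm_conj {g : G} {L : H.SIsom} (hg : hM.Im g L) {a b p q : Fin 6 → F} (hl : Line H a b p q) (α : F) :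
    g * rootm m ω a b α * g⁻¹ = rootm m ω (L.1.1 a) (L.1.1 b) α := by
  rw [rootm, rootm, ← conj_mul, hM.conj_m hD hg (hM.line_ne hD hfr hl _).1 (hM.line_ne hD hfr hl _).2.2.2,
    hM.conj_m hD hg (hM.line_ne hD hfr hl _).1 (hM.line_ne hD hfr hl _).2.2.2, map_add, map_add, map_smul, map_smul]

theorem line_ee {i j : Fin 3} (hij : i ≠ j) : Line H (e i) (e j) (f i) (f j) :=
  ⟨hfr.ee i i, hfr.ee j j, hfr.ee i j, by rw [hfr.ef, if_pos rfl], by rw [hfr.ef, if_neg hij.symm],
    by rw [hfr.ef, if_neg hij], by rw [hfr.ef, if_pos rfl]⟩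

theorem line_ef {i j : Fin 3} (hij : i ≠ j) : Line H (e i) (f j) (f i) (e j) :=
  ⟨hfr.ee i i, hfr.ff j j, by rw [hfr.ef, if_neg hij], by rw [hfr.ef, if_pos rfl], hfr.ff j i, hfr.ee i j,
    by rw [hfr.fe hM.six, if_pos rfl]⟩

local notation "𝔸" => abPart m ω e d y z

theorem dy_mem : d * y ∈ 𝔸 ∧ d * z ∈ 𝔸 ∧ y * z ∈ 𝔸 := by
  have h1 : d * y ∈ 𝔸 := subset_closure (by simp [abGen])
  have h2 : d * z ∈ 𝔸 := subset_closure (by simp [abGen])
  refine ⟨h1, h2, ?_⟩
  obtain ⟨hdy, -, -⟩ := hM.three_commute hD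
  have := mul_mem h1 h2
  rwa [show d * y * (d * z) = y * z by
    rw [mul_assoc, ← mul_assoc y d, ← hdy.eq, mul_assoc d y, ← mul_assoc d d, (hM.invol hD).1, one_mul]] at this

theorem de_mem (i : Fin 3) : d * m (e i) ∈ 𝔸 := by
  fin_cases i <;> exact subset_closure (by simp [abGen])

theorem root_mem {i j : Fin 3} (hij : i < j) (α : F) : rootm m ω (e i) (e j) α ∈ 𝔸 := by
  have hl := hM.line_ee hD hfr hij.ne
  rcases hfr.elems α with rfl | rfl | rfl | rfl
  · rw [hM.rootm_zero hD hfr hl]; exact one_mem _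
  · fin_cases i <;> fin_cases j <;> first | exact absurd hij (by decide) | exact subset_closure (by simp [abGen])
  · fin_cases i <;> fin_cases j <;> first | exact absurd hij (by decide) | exact subset_closure (by simp [abGen])
  · rw [hM.rootm_add hD hfr hl]
    refine mul_mem ?_ ?_ <;>
      (fin_cases i <;> fin_cases j <;> first | exact absurd hij (by decide) | exact subset_closure (by simp [abGen]))

theorem dm_pair {v w : Fin 6 → F} (v0 : v ≠ 0) (hv : H.h v v = 0) (h1 : d * m v ∈ 𝔸) (h2 : d * m w ∈ 𝔸) :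
    m v * m w ∈ 𝔸 := by
  have := mul_mem h1 h2
  rwa [show d * m v * (d * m w) = m v * m w by
    rw [mul_assoc, ← mul_assoc (m v) d, (hM.m_comm3 hD hfr v0 hv).1.eq, mul_assoc d (m v), ← mul_assoc d d,
      (hM.invol hD).1, one_mul]] at this

theorem dm_two {i j : Fin 3} (hij : i < j) {s : F} (hs : s ≠ 0) : d * m (e i + s • e j) ∈ 𝔸 := by
  have hl' := hM.line_ee hD hfr hij.ne
  have hl := hM.line_smul hD hfr hl' hs
  have hn := fun t => hM.line_ne hD hfr hl t
  have h5 := hM.line_five hD hfr hl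
  simp only [List.map_cons, List.map_nil, List.prod_cons, List.prod_nil, mul_one, one_smul,
    ← hM.rootm_one hD hfr, hM.rootm_smul hD hfr, hM.m_smul hD (hM.line_ne hD hfr hl' 0).2.2.1 hl'.bb hs] at h5
  set R := rootm m ω (e i) (e j) s
  have hs1 := hn 1
  rw [one_smul] at hs1
  set u := m (e i)
  set v := m (e j)
  set w := m (e i + s • e j)
  have uv : u * v ∈ 𝔸 :=
    hM.dm_pair hD hfr (hn 0).2.1 hl.aa (hM.de_mem hD hfr i) (hM.de_mem hD hfr j)
  have hR : R ∈ 𝔸 := hM.root_mem hD hfr hij s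
  have ew : d * w = (d * ((u * v)⁻¹ * (d * y * z))) * R⁻¹ := by rw [← h5]; group
  rw [ew]
  refine mul_mem ?_ (inv_mem hR)
  have hcd : Commute d ((u * v)⁻¹) := by
    refine (Commute.mul_right ?_ ?_).inv_right
    · exact (hM.m_comm3 hD hfr (hn 0).2.1 hl.aa).1.symm
    · exact (hM.m_comm3 hD hfr (hM.line_ne hD hfr hl' 0).2.2.1 hl'.bb).1.symm
  rw [← mul_assoc, hcd.eq, mul_assoc, show d * (d * y * z) = y * z by
    rw [mul_assoc d y, ← mul_assoc, (hM.invol hD).1, one_mul]]
  exact mul_mem (inv_mem uv) (hM.dy_mem hD hfr).2.2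

theorem dm_three {a b : F} (ha : a ≠ 0) (hb : b ≠ 0) : d * m (e 0 + a • e 1 + b • e 2) ∈ 𝔸 := by
  obtain ⟨w0, w1, w2, w3, w4⟩ := hM.ω_ne hD hfr
  obtain ⟨hdy, hdz, hyz⟩ := hM.three_commute hD
  obtain ⟨dd, yy, zz⟩ := hM.invol hD
  set u := e 0
  set v := a • e 1 with hvdef
  set w := b • e 2 with hwdef
  have h01 := hM.line_ee hD hfr (show (0 : Fin 3) ≠ 1 by decide)
  have hl := hM.line_smul hD hfr h01 ha
  have q12 : ∀ i j : Fin 3, H.h (e i) (e j) = 0 := hfr.ee
  have g : ∀ i j : Fin 3, H.h (e i) (f j) = if i = j then 1 else 0 := hfr.ef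
  have hu := q12 0 0
  have hv : H.h v v = 0 := hl.bb
  have hw : H.h w w = 0 := by rw [hwdef, H.smul_left, H.smul_right, q12, mul_zero, mul_zero]
  have huv : H.h u v = 0 := hl.ab
  have huw : H.h u w = 0 := by rw [hwdef, H.smul_right, q12, mul_zero]
  have hvw : H.h v w = 0 := by rw [hvdef, hwdef, H.smul_left, H.smul_right, q12, mul_zero, mul_zero]
  have k0 : ∀ x : Fin 6 → F, (∃ i, H.h x (f i) ≠ 0) → x ≠ 0 := fun x ⟨i, hi⟩ e0 => hi (by rw [e0, H.zero_left])
  -- separated members
  have sep : ∀ x x' : Fin 6 → F, H.h x x = 0 → H.h x' x' = 0 → x ≠ 0 → x' ≠ 0 →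
      (∃ i, H.h x (f i) = 0 ∧ H.h x' (f i) ≠ 0) ∨ (∃ i, H.h x' (f i) = 0 ∧ H.h x (f i) ≠ 0) → m x ≠ m x' := by
    rintro x x' hx hx' x0 x0' (⟨i, h1, h2⟩ | ⟨i, h1, h2⟩)
    · exact hM.m_ne hD x0 hx x0' hx' h1 h2
    · exact (hM.m_ne hD x0' hx' x0 hx h1 h2).symm
  let L7 : List (Fin 6 → F) := [u + v + w, w, u + w, v + w, u, v, u + v]
  have hne7 : ∀ x ∈ L7, x ≠ 0 := by
    intro x hx
    simp only [L7, List.mem_cons, List.not_mem_nil, or_false] at hx
    refine k0 x ?_
    rcases hx with rfl | rfl | rfl | rfl | rfl | rfl | rfl <;>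
      first
        | (refine ⟨0, ?_⟩; simp [u, v, w, H.add_left, H.smul_left, g]; done)
        | (refine ⟨1, ?_⟩; simp [u, v, w, H.add_left, H.smul_left, g, ha]; done)
        | (refine ⟨2, ?_⟩; simp [u, v, w, H.add_left, H.smul_left, g, hb]; done)
  have ho7 : ∀ x ∈ L7, ∀ x' ∈ L7, H.h x x' = 0 := by
    intro x hx x' hx'
    simp only [L7, List.mem_cons, List.not_mem_nil, or_false] at hx hx'
    rcases hx with rfl | rfl | rfl | rfl | rfl | rfl | rfl <;>
      rcases hx' with rfl | rfl | rfl | rfl | rfl | rfl | rfl <;>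
      simp [u, v, w, H.add_left, H.add_right, H.smul_left, H.smul_right, q12]
  have hnd7 : (L7.map m).Nodup := by
    simp only [L7, List.map_cons, List.map_nil, List.nodup_cons, List.mem_cons, List.not_mem_nil, or_false, not_or,
      List.nodup_nil, and_true, not_false_eq_true]
    refine ⟨⟨?_, ?_, ?_, ?_, ?_, ?_⟩, ⟨?_, ?_, ?_, ?_, ?_⟩, ⟨?_, ?_, ?_, ?_⟩, ⟨?_, ?_, ?_⟩, ⟨?_, ?_⟩, ?_⟩ <;>
      refine sep _ _ (ho7 _ (by simp [L7]) _ (by simp [L7])) (ho7 _ (by simp [L7]) _ (by simp [L7]))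
        (hne7 _ (by simp [L7])) (hne7 _ (by simp [L7])) ?_ <;>
      first
        | (refine Or.inl ⟨0, ?_⟩; simp [u, v, w, H.add_left, H.smul_left, g, ha, hb]; done)
        | (refine Or.inl ⟨1, ?_⟩; simp [u, v, w, H.add_left, H.smul_left, g, ha, hb]; done)
        | (refine Or.inl ⟨2, ?_⟩; simp [u, v, w, H.add_left, H.smul_left, g, ha, hb]; done)
        | (refine Or.inr ⟨0, ?_⟩; simp [u, v, w, H.add_left, H.smul_left, g, ha, hb]; done)
        | (refine Or.inr ⟨1, ?_⟩; simp [u, v, w, H.add_left, H.smul_left, g, ha, hb]; done)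
        | (refine Or.inr ⟨2, ?_⟩; simp [u, v, w, H.add_left, H.smul_left, g, ha, hb]; done)
  have K7 := hM.kill_list hD hfr L7 hne7 ho7 hnd7 (hfr.plane_sum hM.six hu hv hw huv huw hvw)
  let L6 : List (Fin 6 → F) := [u + v + w, w, u + w, v + w, u + ω • v, u + (ω + 1) • v]
  have hne6 : ∀ x ∈ L6, x ≠ 0 := by
    intro x hx
    simp only [L6, List.mem_cons, List.not_mem_nil, or_false] at hx
    rcases hx with rfl | rfl | rfl | rfl | rfl | rfl
    all_goals first
      | exact (hM.line_ne hD hfr hl _).1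
      | (refine hne7 _ ?_; simp [L7]; done)
  have ho6 : ∀ x ∈ L6, ∀ x' ∈ L6, H.h x x' = 0 := by
    intro x hx x' hx'
    simp only [L6, List.mem_cons, List.not_mem_nil, or_false] at hx hx'
    rcases hx with rfl | rfl | rfl | rfl | rfl | rfl <;>
      rcases hx' with rfl | rfl | rfl | rfl | rfl | rfl <;>
      simp [u, v, w, H.add_left, H.add_right, H.smul_left, H.smul_right, q12]
  have hnd6 : (L6.map m).Nodup := by
    simp only [L6, List.map_cons, List.map_nil, List.nodup_cons, List.mem_cons, List.not_mem_nil, or_false, not_or,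
      List.nodup_nil, and_true, not_false_eq_true]
    refine ⟨⟨?_, ?_, ?_, ?_, ?_⟩, ⟨?_, ?_, ?_, ?_⟩, ⟨?_, ?_, ?_⟩, ⟨?_, ?_⟩, hM.comb_ne hD hfr hl w4.symm⟩ <;>
      refine sep _ _ (ho6 _ (by simp [L6]) _ (by simp [L6])) (ho6 _ (by simp [L6]) _ (by simp [L6]))
        (hne6 _ (by simp [L6])) (hne6 _ (by simp [L6])) ?_ <;>
      first
        | (refine Or.inl ⟨0, ?_⟩; simp [u, v, w, H.add_left, H.smul_left, g, ha, hb]; done)
        | (refine Or.inl ⟨1, ?_⟩; simp [u, v, w, H.add_left, H.smul_left, g, ha, hb]; done)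
        | (refine Or.inl ⟨2, ?_⟩; simp [u, v, w, H.add_left, H.smul_left, g, ha, hb]; done)
        | (refine Or.inr ⟨0, ?_⟩; simp [u, v, w, H.add_left, H.smul_left, g, ha, hb]; done)
        | (refine Or.inr ⟨1, ?_⟩; simp [u, v, w, H.add_left, H.smul_left, g, ha, hb]; done)
        | (refine Or.inr ⟨2, ?_⟩; simp [u, v, w, H.add_left, H.smul_left, g, ha, hb]; done)
  have e6 : (L6.map hM.six.tr).prod = 1 := hfr.six_sum hM.six hu hv hw huv huw hvw
  have K6 := hM.kill_list hD hfr L6 hne6 ho6 hnd6 e6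
  have h5 := hM.line_five hD hfr hl
  have h7 := hM.kill_seven hD K7 rfl
  have h6 := hM.kill_six hD K6 rfl
  simp only [L6, L7, List.map_cons, List.map_nil, List.prod_cons, List.prod_nil, mul_one, one_smul] at h5 h6 h7
  set P := m (u + v + w)
  set X := m w * (m (u + w) * m (v + w)) with hX
  set U := m u * (m v * m (u + v)) with hU
  set C := m (u + ω • v) * m (u + (ω + 1) • v) with hC
  have h5' : U * C = d * y * z := by rw [← h5, hU, hC]; simp only [mul_assoc]; rfl
  have e7 : P * (m w * (m (u + w) * (m (v + w) * (m u * (m v * m (u + v)))))) = P * (X * U) := by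
    rw [hX, hU]; simp only [mul_assoc]
  have e6' : P * (m w * (m (u + w) * (m (v + w) * (m (u + ω • v) * m (u + (ω + 1) • v))))) = P * (X * C) := by
    rw [hX, hC]; simp only [mul_assoc]
  rw [e6'] at h6
  rw [e7] at h7
  have cc : ∀ x x' : Fin 6 → F, x ≠ 0 → x' ≠ 0 → H.h x x = 0 → H.h x' x' = 0 → H.h x x' = 0 →
      Commute (m x) (m x') := fun x x' x0 x0' hx hx' h => hM.m_commute hD x0 hx x0' hx' h
  have hUU : U * U = 1 := by
    have := prod_mul_prod_eq_one [m u, m v, m (u + v)] (fun x hx => ?_) (fun x hx x' hx' => ?_)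
    · simpa [hU] using this
    · simp only [List.mem_cons, List.not_mem_nil, or_false] at hx
      rcases hx with rfl | rfl | rfl <;>
        exact hM.m_sq hD hfr (hne7 _ (by simp [L7])) (ho7 _ (by simp [L7]) _ (by simp [L7]))
    · simp only [List.mem_cons, List.not_mem_nil, or_false] at hx hx'
      rcases hx with rfl | rfl | rfl <;> rcases hx' with rfl | rfl | rfl <;>
        exact cc _ _ (hne7 _ (by simp [L7])) (hne7 _ (by simp [L7])) (ho7 _ (by simp [L7]) _ (by simp [L7]))
          (ho7 _ (by simp [L7]) _ (by simp [L7])) (ho7 _ (by simp [L7]) _ (by simp [L7]))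
  have dyz2 : (d * y * z) * (d * y * z) = 1 := by
    have := prod_mul_prod_eq_one [d, y, z] (fun x hx => ?_) (fun x hx x' hx' => ?_)
    · simpa [mul_assoc] using this
    · simp only [List.mem_cons, List.not_mem_nil, or_false] at hx
      rcases hx with rfl | rfl | rfl <;> assumption
    · simp only [List.mem_cons, List.not_mem_nil, or_false] at hx hx'
      rcases hx with rfl | rfl | rfl <;> rcases hx' with rfl | rfl | rfl <;>
        first | exact Commute.refl _ | exact hdy | exact hdz | exact hyz | exact hdy.symm | exact hdz.symm | exact hyz.symm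
  have hCU : C = U * (d * y * z) := by rw [← h5', ← mul_assoc, hUU, one_mul]
  have ed : d * (d * y * z) = y * z := by rw [mul_assoc d y, ← mul_assoc, dd, one_mul]
  have hval : d * (P * (X * U)) ∈ 𝔸 := by
    have hUeq : P * (X * U) = P * (X * C) * (d * y * z) := by
      rw [hCU]
      simp only [mul_assoc]
      rw [show d * (y * (z * (d * (y * z)))) = 1 by simpa only [mul_assoc] using dyz2, mul_one]
    obtain ⟨m1, m2, m3⟩ := hM.dy_mem hD hfr
    rw [hUeq]
    rcases h6 with e' | e' | e' | e' <;> rw [e']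
    · rw [show d * (d * y * (d * y * z)) = (d * y) * (d * (d * y * z)) * (1 : G) by
        rw [mul_one, ← mul_assoc d (d * y), ← mul_assoc (d * y) d, (show Commute (d * y) d from
          (Commute.refl d).mul_left hdy.symm).eq], ed, mul_one, show d * y * (y * z) = d * z by
        rw [mul_assoc, ← mul_assoc y y, yy, one_mul]]
      exact m2
    · rw [show d * (d * z * (d * y * z)) = (d * z) * (d * (d * y * z)) by
        rw [← mul_assoc d (d * z), ← mul_assoc (d * z) d, (show Commute (d * z) d from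
          (Commute.refl d).mul_left hdz.symm).eq], ed, show d * z * (y * z) = d * y by
        rw [mul_assoc, hyz.eq, ← mul_assoc z z, zz, one_mul]]
      exact m1
    · rw [show d * (y * z * (d * y * z)) = (y * z) * (d * (d * y * z)) by
        rw [← mul_assoc d (y * z), ← mul_assoc (y * z) d, (show Commute d (y * z) from
          hdy.mul_right hdz).eq], ed, show y * z * (y * z) = 1 by
        rw [hyz.eq, mul_assoc, ← mul_assoc y z, hyz.eq, mul_assoc z y y, yy, mul_one, zz]]
      exact one_mem _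
    · exact absurd (hUeq.trans (by rw [e', dyz2])) h7
  have hXU : X * U ∈ 𝔸 := by
    have h2 : ∀ s : F, s ≠ 0 → d * m (u + s • e 1) ∈ 𝔸 ∧ d * m (u + s • e 2) ∈ 𝔸 := fun s hs =>
      ⟨hM.dm_two hD hfr (by decide) hs, hM.dm_two hD hfr (by decide) hs⟩
    have hmu : d * m u ∈ 𝔸 := hM.de_mem hD hfr 0
    have hmv : d * m v ∈ 𝔸 := by
      rw [hvdef, hM.m_smul hD (hM.line_ne hD hfr h01 0).2.2.1 h01.bb ha]; exact hM.de_mem hD hfr 1
    have hmw : d * m w ∈ 𝔸 := by
      rw [hwdef, hM.m_smul hD (k0 _ ⟨2, by simp [g]⟩) (q12 2 2) hb]; exact hM.de_mem hD hfr 2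
    have hmvw : d * m (v + w) ∈ 𝔸 := by
      have hs : a⁻¹ * b ≠ 0 := mul_ne_zero (inv_ne_zero ha) hb
      have e12 : v + w = a • (e 1 + (a⁻¹ * b) • e 2) := by
        rw [hvdef, hwdef, smul_add, smul_smul, ← mul_assoc, mul_inv_cancel₀ ha, one_mul]
      have hl12 := hM.line_ee hD hfr (show (1 : Fin 3) ≠ 2 by decide)
      rw [e12, hM.m_smul hD (hM.line_ne hD hfr hl12 _).1 (hM.line_ne hD hfr hl12 _).2.2.2 ha]
      exact hM.dm_two hD hfr (by decide) hs
    have p1 := hM.dm_pair hD hfr (hne7 w (by simp [L7])) hw hmw (h2 b hb).2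
    have p2 := hM.dm_pair hD hfr (hne7 (v + w) (by simp [L7])) (ho7 _ (by simp [L7]) _ (by simp [L7])) hmvw hmu
    have p3 := hM.dm_pair hD hfr (hne7 v (by simp [L7])) hv hmv (h2 a ha).1
    have : X * U = m w * m (u + w) * (m (v + w) * m u) * (m v * m (u + v)) := by
      rw [hX, hU]; simp only [mul_assoc]
    rw [this]
    exact mul_mem (mul_mem p1 p2) p3
  have : d * P = d * (P * (X * U)) * (X * U)⁻¹ := by group
  rw [this]
  exact mul_mem hval (inv_mem hXU)

theorem span_mem {c₀ c₁ c₂ : F} (hne : c₀ • e 0 + c₁ • e 1 + c₂ • e 2 ≠ 0) :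
    d * m (c₀ • e 0 + c₁ • e 1 + c₂ • e 2) ∈ 𝔸 := by
  have hk : ∀ i, e i ≠ 0 := fun i h => by
    have := hfr.ef i i
    rw [h, H.zero_left, if_pos rfl] at this
    exact zero_ne_one this
  by_cases h0 : c₀ = 0
  · subst h0
    simp only [zero_smul, zero_add] at hne ⊢
    by_cases h1 : c₁ = 0
    · subst h1
      simp only [zero_smul, zero_add] at hne ⊢
      rw [hM.m_smul hD (hk 2) (hfr.ee 2 2) (fun h => hne (by rw [h, zero_smul]))]
      exact hM.de_mem hD hfr 2
    by_cases h2 : c₂ = 0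
    · rw [h2, zero_smul, add_zero, hM.m_smul hD (hk 1) (hfr.ee 1 1) h1]
      exact hM.de_mem hD hfr 1
    have hl := hM.line_ee hD hfr (show (1 : Fin 3) ≠ 2 by decide)
    rw [show c₁ • e 1 + c₂ • e 2 = c₁ • (e 1 + (c₁⁻¹ * c₂) • e 2) by
        rw [smul_add, smul_smul, ← mul_assoc, mul_inv_cancel₀ h1, one_mul],
      hM.m_smul hD (hM.line_ne hD hfr hl _).1 (hM.line_ne hD hfr hl _).2.2.2 h1]
    exact hM.dm_two hD hfr (by decide) (mul_ne_zero (inv_ne_zero h1) h2)
  have e0 : c₀ • e 0 + c₁ • e 1 + c₂ • e 2 = c₀ • (e 0 + (c₀⁻¹ * c₁) • e 1 + (c₀⁻¹ * c₂) • e 2) := by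
    rw [smul_add, smul_add, smul_smul, smul_smul, ← mul_assoc, ← mul_assoc, mul_inv_cancel₀ h0, one_mul, one_mul]
  rw [e0, hM.m_smul hD (fun h => hne (by rw [e0, h, smul_zero]))
    (by simp [H.add_left, H.add_right, H.smul_left, H.smul_right, hfr.ee]) h0]
  by_cases h1 : c₁ = 0
  · rw [h1, mul_zero, zero_smul, add_zero]
    by_cases h2 : c₂ = 0
    · rw [h2, mul_zero, zero_smul, add_zero]; exact hM.de_mem hD hfr 0
    exact hM.dm_two hD hfr (by decide) (mul_ne_zero (inv_ne_zero h0) h2)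
  by_cases h2 : c₂ = 0
  · rw [h2, mul_zero, zero_smul, add_zero]
    exact hM.dm_two hD hfr (by decide) (mul_ne_zero (inv_ne_zero h0) h1)
  exact hM.dm_three hD hfr (mul_ne_zero (inv_ne_zero h0) h1) (mul_ne_zero (inv_ne_zero h0) h2)

end

end TripleModel

end Cfsg.Lib.ThreeTr
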