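import Cfsg.Agent.ThreeTransposition.M22Count.Local

/-!
Coordinates in the hermitian space of dimension six over the field with four elements: three hyperbolic pairs,
products of transvections on a totally isotropic line, and the `2 ^ 15` elements they give.
-/

set_option autoImplicit false
set_option linter.unusedSectionVars false
set_option linter.style.haveILetI false

namespace Cfsg.Lib.ThreeTr

open Cfsg Subgroup Cfsg.Lib.Classical Cfsg.Lib.TTUnitary

attribute [local instance] _root_.Classical.propDecidable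

universe u v

variable {F : Type u} [Field F] {V : Type v} [AddCommGroup V] [Module F V] {H : HermSpace F V}

namespace IsSixSpace

variable (hS : IsSixSpace H)

/-- The transvection at a vector, one if it is not isotropic. -/
noncomputable def tr (v : V) : H.SIsom := if h : H.h v v = 0 then hS.tv h else 1

include hS

theorem tr_eq {v : V} (h : H.h v v = 0) : hS.tr v = hS.tv h := dif_pos h

theorem tr_apply {v : V} (h : H.h v v = 0) (x : V) : (hS.tr v).1.1 x = x + H.h x v • v := by
  rw [hS.tr_eq h, hS.tv_apply]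

theorem tr_mul_self {v : V} (h : H.h v v = 0) : hS.tr v * hS.tr v = 1 :=
  H.sisom_ext fun x => by
    rw [HermSpace.smul_mul_apply, hS.tr_apply h, hS.tr_apply h, H.add_left, H.smul_left, h, mul_zero, add_zero,
      add_assoc, hS.vadd_self, add_zero]
    rfl

theorem tr_commute {v w : V} (hv : H.h v v = 0) (hw : H.h w w = 0) (h : H.h v w = 0) :
    Commute (hS.tr v) (hS.tr w) := by
  rw [hS.tr_eq hv, hS.tr_eq hw]; exact hS.tv_commute hv hw h

theorem tr_conj (g : H.SIsom) {v : V} (h : H.h v v = 0) : g * hS.tr v * g⁻¹ = hS.tr (g.1.1 v) := by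
  rw [mul_inv_eq_iff_eq_mul]
  refine H.sisom_ext fun x => ?_
  rw [HermSpace.smul_mul_apply, HermSpace.smul_mul_apply, hS.tr_apply h,
    hS.tr_apply ((H.map_form g.1 v v).trans h), map_add, map_smul, H.map_form g.1 x v]

/-- Products of transvections at pairwise orthogonal isotropic vectors. -/
theorem trs_apply : ∀ (l : List V), (∀ v ∈ l, ∀ w ∈ l, H.h v w = 0) → ∀ x : V,
    ((l.map hS.tr).prod).1.1 x = x + (l.map fun v => H.h x v • v).sum
  | [], _, x => by simp
  | v :: l, h, x => by
    have h0 : H.h ((l.map fun w => H.h x w • w).sum) v = 0 := by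
      have hl : ∀ (l' : List V) (c : V → F), (∀ w ∈ l', H.h w v = 0) → H.h ((l'.map fun w => c w • w).sum) v = 0 := by
        intro l' c
        induction l' with
        | nil => intro _; simp [H.zero_left]
        | cons w t ih =>
          intro hw
          rw [List.map_cons, List.sum_cons, H.add_left, H.smul_left, hw w (by simp),
            ih fun u hu => hw u (by simp [hu]), mul_zero, add_zero]
      exact hl l _ fun w hw => h w (by simp [hw]) v (by simp)
    rw [List.map_cons, List.prod_cons, List.map_cons, List.sum_cons, HermSpace.smul_mul_apply,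
      trs_apply l (fun a ha b hb => h a (by simp [ha]) b (by simp [hb])) x,
      hS.tr_apply (h v (by simp) v (by simp)), H.add_left, h0, add_zero]
    abel

theorem trs_eq_one (l : List V) (h : ∀ v ∈ l, ∀ w ∈ l, H.h v w = 0)
    (hsum : ∀ x, (l.map fun v => H.h x v • v).sum = 0) : (l.map hS.tr).prod = 1 :=
  H.sisom_ext fun x => by rw [hS.trs_apply l h x, hsum, add_zero]; rfl

end IsSixSpace

/-- Three hyperbolic pairs over a field `0, 1, ω, ω + 1`. -/
structure Frame (H : HermSpace F V) (ω : F) (e f : Fin 3 → V) : Prop where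
  sq : ω * ω = ω + 1
  conj : H.σ ω = ω + 1
  elems : ∀ a : F, a = 0 ∨ a = 1 ∨ a = ω ∨ a = ω + 1
  ee : ∀ i j, H.h (e i) (e j) = 0
  ff : ∀ i j, H.h (f i) (f j) = 0
  ef : ∀ i j, H.h (e i) (f j) = if i = j then 1 else 0

theorem IsSixSpace.exists_frame [Finite F] (hS : IsSixSpace H) (h4 : Nat.card F = 4) :
    ∃ (ω : F) (e f : Fin 3 → V), Frame H ω e f := by
  classical
  haveI := hS.fd
  have hq := hS.toFour
  obtain ⟨ω, hω⟩ := H.conj.exists_trace_one
  have hω0 : ω ≠ 0 := fun e => by rw [e, map_zero, zero_add] at hω; exact zero_ne_one hω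
  have hω1 : ω ≠ 1 := fun e => by rw [e, map_one, hS.add_self] at hω; exact zero_ne_one hω
  have hσω : H.σ ω = ω + 1 := by linear_combination hω - ω * hS.two
  have hωω : ω * ω = ω + 1 := by
    have := hS.norm ω hω0
    rw [hσω] at this
    linear_combination this - ω * hS.two
  have hel : ∀ a : F, a = 0 ∨ a = 1 ∨ a = ω ∨ a = ω + 1 := by
    intro a
    haveI := Fintype.ofFinite F
    have h1 : ω + 1 ≠ ω := fun e => one_ne_zero (α := F) (by linear_combination e)
    have h2 : ω + 1 ≠ 1 := fun e => hω0 (by linear_combination e)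
    have h3 : ω + 1 ≠ 0 := fun e => hω1 (by linear_combination e - hS.two)
    have hc : ({0, 1, ω, ω + 1} : Finset F).card = 4 := by
      simp [hω0.symm, hω1.symm, h1.symm, h2.symm, h3.symm]
    have hu : ({0, 1, ω, ω + 1} : Finset F) = Finset.univ :=
      Finset.eq_univ_of_card _ (by rw [hc, ← Nat.card_eq_fintype_card, h4])
    simpa using (hu ▸ Finset.mem_univ a : a ∈ ({0, 1, ω, ω + 1} : Finset F))
  have hd : 2 ≤ Module.finrank F (⊤ : Submodule F V) := by rw [hS.finrank_top_eq]; norm_num
  obtain ⟨a, -, ha0, ha⟩ := exists_iso hS.nondegOn_top hd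
  obtain ⟨b, p⟩ := hS.exists_top_pair ha0 ha
  have hn1 := p.nondeg hq hS.nondegOn_top
  have h1 := p.finrank
  rw [hS.finrank_top_eq] at h1
  obtain ⟨a', haW, ha'0, ha'⟩ := exists_iso hn1 (by have := h1 hq; omega)
  obtain ⟨b', p'⟩ := exists_pair hn1 haW ha'0 ha'
  have hn2 := p'.nondeg hq hn1
  have h2 := p'.finrank hq
  obtain ⟨c, hcW, hc0, hc⟩ := exists_iso hn2 (by have := h1 hq; omega)
  obtain ⟨c', p''⟩ := exists_pair hn2 hcW hc0 hc
  obtain ⟨hcW1, hca', hcb'⟩ := mem_perp2.mp hcW
  obtain ⟨-, hca, hcb⟩ := mem_perp2.mp hcW1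
  obtain ⟨-, haa, hab⟩ := mem_perp2.mp haW
  obtain ⟨-, hb'a, hb'b⟩ := mem_perp2.mp p'.mem_right
  obtain ⟨hdW1, hda', hdb'⟩ := mem_perp2.mp p''.mem_right
  obtain ⟨-, hda, hdb⟩ := mem_perp2.mp hdW1
  refine ⟨ω, ![a, a', c], ![b, b', c'], hωω, hσω, hel, ?_, ?_, ?_⟩ <;> intro i j
  · fin_cases i <;> fin_cases j <;>
      simp [ha, ha', hc, hca, haa, hca', H.eq_zero_symm hca, H.eq_zero_symm haa, H.eq_zero_symm hca']
  · fin_cases i <;> fin_cases j <;>
      simp [p.iso_right, p'.iso_right, p''.iso_right, hb'b, hdb, hdb', H.eq_zero_symm hb'b, H.eq_zero_symm hdb,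
        H.eq_zero_symm hdb']
  · fin_cases i <;> fin_cases j <;>
      simp [p.prod, p'.prod, p''.prod, hab, hcb, hcb', H.eq_zero_symm hb'a, H.eq_zero_symm hda,
        H.eq_zero_symm hda']

/-- The product of two transvections on the line through `a` and `b`. -/
noncomputable def IsSixSpace.root (hS : IsSixSpace H) (ω : F) (a b : V) (α : F) : H.SIsom :=
  hS.tr (a + (α * ω) • b) * hS.tr (a + (α * (ω + 1)) • b)

/-- Zero or one. -/
def bit (F : Type u) [Field F] (c : ZMod 2) : F := if c = 0 then 0 else 1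

theorem bit_injective : Function.Injective (bit F) := fun a b h => by
  have h1 : ∀ x : ZMod 2, x ≠ 0 → x = 1 := by decide
  unfold bit at h
  by_cases ha : a = 0 <;> by_cases hb : b = 0
  · rw [ha, hb]
  · simp [ha, hb] at h
  · simp [ha, hb] at h
  · rw [h1 a ha, h1 b hb]

/-- The elements made of three diagonal and six off-diagonal parameters. -/
noncomputable def IsSixSpace.elt (hS : IsSixSpace H) (ω : F) (e f : Fin 3 → V) (c : Fin 3 → ZMod 2) (α : Fin 6 → F) : H.SIsom :=
  hS.tr (bit F (c 0) • e 0) * hS.tr (bit F (c 1) • e 1) * hS.tr (bit F (c 2) • e 2) *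
    hS.root ω (e 0) (e 1) (α 0) * hS.root ω (e 0) (e 2) (α 1) * hS.root ω (e 1) (e 2) (α 2) *
    hS.root ω (e 0) (f 2) (α 3) * hS.root ω (e 1) (f 2) (α 4) * hS.root ω (e 0) (f 1) (α 5)

namespace Frame

variable {ω : F} {e f : Fin 3 → V} (hfr : Frame H ω e f) (hS : IsSixSpace H)
include hfr hS

theorem conj' : H.σ (ω + 1) = ω := by
  rw [map_add, hfr.conj, map_one, add_assoc, hS.add_self, add_zero]

theorem iso_comb {a b : V} (ha : H.h a a = 0) (hb : H.h b b = 0) (hab : H.h a b = 0) (s t : F) :
    H.h (a + s • b) (a + t • b) = 0 := by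
  simp only [H.add_left, H.add_right, H.smul_left, H.smul_right, ha, hb, hab, H.eq_zero_symm hab, mul_zero, add_zero]

theorem root_apply {a b : V} (ha : H.h a a = 0) (hb : H.h b b = 0) (hab : H.h a b = 0) (α : F) (x : V) :
    (hS.root ω a b α).1.1 x = x + (α * H.h x a) • b + (H.σ α * H.h x b) • a := by
  rw [IsSixSpace.root, HermSpace.smul_mul_apply, hS.tr_apply (hfr.iso_comb hS ha hb hab _ _),
    hS.tr_apply (hfr.iso_comb hS ha hb hab _ _)]
  simp only [H.add_left, H.add_right, H.smul_left, H.smul_right, ha, hb, hab, H.eq_zero_symm hab, mul_zero,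
    add_zero, map_mul, hfr.conj, hfr.conj' hS]
  match_scalars
  · rfl
  · linear_combination (H.h x a + H.σ α * H.h x b * ω) * hS.two
  · linear_combination (α * H.h x a * ω + α * H.σ α * H.h x b * (ω + 1) * ω) * hS.two

theorem root_conj (g : H.SIsom) {a b : V} (ha : H.h a a = 0) (hb : H.h b b = 0) (hab : H.h a b = 0) (α : F) :
    g * hS.root ω a b α * g⁻¹ = hS.root ω (g.1.1 a) (g.1.1 b) α := by
  have e : ∀ s : F, g.1.1 (a + s • b) = g.1.1 a + s • g.1.1 b := fun s => by rw [map_add, map_smul]
  rw [IsSixSpace.root, IsSixSpace.root, ← conj_mul, hS.tr_conj g (hfr.iso_comb hS ha hb hab _ _),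
    hS.tr_conj g (hfr.iso_comb hS ha hb hab _ _), e, e]

theorem root_mul {a a' b : V} {c : F} (ha : H.h a a = 0) (hb : H.h b b = 0) (hab : H.h a b = 0)
    (ha' : H.h a' a' = 0) (ha'b : H.h a' b = 0) (haa : H.h a a' = 0) (β : F) :
    hS.root ω (a + c • a') b β = hS.root ω a b β * hS.root ω a' b (β * H.σ c) :=
  H.sisom_ext fun x => by
    rw [HermSpace.smul_mul_apply, hfr.root_apply hS ha hb hab, hfr.root_apply hS ha' hb ha'b,
      hfr.root_apply hS (hfr.iso_comb hS ha ha' haa c c) hb (by
        rw [H.add_left, H.smul_left, hab, ha'b, mul_zero, add_zero])]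
    simp only [H.add_left, H.smul_left, H.add_right, H.smul_right, ha, hb, ha', hab, ha'b, haa, H.eq_zero_symm hab,
      H.eq_zero_symm ha'b, H.eq_zero_symm haa, mul_zero, add_zero, map_mul, H.conj.invol]
    module

theorem diag_iso (i : Fin 3) (t : F) : H.h (t • e i) (t • e i) = 0 := by
  rw [H.smul_left, H.smul_right, hfr.ee, mul_zero, mul_zero]

theorem pow_apply (i : Fin 3) (c : ZMod 2) (x : V) :
    (hS.tr (bit F c • e i)).1.1 x = x + (bit F c * H.h x (e i)) • e i := by
  rw [hS.tr_apply (hfr.diag_iso hS i _), H.smul_right, smul_smul]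
  congr 2
  by_cases hc : c = 0 <;> simp [bit, hc]

theorem fe : ∀ i j, H.h (f i) (e j) = if i = j then 1 else 0 := fun i j => by
  rw [H.symm, hfr.ef]
  split_ifs with h1 h2 h3 <;> simp_all

theorem root_mul_self {a b : V} (ha : H.h a a = 0) (hb : H.h b b = 0) (hab : H.h a b = 0) (α : F) :
    hS.root ω a b α * hS.root ω a b α = 1 :=
  H.sisom_ext fun x => by
    rw [HermSpace.smul_mul_apply, hfr.root_apply hS ha hb hab, hfr.root_apply hS ha hb hab]
    simp only [H.add_left, H.smul_left, ha, hb, hab, H.eq_zero_symm hab, mul_zero, add_zero]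
    show _ = x
    match_scalars
    · rfl
    · linear_combination (α * H.h x a) * hS.two
    · linear_combination (H.σ α * H.h x b) * hS.two

/-- The parameters are determined by the element. -/
theorem elt_inj {c c' : Fin 3 → ZMod 2} {α α' : Fin 6 → F} (h : hS.elt ω e f c α = hS.elt ω e f c' α') :
    c = c' ∧ α = α' := by
  have q01 : H.h (e 0) (f 1) = 0 := by rw [hfr.ef]; rfl
  have q02 : H.h (e 0) (f 2) = 0 := by rw [hfr.ef]; rfl
  have q12 : H.h (e 1) (f 2) = 0 := by rw [hfr.ef]; rfl
  have e1 := congrArg (fun g : H.SIsom => H.h (g.1.1 (e 1)) (f 0)) h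
  have e3 := congrArg (fun g : H.SIsom => H.h (g.1.1 (e 2)) (f 0)) h
  have e4 := congrArg (fun g : H.SIsom => H.h (g.1.1 (e 2)) (f 1)) h
  simp [IsSixSpace.elt, HermSpace.smul_mul_apply, hfr.root_apply hS, hfr.pow_apply hS, q01, q02, q12, hfr.ee, hfr.ef, hfr.ff,
    hfr.fe hS, H.add_left, H.smul_left, H.zero_left] at e1 e3 e4
  have h5 : α 5 = α' 5 := H.σ.injective e1
  have h3 : α 3 = α' 3 := H.σ.injective e3
  have h4 : α 4 = α' 4 := H.σ.injective e4
  rw [IsSixSpace.elt, IsSixSpace.elt, h5, h3, h4, mul_left_inj, mul_left_inj, mul_left_inj] at h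
  have d : ∀ i j, H.h ((hS.tr (bit F (c 0) • e 0) * hS.tr (bit F (c 1) • e 1) * hS.tr (bit F (c 2) • e 2) *
      hS.root ω (e 0) (e 1) (α 0) * hS.root ω (e 0) (e 2) (α 1) * hS.root ω (e 1) (e 2) (α 2) :
      H.SIsom).1.1 (f i)) (f j) = H.h ((hS.tr (bit F (c' 0) • e 0) * hS.tr (bit F (c' 1) • e 1) *
      hS.tr (bit F (c' 2) • e 2) * hS.root ω (e 0) (e 1) (α' 0) * hS.root ω (e 0) (e 2) (α' 1) *
      hS.root ω (e 1) (e 2) (α' 2) : H.SIsom).1.1 (f i)) (f j) := fun i j => by rw [h]
  have d00 := d 0 0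
  have d01 := d 0 1
  have d02 := d 0 2
  have d11 := d 1 1
  have d12 := d 1 2
  have d22 := d 2 2
  simp [HermSpace.smul_mul_apply, hfr.root_apply hS, hfr.pow_apply hS, q01, q02, q12, hfr.ee, hfr.ef, hfr.ff, hfr.fe hS,
    H.add_left, H.smul_left, H.zero_left] at d00 d01 d02 d11 d12 d22
  have hval : ∀ a b : ZMod 2, bit F a = bit F b → a = b := fun a b h => bit_injective h
  constructor
  · funext i
    fin_cases i
    · exact hval _ _ d00
    · exact hval _ _ d11
    · exact hval _ _ d22
  · funext i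
    fin_cases i
    · exact d01
    · exact d02
    · exact d12
    · exact h3
    · exact h4
    · exact h5

theorem elt_fix (c : Fin 3 → ZMod 2) (α : Fin 6 → F) : (hS.elt ω e f c α).1.1 (e 0) = e 0 := by
  have q01 : H.h (e 0) (f 1) = 0 := by rw [hfr.ef]; rfl
  have q02 : H.h (e 0) (f 2) = 0 := by rw [hfr.ef]; rfl
  have q12 : H.h (e 1) (f 2) = 0 := by rw [hfr.ef]; rfl
  simp [IsSixSpace.elt, HermSpace.smul_mul_apply, hfr.root_apply hS, hfr.pow_apply hS, hfr.ee, hfr.ff, hfr.ef, q01, q02, q12]

/-- Distinct parameters give distinct elements modulo the centre. -/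
theorem elt_inj_mod [Finite F] {Q : Type*} [Group Q] (π : H.SIsom →* Q) (hker : π.ker = center H.SIsom)
    {c c' : Fin 3 → ZMod 2} {α α' : Fin 6 → F} (h : π (hS.elt ω e f c α) = π (hS.elt ω e f c' α')) :
    c = c' ∧ α = α' := by
  refine hfr.elt_inj hS ?_
  have hm : (hS.elt ω e f c' α')⁻¹ * hS.elt ω e f c α ∈ center H.SIsom := by
    rw [← hker, MonoidHom.mem_ker, map_mul, map_inv, h, inv_mul_cancel]
  obtain ⟨k, -, hk⟩ := hS.center_scalar hm
  have he0 : e 0 ≠ 0 := fun e0 => by
    have := hfr.ef 0 0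
    rw [e0, H.zero_left, if_pos rfl] at this
    exact zero_ne_one this
  have h1 := congrArg (hS.elt ω e f c' α').1.1 (hk (e 0))
  rw [← HermSpace.smul_mul_apply, mul_inv_cancel_left, map_smul, hfr.elt_fix hS, hfr.elt_fix hS] at h1
  have hk1 : k = 1 := by
    have h2 := sub_eq_zero.2 h1
    rw [show e 0 - k • e 0 = (1 - k) • e 0 by module, smul_eq_zero] at h2
    exact (sub_eq_zero.1 (h2.resolve_right he0)).symm
  refine (inv_mul_eq_one.1 (H.sisom_ext fun x => ?_)).symm
  rw [hk x, hk1, one_smul]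
  rfl

/-- The five transvections of a line have product one. -/
theorem line_sum {a b : V} (ha : H.h a a = 0) (hb : H.h b b = 0) (hab : H.h a b = 0) :
    (([a, b, a + (1 : F) • b, a + ω • b, a + (ω + 1) • b] : List V).map hS.tr).prod = 1 := by
  refine hS.trs_eq_one _ ?_ fun x => ?_
  · have h0 := fun s t => hfr.iso_comb hS ha hb hab s t
    have hba := H.eq_zero_symm hab
    intro v hv w hw
    simp only [List.mem_cons, List.not_mem_nil, or_false] at hv hw
    rcases hv with rfl | rfl | rfl | rfl | rfl <;> rcases hw with rfl | rfl | rfl | rfl | rfl <;>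
      simp [H.add_left, H.add_right, H.smul_left, H.smul_right, ha, hb, hab, hba]
  · simp only [List.map_cons, List.map_nil, List.sum_cons, List.sum_nil, add_zero, H.add_right, H.smul_right,
      hfr.conj, hfr.conj' hS, map_one, one_mul]
    match_scalars
    · linear_combination (2 * H.h x a + H.h x b + ω * H.h x b) * hS.two
    · linear_combination (H.h x a * (ω + 1) + H.h x b * (ω * ω + ω + 1)) * hS.two

/-- Seven transvections of a plane with product one. -/
theorem plane_sum {u v w : V} (hu : H.h u u = 0) (hv : H.h v v = 0) (hw : H.h w w = 0) (huv : H.h u v = 0)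
    (huw : H.h u w = 0) (hvw : H.h v w = 0) :
    (([u + v + w, w, u + w, v + w, u, v, u + v] : List V).map hS.tr).prod = 1 := by
  refine hS.trs_eq_one _ ?_ fun x => ?_
  · have hvu := H.eq_zero_symm huv
    have hwu := H.eq_zero_symm huw
    have hwv := H.eq_zero_symm hvw
    intro p hp q hq
    simp only [List.mem_cons, List.not_mem_nil, or_false] at hp hq
    rcases hp with rfl | rfl | rfl | rfl | rfl | rfl | rfl <;>
      rcases hq with rfl | rfl | rfl | rfl | rfl | rfl | rfl <;>
      simp [H.add_left, H.add_right, hu, hv, hw, huv, huw, hvw, hvu, hwu, hwv]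
  · simp only [List.map_cons, List.map_nil, List.sum_cons, List.sum_nil, add_zero, H.add_right]
    match_scalars
    · linear_combination (2 * H.h x u + H.h x v + H.h x w) * hS.two
    · linear_combination (H.h x u + 2 * H.h x v + H.h x w) * hS.two
    · linear_combination (H.h x u + H.h x v + 2 * H.h x w) * hS.two

/-- Six transvections of a plane with product one. -/
theorem six_sum {u v w : V} (hu : H.h u u = 0) (hv : H.h v v = 0) (hw : H.h w w = 0) (huv : H.h u v = 0)
    (huw : H.h u w = 0) (hvw : H.h v w = 0) :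
    (([u + v + w, w, u + w, v + w, u + ω • v, u + (ω + 1) • v] : List V).map hS.tr).prod = 1 := by
  refine hS.trs_eq_one _ ?_ fun x => ?_
  · have hvu := H.eq_zero_symm huv
    have hwu := H.eq_zero_symm huw
    have hwv := H.eq_zero_symm hvw
    intro p hp q hq
    simp only [List.mem_cons, List.not_mem_nil, or_false] at hp hq
    rcases hp with rfl | rfl | rfl | rfl | rfl | rfl <;>
      rcases hq with rfl | rfl | rfl | rfl | rfl | rfl <;>
      simp [H.add_left, H.add_right, H.smul_left, H.smul_right, hu, hv, hw, huv, huw, hvw, hvu, hwu, hwv]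
  · simp only [List.map_cons, List.map_nil, List.sum_cons, List.sum_nil, add_zero, H.add_right, H.smul_right,
      hfr.conj, hfr.conj' hS]
    match_scalars
    · linear_combination (2 * H.h x u + H.h x w + (ω + 1) * H.h x v) * hS.two
    · linear_combination ((ω + 1) * H.h x u + (1 + ω * (ω + 1)) * H.h x v + H.h x w) * hS.two
    · linear_combination (H.h x u + H.h x v + 2 * H.h x w) * hS.two

end Frame

end Cfsg.Lib.ThreeTr
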