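import Cfsg.Agent.ThreeTransposition.M22Count.Involutions
import Cfsg.Agent.ThreeTransposition.M24Count.Coordinates
import Cfsg.Agent.Classical.Unitary.IsoFrames

/-!
No involutory automorphism of the commuting graph of a class of type M(22) moves every member to a neighbour.
-/

set_option autoImplicit false
set_option linter.unusedSectionVars false
set_option linter.style.haveILetI false

namespace Cfsg.Lib.ThreeTr

open Cfsg Subgroup Cfsg.Lib.Classical Cfsg.Lib.TTUnitary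

attribute [local instance] _root_.Classical.propDecidable

universe u

variable {G : Type u} [Group G] {D : Set G}

/-- An involutory automorphism of the commuting graph moving every member to a neighbour. -/
structure FreeMap (D : Set G) (φ : G → G) : Prop where
  mem : ∀ x ∈ D, φ x ∈ D
  invol : ∀ x ∈ D, φ (φ x) = x
  ne : ∀ x ∈ D, φ x ≠ x
  adj : ∀ x ∈ D, Commute x (φ x)
  comm : ∀ x ∈ D, ∀ y ∈ D, Commute x y → Commute (φ x) (φ y)

/-- Three distinct commuting members. -/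
structure CList' (D : Set G) (a b c : G) : Prop where
  ha : a ∈ D
  hb : b ∈ D
  hc : c ∈ D
  hab : a ≠ b
  hac : a ≠ c
  hbc : b ≠ c
  cab : Commute a b
  cac : Commute a c
  cbc : Commute b c

namespace FreeMap

variable {φ : G → G} (hφ : FreeMap D φ)
include hφ

theorem inj {x y : G} (hx : x ∈ D) (hy : y ∈ D) (e : φ x = φ y) : x = y := by
  rw [← hφ.invol x hx, e, hφ.invol y hy]

theorem comm_iff {x y : G} (hx : x ∈ D) (hy : y ∈ D) : Commute (φ x) (φ y) ↔ Commute x y :=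
  ⟨fun h => by
    have := hφ.comm _ (hφ.mem x hx) _ (hφ.mem y hy) h
    rwa [hφ.invol x hx, hφ.invol y hy] at this, hφ.comm x hx y hy⟩

theorem map_tperp {a b c w : G} (ha : a ∈ D) (hb : b ∈ D) (hc : c ∈ D) (hw : w ∈ tperp D a b c) :
    φ w ∈ tperp D (φ a) (φ b) (φ c) := by
  refine ⟨hφ.mem w hw.1, fun e he h1 h2 h3 => ?_⟩
  rw [← hφ.invol e he]
  refine hφ.comm _ (hφ.mem e he) _ hw.1 (hw.2 _ (hφ.mem e he) ?_ ?_ ?_)
  · rw [← hφ.invol a ha]; exact hφ.comm _ he _ (hφ.mem a ha) h1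
  · rw [← hφ.invol b hb]; exact hφ.comm _ he _ (hφ.mem b hb) h2
  · rw [← hφ.invol c hc]; exact hφ.comm _ he _ (hφ.mem c hc) h3

end FreeMap

namespace M22

variable [Finite G] (h : M22 D)
include h

/-- The members over a commuting triple. -/
theorem tperp_six {a b c : G} (hl : CList' D a b c) :
    ∃ l : List G, l.Nodup ∧ l.length = 6 ∧ (∀ w, w ∈ l ↔ w ∈ tperp D a b c) ∧
      (∀ x ∈ l, ∀ y ∈ l, Commute x y) ∧ l.prod = 1 := by
  obtain ⟨ha, hb, hc, hab, hac, hbc, cab, cac, cbc⟩ := hl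
  obtain ⟨p, q, r, hnd, hcomm, hmem, hprod, hall⟩ := m22_hexad h.cls h.prim h.twin h.type ha hb hc hab hac hbc cab cac cbc
  refine ⟨_, hnd, rfl, fun w => ⟨fun hw => ?_, hall w⟩, hcomm, hprod⟩
  refine ⟨hmem w hw, fun e he h1 h2 h3 => ?_⟩
  have hp := hmem p (by simp)
  have hq := hmem q (by simp)
  have hr := hmem r (by simp)
  simp only [List.nodup_cons, List.mem_cons, List.not_mem_nil, or_false, not_or] at hnd
  have e1 : a * b * c * (p * q * r) = 1 := by rw [← hprod]; simp [mul_assoc]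
  have h456 : Commute e (p * q * r) := by
    rw [eq_inv_of_mul_eq_one_right e1]
    exact ((h1.mul_right h2).mul_right h3).inv_right
  obtain ⟨h4, h5, h6⟩ := (commute_triple_iff h.cls.1 hp hq hr he hnd.2.2.2.1.1 hnd.2.2.2.1.2 hnd.2.2.2.2.1
    (hcomm p (by simp) q (by simp)) (hcomm p (by simp) r (by simp)) (hcomm q (by simp) r (by simp))).1 h456
  simp only [List.mem_cons, List.not_mem_nil, or_false] at hw
  rcases hw with rfl | rfl | rfl | rfl | rfl | rfl <;> assumption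

theorem ncard_tperp {a b c : G} (hl : CList' D a b c) : (tperp D a b c).ncard = 6 := by
  obtain ⟨l, hn, hlen, hmem, -, -⟩ := h.tperp_six hl
  rw [← hlen, ← List.toFinset_card_of_nodup hn, ← Set.ncard_coe_finset]
  congr 1
  ext w
  simp [hmem]

theorem tperp_closed {a b c x y z : G} (hl : CList' D a b c) (hx : x ∈ tperp D a b c) (hy : y ∈ tperp D a b c)
    (hz : z ∈ tperp D a b c) (hxy : x ≠ y) (hxz : x ≠ z) (hyz : y ≠ z) : tperp D x y z = tperp D a b c := by
  obtain ⟨l, hn, hlen, hmem, hcomm, -⟩ := h.tperp_six hl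
  have hl' : CList' D x y z := ⟨hx.1, hy.1, hz.1, hxy, hxz, hyz, hcomm x ((hmem x).2 hx) y ((hmem y).2 hy),
    hcomm x ((hmem x).2 hx) z ((hmem z).2 hz), hcomm y ((hmem y).2 hy) z ((hmem z).2 hz)⟩
  refine Set.eq_of_subset_of_ncard_le (fun w hw => ⟨hw.1, fun e he h1 h2 h3 =>
    hw.2 e he (hx.2 e he h1 h2 h3) (hy.2 e he h1 h2 h3) (hz.2 e he h1 h2 h3)⟩) ?_ (Set.toFinite _)
  rw [h.ncard_tperp hl, h.ncard_tperp hl']

end M22

/-- Proportional to the vector of a member. -/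
def Rep {F : Type} [Field F] (vec : G → (Fin 6 → F)) (v : G) (V : Fin 6 → F) : Prop :=
  ∃ β : F, β ≠ 0 ∧ V = β • vec v

/-- A free map, a member and its coordinates. -/
structure Ctx (D : Set G) (φ : G → G) (c : G) {F : Type} [Field F] (H : HermSpace F (Fin 6 → F))
    (π : H.SIsom →* ↥(closure (perp D c)) ⧸ center ↥(closure (perp D c))) (vec : G → (Fin 6 → F)) : Prop where
  cl : M22 D
  free : FreeMap D φ
  hc : c ∈ D
  model : IsModel D c H π vec

/-- The members commuting with `c` and its image, these two left out. -/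
def Gam (D : Set G) (φ : G → G) (c : G) : Set G := perp D c ∩ perp D (φ c)

namespace Ctx

variable [Finite G] {φ : G → G} {c : G} {F : Type} [Field F] [Fintype F] {H : HermSpace F (Fin 6 → F)}
  {π : H.SIsom →* ↥(closure (perp D c)) ⧸ center ↥(closure (perp D c))} {vec : G → (Fin 6 → F)}
  (C : Ctx D φ c H π vec)
include C

theorem img_perp : φ c ∈ perp D c := ⟨C.free.mem c C.hc, C.free.ne c C.hc, C.free.adj c C.hc⟩

theorem rep_self {v : G} : Rep vec v (vec v) := ⟨1, one_ne_zero, (one_smul F _).symm⟩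

theorem rep_smul {v : G} {V : Fin 6 → F} (hV : Rep vec v V) {a : F} (ha : a ≠ 0) : Rep vec v (a • V) := by
  obtain ⟨β, hβ, rfl⟩ := hV
  exact ⟨a * β, mul_ne_zero ha hβ, smul_smul a β _⟩

theorem rep_comm {v w : G} (hv : v ∈ perp D c) (hw : w ∈ perp D c) {V W : Fin 6 → F} (hV : Rep vec v V)
    (hW : Rep vec w W) : Commute v w ↔ H.h V W = 0 := by
  obtain ⟨a, ha, rfl⟩ := hV
  obtain ⟨b, hb, rfl⟩ := hW
  rw [C.model.comm_iff C.cl C.hc hv hw, H.smul_left, H.smul_right, mul_eq_zero, mul_eq_zero, or_iff_right ha,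
    or_iff_right (fun e => hb (H.conj.eq_zero.mp e))]

theorem rep_iso {v : G} (hv : v ∈ perp D c) {V : Fin 6 → F} (hV : Rep vec v V) : H.h V V = 0 :=
  (C.rep_comm hv hv hV hV).1 (Commute.refl v)

theorem rep_ne {v : G} (hv : v ∈ perp D c) {V : Fin 6 → F} (hV : Rep vec v V) : V ≠ 0 := by
  obtain ⟨a, ha, rfl⟩ := hV
  exact smul_ne_zero ha (C.model.vec_ne v hv)

theorem rep_eq {v w : G} (hv : v ∈ perp D c) (hw : w ∈ perp D c) {V W : Fin 6 → F} (hV : Rep vec v V)
    (hW : Rep vec w W) {a : F} (e : V = a • W) : v = w := by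
  obtain ⟨p, hp, rfl⟩ := hV
  obtain ⟨q, hq, rfl⟩ := hW
  refine C.model.eq_of_prop C.cl C.hc hv hw (a := p⁻¹ * a * q) ?_
  rw [mul_smul, mul_smul, ← e, smul_smul, inv_mul_cancel₀ hp, one_smul]

theorem exists_rep {V : Fin 6 → F} (h0 : V ≠ 0) (hi : H.h V V = 0) : ∃ v ∈ perp D c, Rep vec v V := by
  obtain ⟨x, hx, a, ha, e⟩ := C.model.cover V h0 hi
  exact ⟨x, hx, a, ha, e⟩

/-- A neighbour of `c` orthogonal to the image of `c` and not proportional to it lies in `Gam`. -/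
theorem exists_gam {V : Fin 6 → F} (hi : H.h V V = 0) (ho : H.h V (vec (φ c)) = 0)
    (hne : ∀ a : F, V ≠ a • vec (φ c)) : ∃ v ∈ Gam D φ c, Rep vec v V := by
  obtain ⟨v, hv, hV⟩ := C.exists_rep (fun e => hne 0 (by rw [e, zero_smul])) hi
  refine ⟨v, ⟨hv, hv.1, fun e => ?_, ((C.rep_comm hv C.img_perp hV C.rep_self).2 ho).symm⟩, hV⟩
  obtain ⟨a, -, rfl⟩ := hV
  exact hne a (by rw [e])

theorem gam_img {v : G} (hv : v ∈ Gam D φ c) : φ v ∈ Gam D φ c := by
  have hf := C.free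
  refine ⟨⟨hf.mem v hv.1.1, fun e => hv.2.2.1 ?_, ?_⟩, ⟨hf.mem v hv.1.1, fun e => hv.1.2.1 ?_, ?_⟩⟩
  · rw [← hf.invol v hv.1.1, e]
  · have := hf.comm _ (hf.mem c C.hc) _ hv.1.1 hv.2.2.2
    rwa [hf.invol c C.hc] at this
  · exact hf.inj hv.1.1 C.hc e
  · exact hf.comm _ C.hc _ hv.1.1 hv.1.2.2

theorem gam_ortho {v : G} (hv : v ∈ Gam D φ c) : H.h (vec v) (vec (φ c)) = 0 :=
  (C.rep_comm hv.1 C.img_perp C.rep_self C.rep_self).1 hv.2.2.2.symm

theorem gam_indep {v : G} (hv : v ∈ Gam D φ c) (a : F) : vec v ≠ a • vec (φ c) := fun e =>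
  hv.2.2.1 (C.model.eq_of_prop C.cl C.hc hv.1 C.img_perp e)

/-- The six members over `c` and two of its neighbours are `c` and a line. -/
theorem tperp_iff {u v : G} (hu : u ∈ perp D c) (hv : v ∈ perp D c) (hne : u ≠ v) (hcm : Commute u v) {w : G} :
    w ∈ tperp D c u v ↔ w = c ∨ (w ∈ perp D c ∧ ∃ a b : F, vec w = a • vec u + b • vec v) := by
  have hS := C.model.six
  set L := {w : G | w ∈ perp D c ∧ ∃ a b : F, vec w = a • vec u + b • vec v} with hL
  have huv : H.h (vec u) (vec v) = 0 := (C.rep_comm hu hv C.rep_self C.rep_self).1 hcm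
  have hsub : insert c L ⊆ tperp D c u v := by
    rintro w (rfl | ⟨hw, a, b, e⟩)
    · exact ⟨C.hc, fun _ _ h _ _ => h⟩
    refine ⟨hw.1, fun f hf h1 h2 h3 => ?_⟩
    by_cases hfc : f = c
    · rw [hfc]; exact hw.2.2
    have hfp : f ∈ perp D c := ⟨hf, hfc, h1.symm⟩
    rw [C.model.comm_iff C.cl C.hc hfp hw, e, H.add_right, H.smul_right, H.smul_right,
      (C.model.comm_iff C.cl C.hc hfp hu).1 h2, (C.model.comm_iff C.cl C.hc hfp hv).1 h3, mul_zero, mul_zero, add_zero]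
  have hcard : L.ncard = 5 := by
    have hP := C.model.card_points C.cl C.hc (fun V => ∃ a b : F, V = a • vec u + b • vec v) (fun s V hs => by
      constructor
      · rintro ⟨a, b, e⟩
        exact ⟨s⁻¹ * a, s⁻¹ * b, by rw [mul_smul, mul_smul, ← smul_add, ← e, smul_smul, inv_mul_cancel₀ hs, one_smul]⟩
      · rintro ⟨a, b, rfl⟩
        exact ⟨s * a, s * b, by rw [smul_add, smul_smul, smul_smul]⟩) ⟨0, 0, by simp⟩
    have hinj : Function.Injective fun t : F × F => t.1 • vec u + t.2 • vec v := by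
      intro t t' e
      simp only at e
      have e' : (t.1 - t'.1) • vec u + (t.2 - t'.2) • vec v = 0 := by
        rw [sub_smul, sub_smul]; linear_combination (norm := abel) e
      have h2 : t.2 - t'.2 = 0 := by
        by_contra hb
        refine hne.symm (C.model.eq_of_prop C.cl C.hc hv hu (a := (t.2 - t'.2)⁻¹ * -(t.1 - t'.1)) ?_)
        have := congrArg ((t.2 - t'.2)⁻¹ • ·) (eq_neg_of_add_eq_zero_right e')
        simp only [smul_smul, inv_mul_cancel₀ hb, one_smul, smul_neg] at this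
        rw [this, mul_neg, neg_smul]
      rw [h2, zero_smul, add_zero, smul_eq_zero, or_iff_left (C.model.vec_ne u hu)] at e'
      exact Prod.ext (sub_eq_zero.1 e') (sub_eq_zero.1 h2)
    have hT : {V | H.h V V = 0 ∧ ∃ a b : F, V = a • vec u + b • vec v} =
        (fun t : F × F => t.1 • vec u + t.2 • vec v) '' Set.univ := by
      ext V
      constructor
      · rintro ⟨-, a, b, rfl⟩; exact ⟨(a, b), trivial, rfl⟩
      · rintro ⟨⟨a, b⟩, -, rfl⟩
        refine ⟨?_, a, b, rfl⟩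
        simp only [H.add_left, H.add_right, H.smul_left, H.smul_right, huv, H.eq_zero_symm huv, C.model.vec_iso u hu,
          C.model.vec_iso v hv, mul_zero, add_zero]
    rw [hT, Set.ncard_image_of_injective _ hinj, Set.ncard_univ, Nat.card_prod, C.model.four] at hP
    change 3 * L.ncard + 1 = _ at hP
    omega
  have hl : CList' D c u v := ⟨C.hc, hu.1, hv.1, hu.2.1.symm, hv.2.1.symm, hne, hu.2.2, hv.2.2, hcm⟩
  rw [← Set.eq_of_subset_of_ncard_le hsub (by
    rw [C.cl.ncard_tperp hl, Set.ncard_insert_of_notMem (fun e => e.1.2.1 rfl) (Set.toFinite _), hcard]) (Set.toFinite _)]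
  rfl

theorem line_iff {v : G} (hv : v ∈ Gam D φ c) {w : G} (hw : w ∈ Gam D φ c) :
    w ∈ tperp D c (φ c) v ↔ ∃ a b : F, vec w = a • vec (φ c) + b • vec v := by
  rw [C.tperp_iff C.img_perp hv.1 hv.2.2.1.symm hv.2.2.2]
  exact ⟨fun e => (e.resolve_left hw.1.2.1).2, fun e => Or.inr ⟨hw.1, e⟩⟩

/-- Members on one line through the image of `c` go to members on one line through it. -/
theorem line_img {v w : G} (hv : v ∈ Gam D φ c) (hw : w ∈ Gam D φ c)
    (h : ∃ a b : F, vec w = a • vec (φ c) + b • vec v) : ∃ a b : F, vec (φ w) = a • vec (φ c) + b • vec (φ v) := by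
  have hwt := C.free.map_tperp C.hc (C.free.mem c C.hc) hv.1.1 ((C.line_iff hv hw).2 h)
  rw [C.free.invol c C.hc, tperp_swap] at hwt
  exact (C.line_iff (C.gam_img hv) (C.gam_img hw)).1 hwt

/-- A linear condition holding on a member's image holds on the images of its line. -/
theorem img_cond {v w : G} (hv : v ∈ Gam D φ c) (hw : w ∈ Gam D φ c)
    (h : ∃ a b : F, vec w = a • vec (φ c) + b • vec v) (L : (Fin 6 → F) →ₗ[F] F) (he : L (vec (φ c)) = 0)
    (hL : L (vec (φ v)) = 0) : L (vec (φ w)) = 0 := by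
  obtain ⟨a, b, e⟩ := C.line_img hv hw h
  rw [e, map_add, map_smul, map_smul, he, hL, smul_zero, smul_zero, add_zero]

end Ctx

namespace Frame

variable {F : Type} [Field F] [Fintype F] {H : HermSpace F (Fin 6 → F)} {ω : F} {e f : Fin 3 → (Fin 6 → F)}
  (hfr : Frame H ω e f) (hS : IsSixSpace H)
include hfr hS

theorem expand (X : Fin 6 → F) : X = H.h X (f 0) • e 0 + H.h X (f 1) • e 1 + H.h X (f 2) • e 2 +
    H.h X (e 0) • f 0 + H.h X (e 1) • f 1 + H.h X (e 2) • f 2 := by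
  haveI := hS.fd
  obtain ⟨hli, -⟩ := Cfsg.Lib.Classical.UIso.dual_li H hfr.ee hfr.ef hfr.ff
  have htop : Submodule.span F (Set.range (Sum.elim e f)) = ⊤ :=
    hli.span_eq_top_of_card_eq_finrank' (by simp [hS.dim])
  set Y := H.h X (f 0) • e 0 + H.h X (f 1) • e 1 + H.h X (f 2) • e 2 +
    H.h X (e 0) • f 0 + H.h X (e 1) • f 1 + H.h X (e 2) • f 2 with hY
  refine sub_eq_zero.1 (H.nondeg _ fun x => ?_)
  have : H.lin (X - Y) = 0 := LinearMap.ext_on_range htop fun i => by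
    show H.h _ (X - Y) = 0
    refine H.eq_zero_symm ?_
    rcases i with i | i <;>
      simp only [Sum.elim_inl, Sum.elim_inr, H.sub_left, hY, H.add_left, H.smul_left, hfr.ee, hfr.ff, hfr.ef,
        hfr.fe hS] <;>
      fin_cases i <;> simp
  exact LinearMap.congr_fun this x

theorem pairing {X Y : Fin 6 → F} (hX : H.h X (e 0) = 0) (hY : H.h Y (e 0) = 0) :
    H.h X Y = H.h X (f 1) * H.σ (H.h Y (e 1)) + H.h X (e 1) * H.σ (H.h Y (f 1)) +
      H.h X (f 2) * H.σ (H.h Y (e 2)) + H.h X (e 2) * H.σ (H.h Y (f 2)) := by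
  conv_lhs => rw [hfr.expand hS X]
  simp only [H.add_left, H.smul_left, hX, zero_mul, ← H.symm]
  rw [H.eq_zero_symm hY]
  ring

theorem mem_span3 {X : Fin 6 → F} (h : ∀ i, H.h X (e i) = 0) :
    X = H.h X (f 0) • e 0 + H.h X (f 1) • e 1 + H.h X (f 2) • e 2 := by
  conv_lhs => rw [hfr.expand hS X]
  simp [h]

theorem flat {X : Fin 6 → F} (h0 : H.h X (e 0) = 0) (h1 : H.h X (e 1) = 0) (h2 : H.h X (e 2) = 0)
    (h3 : H.h X (f 1) = 0) (h4 : H.h X (f 2) = 0) : X = H.h X (f 0) • e 0 := by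
  conv_lhs => rw [hfr.expand hS X]
  simp [h0, h1, h2, h3, h4]

end Frame

namespace Ctx

variable [Finite G] {φ : G → G} {c : G} {F : Type} [Field F] [Fintype F] {H : HermSpace F (Fin 6 → F)}
  {π : H.SIsom →* ↥(closure (perp D c)) ⧸ center ↥(closure (perp D c))} {vec : G → (Fin 6 → F)}
  (C : Ctx D φ c H π vec) {ω : F} {e f : Fin 3 → (Fin 6 → F)} (hfr : Frame H ω e f) (he0 : e 0 = vec (φ c))
include C hfr he0

theorem gam_zero {v : G} (hv : v ∈ Gam D φ c) : H.h (vec v) (e 0) = 0 := he0 ▸ C.gam_ortho hv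

theorem exists_point {V : Fin 6 → F} (hi : H.h V V = 0) (ho : H.h V (e 0) = 0) {z : Fin 6 → F}
    (hz : H.h (e 0) z = 0) (hVz : H.h V z ≠ 0) : ∃ v ∈ Gam D φ c, Rep vec v V :=
  C.exists_gam hi (he0 ▸ ho) fun a e' => hVz (by rw [e', H.smul_left, ← he0, hz, mul_zero])

theorem img_flat {v : G} (hv : v ∈ Gam D φ c) (h1 : H.h (vec (φ v)) (e 1) = 0) (h2 : H.h (vec (φ v)) (e 2) = 0)
    (h3 : H.h (vec (φ v)) (f 1) = 0) (h4 : H.h (vec (φ v)) (f 2) = 0) : False :=
  C.gam_indep (C.gam_img hv) _ (he0 ▸ hfr.flat C.model.six (C.gam_zero hfr he0 (C.gam_img hv)) h1 h2 h3 h4)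

/-- The images of two members commute when the members do. -/
theorem img_comm {v w : G} (hv : v ∈ Gam D φ c) (hw : w ∈ Gam D φ c) {V W : Fin 6 → F} (hV : Rep vec v V)
    (hW : Rep vec w W) : H.h (vec (φ v)) (vec (φ w)) = 0 ↔ H.h V W = 0 := by
  rw [← C.rep_comm hv.1 hw.1 hV hW, ← C.rep_comm (C.gam_img hv).1 (C.gam_img hw).1 C.rep_self C.rep_self,
    C.free.comm_iff hv.1.1 hw.1.1]

/-- No line through the image of `c` has one fixed point and two swapped pairs. -/
theorem no_single {n : G} (hn : n ∈ Gam D φ c) (hN : Rep vec n (e 1)) (hn1 : H.h (vec (φ n)) (e 1) = 0)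
    (hn2 : H.h (vec (φ n)) (e 2) = 0) (hn3 : H.h (vec (φ n)) (f 2) = 0)
    (hP : ∀ (t : F) (P : G), P ∈ Gam D φ c → Rep vec P (e 2 + t • e 1) → H.h (vec (φ P)) (e 1) = 0 ∧
      H.h (vec (φ P)) (e 2) = 0 ∧ H.h (vec (φ P)) (f 1) = (t + 1) * H.h (vec (φ P)) (f 2)) : False := by
  have hS := C.model.six
  have h2 := hS.two
  have hσσ : ∀ a : F, H.σ (H.σ a) = a := H.conj.invol
  have hfe := hfr.fe hS
  have h0 : ∀ {v : G}, v ∈ Gam D φ c → H.h (vec (φ v)) (e 0) = 0 := fun hv => C.gam_zero hfr he0 (C.gam_img hv)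
  have haN : H.h (vec (φ n)) (f 1) ≠ 0 := fun h => C.img_flat hfr he0 hn hn1 hn2 h hn3
  have bne : ∀ {v : G} {V : Fin 6 → F}, v ∈ Gam D φ c → Rep vec v V → H.h V (e 1) ≠ 0 →
      H.h (vec (φ v)) (e 1) ≠ 0 := fun {v V} hv hV h hb => h <| by
    refine (C.img_comm hfr he0 hv hn hV hN).1 ?_
    rw [hfr.pairing hS (h0 hv) (h0 hn), hn1, hn2, hn3, hb, map_zero]
    ring
  have sig : ∀ {v : G} {V : Fin 6 → F}, v ∈ Gam D φ c → Rep vec v V → H.h V (e 1) = 1 →
      H.h (vec (φ v)) (e 2) = H.h (vec (φ v)) (e 1) * (H.h V (e 2) + 1) := by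
    intro v V hv hV hb
    obtain ⟨P, hPm, hPr⟩ := C.exists_point hfr he0 (V := e 2 + H.σ (H.h V (e 2)) • e 1)
      (by simp [H.add_left, H.add_right, H.smul_left, H.smul_right, hfr.ee])
      (by simp [H.add_left, H.smul_left, hfr.ee]) (z := f 2) (by simp [hfr.ef])
      (by simp [H.add_left, H.smul_left, hfr.ef])
    obtain ⟨p1, p2, p3⟩ := hP _ P hPm hPr
    have hr : H.h (vec (φ P)) (f 2) ≠ 0 := fun h => C.img_flat hfr he0 hPm p1 p2 (by rw [p3, h, mul_zero]) h
    have hc := (C.img_comm hfr he0 hv hPm hV hPr).2 (by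
      rw [H.add_right, H.smul_right, hb, hσσ]; linear_combination H.h V (e 2) * h2)
    rw [hfr.pairing hS (h0 hv) (h0 hPm), p1, p2, p3, map_mul, map_add, hσσ, map_one, map_zero] at hc
    have : (H.h (vec (φ v)) (e 1) * (H.h V (e 2) + 1) + H.h (vec (φ v)) (e 2)) * H.σ (H.h (vec (φ P)) (f 2)) = 0 := by
      linear_combination hc
    rw [mul_eq_zero, or_iff_left (fun h => hr (H.conj.eq_zero.mp h))] at this
    linear_combination this - H.h (vec (φ v)) (e 1) * (H.h V (e 2) + 1) * h2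
  have hfix : ∀ d : F, d + H.σ d = 0 → d = 0 ∨ d = 1 := by
    intro d hd
    rcases hfr.elems d with rfl | rfl | rfl | rfl
    · exact Or.inl rfl
    · exact Or.inr rfl
    · rw [hfr.conj] at hd
      exact absurd (by linear_combination hd - d * h2 : (1 : F) = 0) one_ne_zero
    · rw [map_add, map_one, hfr.conj] at hd
      exact absurd (by linear_combination hd - (ω + 1) * h2 : (1 : F) = 0) one_ne_zero
  have hσd : ∀ d : F, d = 0 ∨ d = 1 → H.σ d = d := fun d hd => by rcases hd with rfl | rfl <;> simp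
  have hW : ∀ κ t : F, ∃ w, (κ = 0 ∨ κ = 1) → w ∈ Gam D φ c ∧ Rep vec w (f 2 + κ • e 2 + t • e 1) := by
    intro κ t
    by_cases hκ : κ = 0 ∨ κ = 1
    · obtain ⟨w, hw, hwr⟩ := C.exists_point hfr he0 (V := f 2 + κ • e 2 + t • e 1)
        (by
          simp only [H.add_left, H.add_right, H.smul_left, H.smul_right, hfr.ee, hfr.ff, hfr.ef, hfe, if_true,
            if_neg (show (1 : Fin 3) ≠ 2 by decide), if_neg (show (2 : Fin 3) ≠ 1 by decide), hσd κ hκ]
          linear_combination κ * h2)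
        (by simp [H.add_left, H.smul_left, hfr.ee, hfe]) (z := e 2) (by simp [hfr.ee])
        (by simp [H.add_left, H.smul_left, hfr.ee, hfe])
      exact ⟨w, fun _ => ⟨hw, hwr⟩⟩
    · exact ⟨c, fun h => absurd h hκ⟩
  choose w hw using hW
  let Z : F → F → Fin 6 → F := fun κ t => vec (φ (w κ t))
  let dl : F → F → F := fun κ t => H.h (Z κ t) (f 2) / H.h (Z κ t) (e 2)
  have hZ : ∀ κ t, (κ = 0 ∨ κ = 1) → H.h (Z κ t) (e 1) = 0 ∧ H.h (Z κ t) (e 2) ≠ 0 ∧ (dl κ t = 0 ∨ dl κ t = 1) := by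
    intro κ t hκ
    obtain ⟨hwm, hwr⟩ := hw κ t hκ
    have hb : H.h (Z κ t) (e 1) = 0 := by
      have hc := (C.img_comm hfr he0 hwm hn hwr hN).2 (by simp [H.add_left, H.smul_left, hfr.ee, hfe])
      rw [hfr.pairing hS (h0 hwm) (h0 hn), hn1, hn2, hn3, map_zero] at hc
      simp only [mul_zero, zero_add, add_zero, mul_eq_zero, map_eq_zero] at hc
      exact hc.resolve_right haN
    have hs : H.h (Z κ t) (e 2) ≠ 0 := by
      intro hs
      obtain ⟨P, hPm, hPr⟩ := C.exists_point hfr he0 (V := e 2 + (0 : F) • e 1)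
        (by simp [hfr.ee]) (by simp [hfr.ee]) (z := f 2) (by simp [hfr.ef]) (by simp [hfr.ef])
      obtain ⟨p1, p2, -⟩ := hP _ P hPm hPr
      have hc := (C.img_comm hfr he0 hwm hPm hwr hPr).1 (by
        rw [hfr.pairing hS (h0 hwm) (h0 hPm), p1, p2, show H.h (vec (φ (w κ t))) (e 1) = 0 from hb,
          show H.h (vec (φ (w κ t))) (e 2) = 0 from hs, map_zero]
        ring)
      simp [H.add_left, H.smul_left, hfr.ee, hfe] at hc
    refine ⟨hb, hs, hfix _ ?_⟩
    have hi := C.rep_iso (C.gam_img hwm).1 C.rep_self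
    rw [hfr.pairing hS (h0 hwm) (h0 hwm), show H.h (vec (φ (w κ t))) (e 1) = 0 from hb, map_zero] at hi
    simp only [mul_zero, zero_mul, zero_add] at hi
    simp only [dl, map_div₀]
    rw [div_add_div _ _ hs (fun h => hs (H.conj.eq_zero.mp h)),
      show H.h (Z κ t) (f 2) * H.σ (H.h (Z κ t) (e 2)) + H.h (Z κ t) (e 2) * H.σ (H.h (Z κ t) (f 2)) = 0 from hi,
      zero_div]
  have hpair : ∀ κ t κ' t', (κ = 0 ∨ κ = 1) → (κ' = 0 ∨ κ' = 1) → (dl κ t = dl κ' t' ↔ κ = κ') := by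
    intro κ t κ' t' hκ hκ'
    obtain ⟨hb, hs, hd⟩ := hZ κ t hκ
    obtain ⟨hb', hs', hd'⟩ := hZ κ' t' hκ'
    have e1 : H.h (Z κ t) (Z κ' t') = H.h (Z κ t) (e 2) * H.σ (H.h (Z κ' t') (e 2)) * (dl κ t + dl κ' t') := by
      rw [← hσd _ hd']
      simp only [dl, map_div₀]
      rw [show H.h (Z κ t) (Z κ' t') = _ from hfr.pairing hS (h0 (hw κ t hκ).1) (h0 (hw κ' t' hκ').1),
        show H.h (vec (φ (w κ t))) (e 1) = 0 from hb, show H.h (vec (φ (w κ' t'))) (e 1) = 0 from hb', map_zero]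
      have hs'' : H.σ (H.h (Z κ' t') (e 2)) ≠ 0 := fun h => hs' (H.conj.eq_zero.mp h)
      field_simp
      ring
    have e2 : H.h (f 2 + κ • e 2 + t • e 1) (f 2 + κ' • e 2 + t' • e 1) = κ + κ' := by
      simp only [H.add_left, H.add_right, H.smul_left, H.smul_right, hfr.ee, hfr.ff, hfr.ef, hfe, if_true,
        if_neg (show (1 : Fin 3) ≠ 2 by decide), if_neg (show (2 : Fin 3) ≠ 1 by decide), hσd κ' hκ']
      ring
    have := C.img_comm hfr he0 (hw κ t hκ).1 (hw κ' t' hκ').1 (hw κ t hκ).2 (hw κ' t' hκ').2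
    rw [e2, show H.h (vec (φ (w κ t))) (vec (φ (w κ' t'))) = _ from e1, mul_eq_zero, mul_eq_zero, or_iff_right] at this
    · constructor
      · intro h
        have := this.1 (by rw [h]; linear_combination dl κ' t' * h2)
        linear_combination this - κ' * h2
      · intro h
        have := this.2 (by rw [h]; linear_combination κ' * h2)
        linear_combination this - dl κ' t' * h2
    · exact not_or.2 ⟨hs, fun h => hs' (H.conj.eq_zero.mp h)⟩
  let Gm : F → F → F := fun κ u => H.σ (H.h (Z κ (H.σ u)) (f 1) / H.h (Z κ (H.σ u)) (e 2))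
  have hrel : ∀ {v : G} {V : Fin 6 → F} (κ : F), (κ = 0 ∨ κ = 1) → v ∈ Gam D φ c → Rep vec v V → H.h V (e 1) = 1 →
      H.h (vec (φ v)) (f 2) = H.h (vec (φ v)) (e 1) *
        (Gm κ (H.h V (f 2) + κ * H.h V (e 2)) + (H.h V (e 2) + 1) * dl κ 0) := by
    intro v V κ hκ hv hV hb
    set t := H.σ (H.h V (f 2) + κ * H.h V (e 2)) with ht
    obtain ⟨hbz, hsz, hd⟩ := hZ κ t hκ
    have hc := (C.img_comm hfr he0 hv (hw κ t hκ).1 hV (hw κ t hκ).2).2 (by
      rw [H.add_right, H.add_right, H.smul_right, H.smul_right, hb, hσd κ hκ, ht, hσσ]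
      linear_combination (H.h V (f 2) + κ * H.h V (e 2)) * h2)
    rw [show H.h (vec (φ v)) (vec (φ (w κ t))) = _ from hfr.pairing hS (h0 hv) (h0 (hw κ t hκ).1),
      show H.h (vec (φ (w κ t))) (e 1) = 0 from hbz, map_zero, sig hv hV hb] at hc
    rw [← (hpair κ t κ 0 hκ hκ).2 rfl]
    rw [← hσd _ hd]
    have hs' : H.σ (H.h (Z κ t) (e 2)) ≠ 0 := fun h => hsz (H.conj.eq_zero.mp h)
    simp only [Gm, ← ht, dl, map_div₀, Z] at hs' ⊢
    field_simp
    linear_combination hc - (H.h (vec (φ v)) (e 1) * H.σ (H.h (vec (φ (w κ t))) (f 1)) +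
      H.h (vec (φ v)) (e 1) * (H.h V (e 2) + 1) * H.σ (H.h (vec (φ (w κ t))) (f 2))) * h2
  have hdd : dl 0 0 + dl 1 0 = 1 := by
    have hne : dl 0 0 ≠ dl 1 0 := fun h => zero_ne_one ((hpair 0 0 1 0 (Or.inl rfl) (Or.inr rfl)).1 h)
    rcases (hZ 0 0 (Or.inl rfl)).2.2 with e' | e' <;> rcases (hZ 1 0 (Or.inr rfl)).2.2 with e'' | e'' <;>
      simp_all
  have hid : ∀ r s : F, Gm 0 r + Gm 1 (r + s) = s + 1 := by
    intro r s
    obtain ⟨v, hv, hV⟩ := C.exists_point hfr he0 (V := (r * H.σ s) • e 1 + f 1 + r • e 2 + s • f 2)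
      (by
        simp only [H.add_left, H.add_right, H.smul_left, H.smul_right, hfr.ee, hfr.ff, hfr.ef, hfe, if_true,
          if_neg (show (1 : Fin 3) ≠ 2 by decide), if_neg (show (2 : Fin 3) ≠ 1 by decide), map_mul, hσσ]
        linear_combination (r * H.σ s + s * H.σ r) * h2)
      (by simp [H.add_left, H.smul_left, hfr.ee, hfe]) (z := e 1) (by simp [hfr.ee])
      (by simp [H.add_left, H.smul_left, hfr.ee, hfe])
    have c1 : H.h ((r * H.σ s) • e 1 + f 1 + r • e 2 + s • f 2) (e 1) = 1 := by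
      simp [H.add_left, H.smul_left, hfr.ee, hfe]
    have c2 : H.h ((r * H.σ s) • e 1 + f 1 + r • e 2 + s • f 2) (f 2) = r := by
      simp [H.add_left, H.smul_left, hfr.ff, hfr.ef]
    have c3 : H.h ((r * H.σ s) • e 1 + f 1 + r • e 2 + s • f 2) (e 2) = s := by
      simp [H.add_left, H.smul_left, hfr.ee, hfe]
    have a0 := hrel 0 (Or.inl rfl) hv hV c1
    have a1 := hrel 1 (Or.inr rfl) hv hV c1
    rw [c2, c3, zero_mul, add_zero] at a0
    rw [c2, c3, one_mul] at a1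
    have := mul_left_cancel₀ (bne hv hV (by rw [c1]; exact one_ne_zero)) (a0.symm.trans a1)
    linear_combination this + (s + 1) * hdd + (Gm 1 (r + s) + (s + 1) * dl 1 0 - (s + 1)) * h2 - (s + 1) * dl 1 0 * h2 +
      (1 + s - (s + 1) * dl 0 0) * h2
  have hG : ∀ r : F, Gm 0 r = Gm 0 0 + r := by
    intro r
    have e1 := hid 0 r
    have e2 := hid r 0
    rw [zero_add] at e1
    rw [add_zero] at e2
    linear_combination e2 - e1 - r * h2
  -- two commuting members with noncommuting images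
  have mk : ∀ p : F, ∃ v ∈ Gam D φ c, Rep vec v (f 1 + p • e 2) ∧ ∃ X : Fin 6 → F, Rep vec (φ v) X ∧
      H.h X (e 0) = 0 ∧ H.h X (e 1) = 1 ∧ H.h X (e 2) = 1 ∧ H.h X (f 2) = Gm 0 0 + dl 0 0 + p ∧
      H.σ (H.h X (f 1)) + p = 0 := by
    intro p
    obtain ⟨v, hv, hV⟩ := C.exists_point hfr he0 (V := f 1 + p • e 2)
      (by simp [H.add_left, H.add_right, H.smul_left, H.smul_right, hfr.ee, hfr.ff, hfr.ef, hfe])
      (by simp [H.add_left, H.smul_left, hfr.ee, hfe]) (z := e 1) (by simp [hfr.ee])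
      (by simp [H.add_left, H.smul_left, hfr.ee, hfe])
    have c1 : H.h (f 1 + p • e 2) (e 1) = 1 := by simp [H.add_left, H.smul_left, hfr.ee, hfe]
    have c2 : H.h (f 1 + p • e 2) (f 2) = p := by simp [H.add_left, H.smul_left, hfr.ff, hfr.ef]
    have c3 : H.h (f 1 + p • e 2) (e 2) = 0 := by simp [H.add_left, H.smul_left, hfr.ee, hfe]
    have hb := bne hv hV (by rw [c1]; exact one_ne_zero)
    have hs := sig hv hV c1
    have hr := hrel 0 (Or.inl rfl) hv hV c1
    rw [c3, zero_add, mul_one] at hs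
    rw [c2, c3, zero_mul, add_zero, zero_add, one_mul, hG] at hr
    set X := (H.h (vec (φ v)) (e 1))⁻¹ • vec (φ v) with hX
    have hXr : Rep vec (φ v) X := C.rep_smul C.rep_self (inv_ne_zero hb)
    have hX2 : H.h X (e 2) = 1 := by rw [hX, H.smul_left, hs, inv_mul_cancel₀ hb]
    refine ⟨v, hv, hV, X, hXr, by rw [hX, H.smul_left, h0 hv, mul_zero],
      by rw [hX, H.smul_left, inv_mul_cancel₀ hb], hX2, ?_, ?_⟩
    · rw [hX, H.smul_left, hr, ← mul_assoc, inv_mul_cancel₀ hb, one_mul]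
      ring
    · have hc := (C.rep_comm hv.1 (C.gam_img hv).1 hV hXr).1 (C.free.adj v hv.1.1)
      rw [hfr.pairing hS (by simp [H.add_left, H.smul_left, hfr.ee, hfe]) (by rw [hX, H.smul_left, h0 hv, mul_zero]),
        c1, c2, c3, hX2, show H.h (f 1 + p • e 2) (f 1) = 0 by simp [H.add_left, H.smul_left, hfr.ff, hfr.ef]] at hc
      simpa using hc
  obtain ⟨x, hx, hxV, X, hXr, X0, X1, X2, X3, X4⟩ := mk 0
  obtain ⟨y, hy, hyV, Y, hYr, Y0, Y1, Y2, Y3, Y4⟩ := mk ω
  have hxy : H.h X Y = 0 := (C.rep_comm (C.gam_img hx).1 (C.gam_img hy).1 hXr hYr).1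
    ((C.free.comm_iff hx.1.1 hy.1.1).2 ((C.rep_comm hx.1 hy.1 hxV hyV).2
      (by simp [H.add_left, H.add_right, H.smul_left, H.smul_right, hfr.ee, hfr.ff, hfr.ef, hfe])))
  have hxx := C.rep_iso (C.gam_img hx).1 hXr
  rw [hfr.pairing hS X0 Y0, X1, X2, X3, Y1, Y2, Y3, map_one] at hxy
  rw [hfr.pairing hS X0 X0, X1, X2, X3, map_one] at hxx
  simp only [map_add, map_zero, hfr.conj] at hxy hxx X4
  have hXa : H.h X (f 1) = 0 := H.conj.eq_zero.mp (by linear_combination X4)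
  rw [hXa] at hxy hxx
  simp only [map_zero] at hxx
  exact one_ne_zero (α := F) (by linear_combination hxy - hxx - Y4)

end Ctx

namespace Ctx

variable [Finite G] {φ : G → G} {c : G} {F : Type} [Field F] [Fintype F] {H : HermSpace F (Fin 6 → F)}
  {π : H.SIsom →* ↥(closure (perp D c)) ⧸ center ↥(closure (perp D c))} {vec : G → (Fin 6 → F)}
  (C : Ctx D φ c H π vec)
include C

theorem rep_prop {v : G} {V W : Fin 6 → F} (hV : Rep vec v V) (hW : Rep vec v W) : ∃ a : F, W = a • V := by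
  obtain ⟨p, hp, rfl⟩ := hV
  obtain ⟨q, hq, rfl⟩ := hW
  exact ⟨q * p⁻¹, by rw [smul_smul, mul_assoc, inv_mul_cancel₀ hp, mul_one]⟩

theorem fourth {a b t : F} (ha : a ≠ 0) (hb : b ≠ 0) (hab : a ≠ b) (t0 : t ≠ 0) (ta : t ≠ a) (tb : t ≠ b) :
    t = a + b := by
  have h2 := C.model.six.two
  by_contra hne
  have hab0 : a + b ≠ 0 := fun h => hab (by linear_combination h - b * h2)
  have hc : ({0, a, b, t, a + b} : Finset F).card = 5 := by
    simp [ha.symm, hb.symm, hab, t0.symm, ta.symm, tb.symm, hne, hab0.symm, ha, hb]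
  have := Finset.card_le_univ ({0, a, b, t, a + b} : Finset F)
  rw [hc, ← Nat.card_eq_fintype_card, C.model.four] at this
  omega

theorem translation {g : F → F} (hinv : ∀ t, g (g t) = t) (hne : ∀ t, g t ≠ t) (t : F) : g t = t + g 0 := by
  have h2 := C.model.six.two
  by_cases ht : t = 0
  · rw [ht, zero_add]
  by_cases htv : t = g 0
  · rw [htv, hinv]; linear_combination -(g 0) * h2
  refine C.fourth ht (hne 0) htv ?_ (hne t) ?_
  · exact fun h => htv (by rw [← h, hinv])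
  · exact fun h => ht (by rw [← hinv t, h, hinv])

variable {ω : F} {e f : Fin 3 → (Fin 6 → F)} (hfr : Frame H ω e f) (he0 : e 0 = vec (φ c))
include hfr he0

/-- No line through the image of `c` has three fixed points and one swapped pair. -/
theorem no_three
    (hX0 : ∀ (y : F) (P : G), P ∈ Gam D φ c → Rep vec P (e 2 + y • e 0) → H.h (vec (φ P)) (e 1) = 0 ∧
      H.h (vec (φ P)) (e 2) = 0 ∧ H.h (vec (φ P)) (f 1) = 0 * H.h (vec (φ P)) (f 2))
    (hX1 : ∀ (y : F) (P : G), P ∈ Gam D φ c → Rep vec P (e 2 + (1 : F) • e 1 + y • e 0) → H.h (vec (φ P)) (e 1) = 0 ∧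
      H.h (vec (φ P)) (e 2) = 0 ∧ H.h (vec (φ P)) (f 1) = 1 * H.h (vec (φ P)) (f 2))
    (hXω : ∀ (y : F) (P : G), P ∈ Gam D φ c → Rep vec P (e 2 + ω • e 1 + y • e 0) → H.h (vec (φ P)) (e 1) = 0 ∧
      H.h (vec (φ P)) (e 2) = 0 ∧ H.h (vec (φ P)) (f 1) = (ω + 1) * H.h (vec (φ P)) (f 2))
    (hY : ∀ (y : F) (P : G), P ∈ Gam D φ c → Rep vec P (e 1 + y • e 0) → H.h (vec (φ P)) (e 1) = 0 ∧
      H.h (vec (φ P)) (e 2) = 0 ∧ H.h (vec (φ P)) (f 2) = 0) : False := by
  have hS := C.model.six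
  have h2 := hS.two
  have hfe := hfr.fe hS
  let X : F → F → (Fin 6 → F) := fun l y => e 2 + l • e 1 + y • e 0
  let Y : F → (Fin 6 → F) := fun y => e 1 + y • e 0
  have cX : ∀ l y, H.h (X l y) (f 0) = y ∧ H.h (X l y) (f 1) = l ∧ H.h (X l y) (f 2) = 1 ∧ H.h (X l y) (X l y) = 0 ∧
      H.h (X l y) (e 0) = 0 := fun l y => by
    simp [X, H.add_left, H.add_right, H.smul_left, H.smul_right, hfr.ee, hfr.ef]
  have cY : ∀ y, H.h (Y y) (f 0) = y ∧ H.h (Y y) (f 1) = 1 ∧ H.h (Y y) (f 2) = 0 ∧ H.h (Y y) (Y y) = 0 ∧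
      H.h (Y y) (e 0) = 0 := fun y => by
    simp [Y, H.add_left, H.add_right, H.smul_left, H.smul_right, hfr.ee, hfr.ef]
  have getX : ∀ l l' : F, (∀ (y : F) (P : G), P ∈ Gam D φ c → Rep vec P (X l y) → H.h (vec (φ P)) (e 1) = 0 ∧
      H.h (vec (φ P)) (e 2) = 0 ∧ H.h (vec (φ P)) (f 1) = l' * H.h (vec (φ P)) (f 2)) →
      ∀ y, ∃ (P : G) (y' : F), P ∈ Gam D φ c ∧ Rep vec P (X l y) ∧ Rep vec (φ P) (X l' y') := by
    intro l l' hl y
    obtain ⟨P, hPm, hPr⟩ := C.exists_point hfr he0 (cX l y).2.2.2.1 (cX l y).2.2.2.2 (z := f 2)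
      (by simp [hfr.ef]) (by rw [(cX l y).2.2.1]; exact one_ne_zero)
    obtain ⟨p1, p2, p3⟩ := hl y P hPm hPr
    have h0 := C.gam_zero hfr he0 (C.gam_img hPm)
    have hr : H.h (vec (φ P)) (f 2) ≠ 0 := fun h => C.img_flat hfr he0 hPm p1 p2 (by rw [p3, h, mul_zero]) h
    refine ⟨P, H.h (vec (φ P)) (f 0) / H.h (vec (φ P)) (f 2), hPm, hPr, (H.h (vec (φ P)) (f 2))⁻¹, inv_ne_zero hr, ?_⟩
    have eX := hfr.mem_span3 hS (X := vec (φ P)) (fun i => by fin_cases i; exacts [h0, p1, p2])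
    rw [p3] at eX
    generalize H.h (vec (φ P)) (f 2) = r at eX hr ⊢
    generalize H.h (vec (φ P)) (f 0) = a₀ at eX ⊢
    rw [eX]
    simp only [X]
    match_scalars <;> field_simp

  have getY : ∀ y, ∃ (P : G) (y' : F), P ∈ Gam D φ c ∧ Rep vec P (Y y) ∧ Rep vec (φ P) (Y y') := by
    intro y
    obtain ⟨P, hPm, hPr⟩ := C.exists_point hfr he0 (cY y).2.2.2.1 (cY y).2.2.2.2 (z := f 1)
      (by simp [hfr.ef]) (by rw [(cY y).2.1]; exact one_ne_zero)
    obtain ⟨p1, p2, p3⟩ := hY y P hPm hPr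
    have h0 := C.gam_zero hfr he0 (C.gam_img hPm)
    have hr : H.h (vec (φ P)) (f 1) ≠ 0 := fun h => C.img_flat hfr he0 hPm p1 p2 h p3
    refine ⟨P, (H.h (vec (φ P)) (f 1))⁻¹ * H.h (vec (φ P)) (f 0), hPm, hPr, (H.h (vec (φ P)) (f 1))⁻¹,
      inv_ne_zero hr, ?_⟩
    have eX := hfr.mem_span3 hS (X := vec (φ P)) (fun i => by fin_cases i; exacts [h0, p1, p2])
    rw [p3] at eX
    generalize H.h (vec (φ P)) (f 1) = r at eX hr ⊢
    generalize H.h (vec (φ P)) (f 0) = a₀ at eX ⊢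
    rw [eX]
    simp only [Y]
    match_scalars <;> field_simp
    all_goals simp

  choose P0 g0 hP0 hR0 hI0 using getX 0 0 (fun y P h1 h2' => hX0 y P h1 (by simpa [X] using h2'))
  choose P1 g1 hP1 hR1 hI1 using getX 1 1 hX1
  choose Pω gω hPω hRω hIω using getX ω (ω + 1) hXω
  choose PY g3 hPY hRY hIY using getY
  have uX : ∀ {v : G} {l y l' y' : F}, Rep vec v (X l y) → Rep vec v (X l' y') → l = l' ∧ y = y' := by
    intro v l y l' y' h h'
    obtain ⟨a, ha⟩ := C.rep_prop h h'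
    have e2 := congrArg (fun V => H.h V (f 2)) ha
    simp only [H.smul_left, (cX _ _).2.2.1, mul_one] at e2
    rw [← e2, one_smul] at ha
    exact ⟨by rw [← (cX l y).2.1, ← ha, (cX l' y').2.1], by rw [← (cX l y).1, ← ha, (cX l' y').1]⟩
  have uY : ∀ {v : G} {y y' : F}, Rep vec v (Y y) → Rep vec v (Y y') → y = y' := by
    intro v y y' h h'
    obtain ⟨a, ha⟩ := C.rep_prop h h'
    have e2 := congrArg (fun V => H.h V (f 1)) ha
    simp only [H.smul_left, (cY _).2.1, mul_one] at e2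
    rw [← e2, one_smul] at ha
    rw [← (cY y).1, ← ha, (cY y').1]
  have nXY : ∀ {v : G} {l y z : F}, Rep vec v (X l y) → Rep vec v (Y z) → False := by
    intro v l y z h h'
    obtain ⟨a, ha⟩ := C.rep_prop h' h
    have e2 := congrArg (fun V => H.h V (f 2)) ha
    simp only [H.smul_left, (cX _ _).2.2.1, (cY _).2.2.1, mul_zero] at e2
    exact one_ne_zero e2
  have invX : ∀ {l : F} (P : F → G) (g : F → F), (∀ y, P y ∈ Gam D φ c) → (∀ y, Rep vec (P y) (X l y)) →
      (∀ y, Rep vec (φ (P y)) (X l (g y))) → (∀ y, g (g y) = y) ∧ ∀ y, g y ≠ y := by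
    intro l P g hP hR hI
    have e : ∀ y, P (g y) = φ (P y) := fun y =>
      C.rep_eq (hP _).1 (C.gam_img (hP y)).1 (hR _) (hI y) (a := 1) (one_smul F _).symm
    refine ⟨fun y => ?_, fun y h => C.free.ne _ (hP y).1.1 ?_⟩
    · have := hI (g y)
      rw [e y, C.free.invol _ (hP y).1.1] at this
      exact (uX this (hR y)).2
    · rw [← e y, h]
  obtain ⟨i0, n0⟩ := invX P0 g0 hP0 hR0 hI0
  obtain ⟨i1, n1⟩ := invX P1 g1 hP1 hR1 hI1
  have e3 : ∀ y, PY (g3 y) = φ (PY y) := fun y =>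
    C.rep_eq (hPY _).1 (C.gam_img (hPY y)).1 (hRY _) (hIY y) (a := 1) (one_smul F _).symm
  have i3 : ∀ y, g3 (g3 y) = y := fun y => by
    have := hIY (g3 y)
    rw [e3 y, C.free.invol _ (hPY y).1.1] at this
    exact uY this (hRY y)
  have n3 : ∀ y, g3 y ≠ y := fun y h => C.free.ne _ (hPY y).1.1 (by rw [← e3 y, h])
  have key : ∀ y s : F, gω (y + ω * s) = g0 y + g3 s * (ω + 1) + (g0 y + g1 (y + s) + g3 s) * ω := by
    intro y s
    have hcomm : ∀ {u v : G} {U V : Fin 6 → F}, u ∈ Gam D φ c → v ∈ Gam D φ c → Rep vec u U → Rep vec v V →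
        H.h U V = 0 → Commute u v := fun hu hv hU hV h => (C.rep_comm hu.1 hv.1 hU hV).2 h
    have hXY : H.h (X 0 y) (Y s) = 0 := by
      simp [X, Y, H.add_left, H.add_right, H.smul_left, H.smul_right, hfr.ee]
    have h0Y : P0 y ≠ PY s := fun h => nXY (hR0 y) (h ▸ hRY s)
    have hcm := hcomm (hP0 y) (hPY s) (hR0 y) (hRY s) hXY
    have honT : ∀ {u : G} {U : Fin 6 → F}, u ∈ Gam D φ c → Rep vec u U → ∀ p q : F, U = p • X 0 y + q • Y s →
        φ u ∈ tperp D (φ c) (φ (P0 y)) (φ (PY s)) := by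
      intro u U hu hU p q e
      refine C.free.map_tperp C.hc (hP0 y).1.1 (hPY s).1.1 ((C.tperp_iff (hP0 y).1 (hPY s).1 h0Y hcm).2
        (Or.inr ⟨hu.1, ?_⟩))
      obtain ⟨a, ha, ea⟩ := hR0 y
      obtain ⟨b, hb, eb⟩ := hRY s
      obtain ⟨k, hk, ek⟩ := hU
      refine ⟨k⁻¹ * (p * a), k⁻¹ * (q * b), ?_⟩
      rw [ea, eb, ek] at e
      rw [← inv_mul_cancel_left₀ hk (1 : F)] at *
      simp only [mul_one] at *
      calc vec u = k⁻¹ • (k • vec u) := by rw [smul_smul, inv_mul_cancel₀ hk, one_smul]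
        _ = _ := by rw [e, smul_add, smul_smul, smul_smul, smul_smul, smul_smul]; simp only [mul_assoc]
    have m0 := honT (hP0 y) (hR0 y) 1 0 (by simp)
    have m1 := honT (hP1 (y + s)) (hR1 (y + s)) 1 1 (by simp only [X, Y, add_smul, zero_smul, one_smul, add_zero]; abel)
    have mY := honT (hPY s) (hRY s) 0 1 (by simp)
    have mω := honT (hPω (y + ω * s)) (hRω (y + ω * s)) 1 ω
      (by simp only [X, Y]; match_scalars <;> ring)
    set T := tperp D (φ c) (φ (P0 y)) (φ (PY s)) with hT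
    have hl : CList' D (φ c) (φ (P0 y)) (φ (PY s)) := by
      refine ⟨C.free.mem _ C.hc, C.free.mem _ (hP0 y).1.1, C.free.mem _ (hPY s).1.1, ?_, ?_, ?_, ?_, ?_, ?_⟩
      · exact fun h => (hP0 y).1.2.1 (C.free.inj C.hc (hP0 y).1.1 h).symm
      · exact fun h => (hPY s).1.2.1 (C.free.inj C.hc (hPY s).1.1 h).symm
      · exact fun h => h0Y (C.free.inj (hP0 y).1.1 (hPY s).1.1 h)
      · exact C.free.comm _ C.hc _ (hP0 y).1.1 (hP0 y).1.2.2
      · exact C.free.comm _ C.hc _ (hPY s).1.1 (hPY s).1.2.2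
      · exact C.free.comm _ (hP0 y).1.1 _ (hPY s).1.1 hcm
    have hcT : c ∉ T := by
      intro h
      have h' := C.free.map_tperp (C.free.mem _ C.hc) (C.free.mem _ (hP0 y).1.1) (C.free.mem _ (hPY s).1.1) h
      rw [C.free.invol c C.hc, C.free.invol _ (hP0 y).1.1, C.free.invol _ (hPY s).1.1,
        C.tperp_iff (hP0 y).1 (hPY s).1 h0Y hcm] at h'
      obtain ⟨-, a, b, e⟩ := h'.resolve_left (C.free.ne c C.hc)
      obtain ⟨p, hp, ea⟩ := hR0 y
      obtain ⟨q, hq, eb⟩ := hRY s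
      have hva : vec (P0 y) = p⁻¹ • X 0 y := by rw [ea, smul_smul, inv_mul_cancel₀ hp, one_smul]
      have hvb : vec (PY s) = q⁻¹ • Y s := by rw [eb, smul_smul, inv_mul_cancel₀ hq, one_smul]
      rw [← he0, hva, hvb, smul_smul, smul_smul] at e
      have c2 := congrArg (fun V => H.h V (f 2)) e
      have c1 := congrArg (fun V => H.h V (f 1)) e
      have c0 := congrArg (fun V => H.h V (f 0)) e
      simp only [H.add_left, H.smul_left, (cX _ _).2.2.1, (cY _).2.2.1, (cX _ _).2.1, (cY _).2.1, (cX _ _).1,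
        (cY _).1, hfr.ef] at c0 c1 c2
      norm_num at c0 c1 c2
      rw [if_neg (show (0 : Fin 3) ≠ 2 by decide)] at c2
      rw [← c2, c1.resolve_right hq] at c0
      simp at c0
    have no3 : ∀ {u v w : G} {U V W : Fin 6 → F}, u ∈ Gam D φ c → v ∈ Gam D φ c → w ∈ Gam D φ c →
        Rep vec u U → Rep vec v V → Rep vec w W → u ∈ T → v ∈ T → w ∈ T → u ≠ v → u ≠ w → v ≠ w →
        ∀ p q : F, W = p • U + q • V → False := by
      intro u v w U V W hu hv hw hU hV hW uT vT wT huv huw hvw p q e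
      have cuv : Commute u v := commute_of_mem_tperp hl.ha hl.hb hl.hc hl.cab hl.cac hl.cbc uT vT
      obtain ⟨a, ha, rfl⟩ := hU
      obtain ⟨b, hb, rfl⟩ := hV
      obtain ⟨k, hk, rfl⟩ := hW
      have hw' : w ∈ tperp D c u v := (C.tperp_iff hu.1 hv.1 huv cuv).2 (Or.inr ⟨hw.1, k⁻¹ * (p * a), k⁻¹ * (q * b), by
        calc vec w = k⁻¹ • (k • vec w) := by rw [smul_smul, inv_mul_cancel₀ hk, one_smul]
          _ = _ := by rw [e, smul_add, smul_smul, smul_smul, smul_smul, smul_smul]; simp only [mul_assoc]⟩)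
      refine hcT ?_
      rw [hT, ← C.cl.tperp_closed hl uT vT wT huv huw hvw, C.cl.tperp_closed
        ⟨C.hc, hu.1.1, hv.1.1, hu.1.2.1.symm, hv.1.2.1.symm, huv, hu.1.2.2, hv.1.2.2, cuv⟩
        ⟨hu.1.1, fun _ _ _ h _ => h⟩ ⟨hv.1.1, fun _ _ _ _ h => h⟩ hw' huv huw hvw]
      exact ⟨C.hc, fun _ _ h _ _ => h⟩
    have ω0 : ω + 1 ≠ 0 := fun h => one_ne_zero (α := F)
      (by linear_combination hfr.sq - ω * h + 2 * h)
    have ω1 : ω + 1 ≠ 1 := fun h => by
      have hω : ω = 0 := by linear_combination h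
      have := hfr.sq
      rw [hω] at this
      simp at this
    have d01 : φ (P0 y) ≠ φ (P1 (y + s)) := fun h => zero_ne_one (uX (hI0 y) (h ▸ hI1 (y + s))).1
    have d0ω : φ (P0 y) ≠ φ (Pω (y + ω * s)) := fun h => ω0 (uX (hI0 y) (h ▸ hIω _)).1.symm
    have d1ω : φ (P1 (y + s)) ≠ φ (Pω (y + ω * s)) := fun h => ω1 (uX (hI1 _) (h ▸ hIω _)).1.symm
    have d0Y : φ (P0 y) ≠ φ (PY s) := fun h => nXY (hI0 y) (h ▸ hIY s)
    have d1Y : φ (P1 (y + s)) ≠ φ (PY s) := fun h => nXY (hI1 _) (h ▸ hIY s)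
    have dωY : φ (Pω (y + ω * s)) ≠ φ (PY s) := fun h => nXY (hIω _) (h ▸ hIY s)
    have q0 := C.gam_img (hP0 y)
    have q1 := C.gam_img (hP1 (y + s))
    have qω := C.gam_img (hPω (y + ω * s))
    have qY := C.gam_img (hPY s)
    have hα : (g0 y) + (g1 (y + s)) + (g3 s) ≠ 0 := fun h => no3 q0 qY q1 (hI0 y) (hIY s) (hI1 _) m0 mY m1 d0Y d01 d1Y.symm 1 1 (by
      rw [show (g1 (y + s)) = (g0 y) + (g3 s) by linear_combination h - ((g0 y) + (g3 s)) * h2]
      simp only [X, Y]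
      match_scalars <;> ring)
    have z1 : (gω (y + ω * s)) + (g0 y) + (g3 s) * (ω + 1) ≠ 0 := fun h => no3 q0 qY qω (hI0 y) (hIY s) (hIω _) m0 mY mω d0Y d0ω dωY.symm 1
      (ω + 1) (by
      rw [show (gω (y + ω * s)) = (g0 y) + (ω + 1) * (g3 s) by linear_combination h - ((g0 y) + (g3 s) * (ω + 1)) * h2]
      simp only [X, Y]
      match_scalars <;> ring)
    have z2 : (gω (y + ω * s)) + (g0 y) + (g3 s) * (ω + 1) ≠ (g0 y) + (g1 (y + s)) + (g3 s) := fun h => no3 q1 qY qω (hI1 _) (hIY s) (hIω _) m1 mY mω d1Y d1ω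
      dωY.symm 1 ω (by
      rw [show (gω (y + ω * s)) = (g1 (y + s)) + ω * (g3 s) by linear_combination h - ω * (g3 s) * h2]
      simp only [X, Y]
      match_scalars <;> ring)
    have z3 : (gω (y + ω * s)) + (g0 y) + (g3 s) * (ω + 1) ≠ ((g0 y) + (g1 (y + s)) + (g3 s)) * (ω + 1) := fun h => no3 q0 q1 qω (hI0 y) (hI1 _) (hIω _) m0 m1
      mω d01 d0ω d1ω ω (ω + 1) (by
      rw [show (gω (y + ω * s)) = ω * (g0 y) + (ω + 1) * (g1 (y + s)) by linear_combination h]
      simp only [X, one_smul, zero_smul, add_zero, smul_add, smul_smul, add_smul, mul_one, one_mul]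
      match_scalars
      · linear_combination -ω * h2
      · ring
      · ring)
    have hfour := C.fourth hα (mul_ne_zero hα ω0) (fun h => ω1 (by
      have := mul_left_cancel₀ hα (h.symm.trans (mul_one _).symm)
      exact this)) z1 z2 z3
    linear_combination hfour + (-(g0 y) - (g3 s) * (ω + 1) + (g0 y) + (g1 (y + s)) + (g3 s)) * h2
  have t0 := C.translation i0 n0
  have t1 := C.translation i1 n1
  have t3 := C.translation i3 n3
  have k0 := key 0 0
  have k1 := key ω 1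
  rw [show ω + ω * 1 = 0 + ω * 0 by linear_combination ω * h2] at k1
  rw [k0, t0 0, t0 ω, t1 (0 + 0), t1 (ω + 1), t3 0, t3 1] at k1
  exact one_ne_zero (α := F) (by linear_combination k1 + (1 + ω + ω * ω) * h2 + ω * h2)

end Ctx

namespace Ctx

variable [Finite G] {φ : G → G} {c : G} {F : Type} [Field F] [Fintype F] {H : HermSpace F (Fin 6 → F)}
  {π : H.SIsom →* ↥(closure (perp D c)) ⧸ center ↥(closure (perp D c))} {vec : G → (Fin 6 → F)}
  (C : Ctx D φ c H π vec)
include C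

theorem frame_of {ω : F} {e₀ f₀ : Fin 3 → (Fin 6 → F)} (h₀ : Frame H ω e₀ f₀) {e : Fin 3 → (Fin 6 → F)}
    (he : ∀ i j, H.h (e i) (e j) = 0)
    (hli : ∀ p q r : F, p • e 0 + q • e 1 + r • e 2 = 0 → p = 0 ∧ q = 0 ∧ r = 0) : ∃ f, Frame H ω e f := by
  haveI := C.model.six.fd
  have hind : LinearIndependent F e := Fintype.linearIndependent_iff.2 fun g hg i => by
    obtain ⟨h0, h1, h2⟩ := hli (g 0) (g 1) (g 2) (by rw [← hg, Fin.sum_univ_three])
    fin_cases i
    exacts [h0, h1, h2]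
  obtain ⟨f, hef, hff⟩ := Cfsg.Lib.Classical.UIso.exists_dual H ⟨hind, he⟩
  exact ⟨f, h₀.sq, h₀.conj, h₀.elems, he, hff, hef⟩

/-- The class of `V + l • η` goes to the class of `V + l' • η`. -/
def Img (φ : G → G) (c : G) (D : Set G) (vec : G → (Fin 6 → F)) (V η : Fin 6 → F) (l l' : F) : Prop :=
  ∃ u ∈ Gam D φ c, Rep vec u (V + l • η) ∧ ∃ A r : F, vec (φ u) = A • vec (φ c) + r • (V + l' • η)

theorem cond_of_img {ω : F} {e f : Fin 3 → (Fin 6 → F)} (hfr : Frame H ω e f) (he0 : e 0 = vec (φ c))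
    {V η : Fin 6 → F} {κ : F} (he1 : e 1 = η) (he2 : e 2 = V + κ • η) {l l' : F} (hI : Img φ c D vec V η (κ + l) l')
    (y : F) (P : G) (hP : P ∈ Gam D φ c) (hPr : Rep vec P (e 2 + l • e 1 + y • e 0)) :
    H.h (vec (φ P)) (e 1) = 0 ∧ H.h (vec (φ P)) (e 2) = 0 ∧
      H.h (vec (φ P)) (f 1) = (l' + κ) * H.h (vec (φ P)) (f 2) := by
  have h2 := C.model.six.two
  obtain ⟨u, hu, hur, A, r, hA⟩ := hI
  obtain ⟨a, ha, ea⟩ := hur
  obtain ⟨b, hb, eb⟩ := hPr
  have hline : ∃ p q : F, vec P = p • vec (φ c) + q • vec u := ⟨b⁻¹ * y, b⁻¹ * a, by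
    calc vec P = b⁻¹ • (b • vec P) := by rw [smul_smul, inv_mul_cancel₀ hb, one_smul]
      _ = b⁻¹ • ((V + (κ + l) • η) + y • vec (φ c)) := by rw [← eb, he0, he1, he2]; module
      _ = _ := by rw [ea]; module⟩
  obtain ⟨p, q, e'⟩ := C.line_img hu hP hline
  have hV : vec (φ c) = e 0 ∧ V + l' • η = e 2 + (l' + κ) • e 1 := by
    refine ⟨he0.symm, ?_⟩
    rw [he1, he2]
    match_scalars
    · ring
    · linear_combination -κ * h2
  rw [e', hA, hV.1, hV.2]
  simp [H.add_left, H.smul_left, hfr.ee, hfr.ef]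
  ring

/-- Every line through the image of `c` is fixed. -/
theorem line_fixed {v : G} (hv : v ∈ Gam D φ c) : φ v ∈ tperp D c (φ c) v := by
  classical
  by_contra hnot
  have hS := C.model.six
  have h2 := hS.two
  obtain ⟨ω, e₀, f₀, h₀⟩ := hS.exists_frame C.model.four
  have hw := C.gam_img hv
  set ε := vec (φ c) with hε
  set V := vec v with hVd
  set W := vec (φ v) with hWd
  have hnl : ∀ a b : F, W ≠ a • ε + b • V := fun a b e => hnot ((C.line_iff hv hw).2 ⟨a, b, e⟩)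
  have hvw : H.h V W = 0 := (C.rep_comm hv.1 hw.1 C.rep_self C.rep_self).1 (C.free.adj v hv.1.1)
  have iε : H.h ε ε = 0 := C.model.vec_iso _ C.img_perp
  have iV : H.h V V = 0 := C.model.vec_iso _ hv.1
  have iW : H.h W W = 0 := C.model.vec_iso _ hw.1
  have oV : H.h V ε = 0 := C.gam_ortho hv
  have oW : H.h W ε = 0 := C.gam_ortho hw
  have hε0 : ε ≠ 0 := C.model.vec_ne _ C.img_perp
  have li : ∀ p q r : F, p • ε + q • W + r • V = 0 → p = 0 ∧ q = 0 ∧ r = 0 := by
    intro p q r h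
    by_cases hq : q = 0
    · subst hq
      by_cases hr : r = 0
      · subst hr
        simp only [zero_smul, add_zero, smul_eq_zero, hε0, or_false] at h
        exact ⟨h, rfl, rfl⟩
      · refine absurd ?_ (C.gam_indep hv (-(r⁻¹ * p)))
        calc V = r⁻¹ • (r • V) := by rw [smul_smul, inv_mul_cancel₀ hr, one_smul]
          _ = _ := by
            rw [zero_smul, add_zero] at h
            rw [eq_neg_of_add_eq_zero_right h, hε]
            module
    · refine absurd ?_ (hnl (-(q⁻¹ * p)) (-(q⁻¹ * r)))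
      calc W = q⁻¹ • (q • W) := by rw [smul_smul, inv_mul_cancel₀ hq, one_smul]
        _ = q⁻¹ • (-(p • ε) - r • V) := by congr 1; linear_combination (norm := module) h
        _ = _ := by module
  obtain ⟨fA, hA⟩ := C.frame_of h₀ (e := ![ε, W, V]) (fun i j => by
    fin_cases i <;> fin_cases j <;>
      simp [iε, iV, iW, oV, oW, hvw, H.eq_zero_symm oV, H.eq_zero_symm oW, H.eq_zero_symm hvw])
    (fun p q r h => li p q r (by simpa using h))
  -- members on the plane
  have hu : ∀ t : F, ∃ u ∈ Gam D φ c, Rep vec u (V + t • W) := fun t =>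
    C.exists_gam (by simp [H.add_left, H.add_right, H.smul_left, H.smul_right, iV, iW, hvw, H.eq_zero_symm hvw])
      (by rw [← hε]; simp [H.add_left, H.smul_left, oV, oW])
      (fun a e => by
        obtain ⟨-, -, h⟩ := li (-a) t 1 (by rw [hε] at *; linear_combination (norm := module) e)
        exact one_ne_zero h)
  choose u hum hur using hu
  have img : ∀ t : F, t ≠ 0 → ∃ t' : F, t' ≠ 0 ∧ ∃ A r : F, vec (φ (u t)) = A • ε + r • (V + t' • W) := by
    intro t ht
    have hg := C.gam_img (hum t)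
    have hoV : H.h (vec (φ (u t))) V = 0 := by
      have := (C.rep_comm (hum t).1 hw.1 (hur t) C.rep_self).2
        (by simp [H.add_left, H.smul_left, hvw, iW, hWd] at *; simp [hvw, iW])
      have h' := C.free.comm _ (hum t).1.1 _ hw.1.1 this
      rw [C.free.invol v hv.1.1] at h'
      exact (C.rep_comm hg.1 hv.1 C.rep_self C.rep_self).1 h'
    have hoW : H.h (vec (φ (u t))) W = 0 := by
      have := (C.rep_comm (hum t).1 hv.1 (hur t) C.rep_self).2
        (by simp [H.add_left, H.smul_left, iV, H.eq_zero_symm hvw, ← hVd, hWd] at *; simp [iV, H.eq_zero_symm hvw])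
      exact (C.rep_comm hg.1 hw.1 C.rep_self C.rep_self).1 (C.free.comm _ (hum t).1.1 _ hv.1.1 this)
    have eX := hA.mem_span3 hS (X := vec (φ (u t))) (fun i => by fin_cases i; exacts [C.gam_ortho hg, hoW, hoV])
    simp only [Matrix.cons_val_zero, Matrix.cons_val_one, Matrix.cons_val] at eX
    generalize H.h (vec (φ (u t))) (fA 0) = A, H.h (vec (φ (u t))) (fA 1) = a, H.h (vec (φ (u t))) (fA 2) = r at eX
    obtain ⟨k, hk, ek⟩ := hur t
    have back : ∀ {x : G}, x ∈ Gam D φ c → ∀ p q : F, vec (φ (u t)) = p • ε + q • vec x →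
        ∃ p' q' : F, vec (u t) = p' • ε + q' • vec (φ x) := by
      intro x hx p q e
      by_cases hq : q = 0
      · exact absurd (by rw [e, hq, zero_smul, add_zero]) (C.gam_indep hg p)
      obtain ⟨a', b', h'⟩ := C.line_img hx hg ⟨p, q, e⟩
      rw [C.free.invol _ (hum t).1.1] at h'
      exact ⟨a', b', h'⟩
    have hr0 : r ≠ 0 := by
      intro hr
      obtain ⟨p', q', h'⟩ := back hw A a (by rw [eX, hr, zero_smul, add_zero])
      rw [C.free.invol v hv.1.1] at h'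
      obtain ⟨-, h1, -⟩ := li (-(k * p')) t (1 - k * q') (by
        rw [h'] at ek
        linear_combination (norm := module) ek)
      exact ht h1
    have ha0 : a ≠ 0 := by
      intro ha
      obtain ⟨p', q', h'⟩ := back hv A r (by rw [eX, ha, zero_smul, add_zero])
      obtain ⟨-, -, h1⟩ := li (-(k * p')) (t - k * q') 1 (by
        rw [h'] at ek
        linear_combination (norm := module) ek)
      exact one_ne_zero h1
    refine ⟨a / r, div_ne_zero ha0 hr0, A, r, ?_⟩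
    rw [eX]
    match_scalars <;> field_simp
  choose! g hg0 Ag rg hg using img
  have ginv : ∀ t : F, t ≠ 0 → g (g t) = t := by
    intro t ht
    obtain ⟨k, hk, ek⟩ := hur (g t)
    obtain ⟨a, b, e'⟩ := C.line_img (hum (g t)) (C.gam_img (hum t)) ⟨Ag t, rg t * k, by
      rw [hg t ht, ek]; module⟩
    rw [C.free.invol _ (hum t).1.1, hg (g t) (hg0 t ht)] at e'
    obtain ⟨k', hk', ek'⟩ := hur t
    rw [e'] at ek'
    obtain ⟨-, h1, h3⟩ := li (-(k' * (a + b * Ag (g t)))) (t - k' * b * rg (g t) * g (g t))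
      (1 - k' * b * rg (g t)) (by linear_combination (norm := module) ek')
    linear_combination (-1 : F) * h1 + g (g t) * h3
  have ω0 : ω ≠ 0 := fun h => by have := h₀.sq; rw [h] at this; simp at this
  have ω1 : ω ≠ 1 := fun h => one_ne_zero (α := F) (by have := h₀.sq; rw [h] at this; linear_combination -this)
  have w10 : ω + 1 ≠ 0 := fun h => ω1 (by linear_combination h - h2)
  have w11 : ω + 1 ≠ 1 := fun h => ω0 (by linear_combination h)
  have wne : ω + 1 ≠ ω := fun h => one_ne_zero (α := F) (by linear_combination h)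
  obtain ⟨t₀, ht₀, hfix⟩ : ∃ t₀ : F, t₀ ≠ 0 ∧ g t₀ = t₀ := by
    by_contra hno
    push Not at hno
    have h1 := hg0 1 one_ne_zero
    have h1' := hno 1 one_ne_zero
    rcases h₀.elems (g 1) with e | e | e | e
    · exact h1 e
    · exact h1' e
    · have eω : g ω = 1 := e ▸ ginv 1 one_ne_zero
      rcases h₀.elems (g (ω + 1)) with e' | e' | e' | e'
      · exact hg0 _ w10 e'
      · exact wne (by rw [← ginv _ w10, e', e])
      · exact w11 (by rw [← ginv _ w10, e', eω])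
      · exact hno _ w10 e'
    · have eω : g (ω + 1) = 1 := e ▸ ginv 1 one_ne_zero
      rcases h₀.elems (g ω) with e' | e' | e' | e'
      · exact hg0 _ ω0 e'
      · exact wne (by rw [← e, ← e', ginv _ ω0])
      · exact hno _ ω0 e'
      · exact ω1 (by rw [← ginv _ ω0, e', eω])
  set η := V + t₀ • W with hη
  set s₁ := t₀ * (ω + 1) with hs₁
  set s₂ := t₀ * ω with hs₂
  have hs10 : s₁ ≠ 0 := mul_ne_zero ht₀ w10
  have hs20 : s₂ ≠ 0 := mul_ne_zero ht₀ ω0
  have hs1t : s₁ ≠ t₀ := fun h => w11 (mul_left_cancel₀ ht₀ (h.trans (mul_one _).symm))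
  have hs2t : s₂ ≠ t₀ := fun h => ω1 (mul_left_cancel₀ ht₀ (h.trans (mul_one _).symm))
  have hs12 : s₁ ≠ s₂ := fun h => wne (mul_left_cancel₀ ht₀ h)
  have htot : ∀ s : F, s ≠ 0 → s = t₀ ∨ s = s₁ ∨ s = s₂ := fun s hs => by
    rcases h₀.elems (t₀⁻¹ * s) with e | e | e | e
    · exact absurd (by rw [← mul_inv_cancel_left₀ ht₀ s, e, mul_zero]) hs
    · exact Or.inl (by rw [← mul_inv_cancel_left₀ ht₀ s, e, mul_one])
    · exact Or.inr (Or.inr (by rw [← mul_inv_cancel_left₀ ht₀ s, e]))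
    · exact Or.inr (Or.inl (by rw [← mul_inv_cancel_left₀ ht₀ s, e]))
  have eη : W = t₀⁻¹ • (V + η) := by
    rw [hη]
    calc W = t₀⁻¹ • (t₀ • W) := by rw [smul_smul, inv_mul_cancel₀ ht₀, one_smul]
      _ = _ := by
        congr 1
        match_scalars <;> first | ring1 | linear_combination h2 | linear_combination -h2
  have I0 : Img φ c D vec V η 0 1 := ⟨v, hv, ⟨1, one_ne_zero, by simp [hVd]⟩, 0, t₀⁻¹, by
    rw [← hWd, zero_smul, zero_add, one_smul, ← eη]⟩
  have I1 : Img φ c D vec V η 1 0 := by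
    refine ⟨φ v, hw, ⟨t₀, ht₀, ?_⟩, 0, 1, ?_⟩
    · rw [← hWd, eη, smul_smul, mul_inv_cancel₀ ht₀, one_smul, one_smul]
    · rw [C.free.invol v hv.1.1, ← hVd]; simp
  have e₁ : V + ω • η = (ω + 1) • (V + s₁ • W) := by
    rw [hη, hs₁]
    match_scalars
    · linear_combination (-1 : F) * (0 : F)
    · linear_combination -t₀ * (ω + 1) * h2 - t₀ * h₀.sq
  have e₂ : V + (ω + 1) • η = ω • (V + s₂ • W) := by
    rw [hη, hs₂]
    match_scalars
    · linear_combination h2
    · linear_combination -t₀ * h₀.sq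
  have mkImg : ∀ {l l' s : F} {k k' : F}, k ≠ 0 → k' ≠ 0 → s ≠ 0 → V + l • η = k • (V + s • W) →
      V + l' • η = k' • (V + g s • W) → Img φ c D vec V η l l' := by
    intro l l' s k k' hk hk' hs e e'
    refine ⟨u s, hum s, e ▸ C.rep_smul (hur s) hk, Ag s, rg s * k'⁻¹, ?_⟩
    rw [hg s hs, e', smul_smul, mul_assoc, inv_mul_cancel₀ hk', mul_one]
  have hY : ∀ {ω' : F} {e f : Fin 3 → (Fin 6 → F)}, Frame H ω' e f → e 0 = ε → e 1 = η → ∀ (y : F) (P : G),
      P ∈ Gam D φ c → Rep vec P (e 1 + y • e 0) → H.h (vec (φ P)) (e 1) = 0 ∧ H.h (vec (φ P)) (e 2) = 0 ∧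
        H.h (vec (φ P)) (f 2) = 0 := by
    intro ω' e f hfr he0 he1 y P hP hPr
    obtain ⟨k, hk, ek⟩ := hPr
    obtain ⟨k₀, hk₀, ek₀⟩ := hur t₀
    rw [← hη] at ek₀
    obtain ⟨p, q, e'⟩ := C.line_img (hum t₀) hP ⟨k⁻¹ * y, k⁻¹ * k₀, by
      calc vec P = k⁻¹ • (k • vec P) := by rw [smul_smul, inv_mul_cancel₀ hk, one_smul]
        _ = k⁻¹ • (η + y • ε) := by rw [← ek, he0, he1]
        _ = _ := by rw [ek₀, hε]; module⟩
    rw [e', hg t₀ ht₀, hfix, ← hη, ← hε, ← he0, ← he1]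
    simp [H.add_left, H.smul_left, hfr.ee, hfr.ef]
  have ηi : H.h η η = 0 := by
    simp [hη, H.add_left, H.add_right, H.smul_left, H.smul_right, iV, iW, hvw, H.eq_zero_symm hvw]
  have Vη : H.h V η = 0 := by simp [hη, H.add_right, H.smul_right, iV, hvw]
  have εη : H.h ε η = 0 := by
    simp [hη, H.add_right, H.smul_right, H.eq_zero_symm oV, H.eq_zero_symm oW]
  have mkFrame : ∀ κ : F, ∃ e f, Frame H ω e f ∧ e 0 = ε ∧ e 1 = η ∧ e 2 = V + κ • η := by
    intro κ
    obtain ⟨f, hf⟩ := C.frame_of h₀ (e := ![ε, η, V + κ • η]) (fun i j => by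
      fin_cases i <;> fin_cases j <;>
        simp [iε, iV, ηi, oV, Vη, εη, H.eq_zero_symm oV, H.eq_zero_symm Vη, H.eq_zero_symm εη, H.add_left,
          H.add_right, H.smul_left, H.smul_right])
      (fun p q r h => by
        simp only [Matrix.cons_val_zero, Matrix.cons_val_one, Matrix.cons_val, hη] at h
        obtain ⟨h1, h3, h4⟩ := li p (q * t₀ + r * κ * t₀) (q + r * κ + r) (by linear_combination (norm := module) h)
        have h5 : r = 0 := by
          have : (q + r * κ) * t₀ = 0 := by linear_combination h3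
          rw [mul_eq_zero, or_iff_left ht₀] at this
          linear_combination h4 - this
        subst h5
        rw [zero_mul, zero_mul, add_zero, mul_eq_zero, or_iff_left ht₀] at h3
        exact ⟨h1, h3, rfl⟩)
    exact ⟨_, f, hf, rfl, rfl, rfl⟩
  rcases htot (g s₁) (hg0 _ hs10) with e | e | e
  · exact hs1t (by rw [← ginv _ hs10, e, hfix])
  · -- three fixed points
    have e' : g s₂ = s₂ := by
      rcases htot (g s₂) (hg0 _ hs20) with e' | e' | e'
      · exact absurd (by rw [← ginv _ hs20, e', hfix]) hs2t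
      · exact absurd (by rw [← ginv _ hs20, e', e]) hs12.symm
      · exact e'
    obtain ⟨ee, ff, hf, he0, he1, he2⟩ := mkFrame ω
    have Iω : Img φ c D vec V η ω ω := mkImg w10 w10 hs10 e₁ (e.symm ▸ e₁)
    have Iω1 : Img φ c D vec V η (ω + 1) (ω + 1) := mkImg ω0 ω0 hs20 e₂ (e'.symm ▸ e₂)
    refine C.no_three hf he0 (fun y P hP hPr => ?_) (fun y P hP hPr => ?_) (fun y P hP hPr => ?_)
      (fun y P hP hPr => hY hf he0 he1 y P hP hPr)
    · have := C.cond_of_img hf he0 he1 he2 (l := 0) (l' := ω) (by rw [add_zero]; exact Iω) y P hP (by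
        rw [zero_smul, add_zero]; exact hPr)
      rwa [show ω + ω = 0 by linear_combination ω * h2] at this
    · have := C.cond_of_img hf he0 he1 he2 (l := 1) (l' := ω + 1) Iω1 y P hP hPr
      rwa [show ω + 1 + ω = 1 by linear_combination ω * h2] at this
    · have := C.cond_of_img hf he0 he1 he2 (l := ω) (l' := 1)
        (by rw [show ω + ω = 0 by linear_combination ω * h2]; exact I0) y P hP hPr
      rwa [show 1 + ω = ω + 1 from add_comm _ _] at this
  · -- one fixed point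
    have e' : g s₂ = s₁ := by rw [← e, ginv _ hs10]
    obtain ⟨ee, ff, hf, he0, he1, he2⟩ := mkFrame 0
    have Iω : Img φ c D vec V η ω (ω + 1) := mkImg w10 ω0 hs10 e₁ (e.symm ▸ e₂)
    have Iω1 : Img φ c D vec V η (ω + 1) ω := mkImg ω0 w10 hs20 e₂ (e'.symm ▸ e₁)
    have he2' : ee 2 = V + (0 : F) • η := he2
    obtain ⟨k, hk, ek⟩ := hur t₀
    have hN : Rep vec (u t₀) (ee 1) := ⟨k, hk, by rw [he1, hη, ek]⟩
    obtain ⟨n1, n2, n3⟩ := hY hf he0 he1 0 _ (hum t₀) (by rw [zero_smul, add_zero]; exact hN)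
    refine C.no_single hf he0 (hum t₀) hN n1 n2 n3 fun t P hP hPr => ?_
    have hI : Img φ c D vec V η (0 + t) (t + 1) := by
      rw [zero_add]
      rcases h₀.elems t with rfl | rfl | rfl | rfl
      · rw [zero_add]; exact I0
      · rw [show (1 : F) + 1 = 0 by linear_combination h2]; exact I1
      · exact Iω
      · rw [show ω + 1 + 1 = ω by linear_combination h2]; exact Iω1
    have := C.cond_of_img hf he0 he1 he2' hI 0 P hP (by rw [zero_smul, add_zero]; exact hPr)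
    rwa [add_zero] at this

end Ctx

namespace M22

/-- No free map of a class of type M(22). -/
theorem no_free [Finite G] (h : M22 D) (φ : G → G) (hφ : FreeMap D φ) : False := by
  classical
  obtain ⟨c, hc, -⟩ := h.type.2
  obtain ⟨F, _, _, H, π, vec, hM⟩ := h.exists_model hc
  have C : Ctx D φ c H π vec := ⟨h, hφ, hc, hM⟩
  have hS := hM.six
  have hpc := C.img_perp
  -- every hexad over a pair is fixed
  have hline : ∀ u ∈ D, ∀ w ∈ perp D u ∩ perp D (φ u), φ w ∈ tperp D u (φ u) w := by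
    intro u hu w hw
    obtain ⟨F', _, _, H', π', vec', hM'⟩ := h.exists_model hu
    exact (⟨h, hφ, hu, hM'⟩ : Ctx D φ u H' π' vec').line_fixed hw
  obtain ⟨ω, e₀, f₀, h₀⟩ := hS.exists_frame hM.four
  -- a base
  obtain ⟨p, hp⟩ : (Gam D φ c).Nonempty := by
    refine Set.nonempty_of_ncard_ne_zero ?_
    have := h.ncard_one hc hpc
    intro h0
    have e : {y : G | y ∈ perp D c ∧ Commute y (φ c)} ⊆ insert (φ c) (Gam D φ c) := fun y hy => by
      by_cases e : y = φ c
      · exact Or.inl e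
      · exact Or.inr ⟨hy.1, hy.1.1, e, hy.2.symm⟩
    have := (Set.ncard_le_ncard e (Set.toFinite _)).trans (Set.ncard_insert_le _ _)
    omega
  have hcp : Commute (φ c) p := hp.2.2.2
  obtain ⟨y, hy, hyl⟩ : ∃ y, (y ∈ perp D c ∧ Commute y (φ c) ∧ Commute y p) ∧ y ∉ tperp D c (φ c) p := by
    by_contra hno
    push Not at hno
    have h53 := h.ncard_two hc hpc hp.1 hp.2.2.1.symm hcp
    have := Set.ncard_le_ncard (s := {z : G | z ∈ perp D c ∧ Commute z (φ c) ∧ Commute z p}) (fun z hz => hno z hz)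
      (Set.toFinite (tperp D c (φ c) p))
    rw [h.ncard_tperp ⟨hc, hpc.1, hp.1.1, hpc.2.1.symm, hp.1.2.1.symm, hp.2.2.1.symm, hpc.2.2, hp.1.2.2, hcp⟩,
      h53] at this
    omega
  have hy2 : y ∈ Gam D φ c := ⟨hy.1, hy.1.1, fun e => hyl (by rw [e]; exact ⟨hpc.1, fun _ _ _ h _ => h⟩), hy.2.1.symm⟩
  have hnl : ∀ a b : F, vec y ≠ a • vec (φ c) + b • vec p := fun a b e => hyl ((C.line_iff hp hy2).2 ⟨a, b, e⟩)
  obtain ⟨f, hf⟩ := C.frame_of h₀ (e := ![vec (φ c), vec p, vec y]) (fun i j => by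
    fin_cases i <;> fin_cases j <;>
      simp [hM.vec_iso _ hpc, hM.vec_iso _ hp.1, hM.vec_iso _ hy2.1, C.gam_ortho hp, C.gam_ortho hy2,
        H.eq_zero_symm (C.gam_ortho hp), H.eq_zero_symm (C.gam_ortho hy2),
        (C.rep_comm hy2.1 hp.1 C.rep_self C.rep_self).1 hy.2.2,
        H.eq_zero_symm ((C.rep_comm hy2.1 hp.1 C.rep_self C.rep_self).1 hy.2.2)])
    (fun a b r e => by
      simp only [Matrix.cons_val_zero, Matrix.cons_val_one, Matrix.cons_val] at e
      by_cases hr : r = 0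
      · subst hr
        rw [zero_smul, add_zero] at e
        by_cases hb : b = 0
        · subst hb
          rw [zero_smul, add_zero, smul_eq_zero, or_iff_left (hM.vec_ne _ hpc)] at e
          exact ⟨e, rfl, rfl⟩
        · refine absurd ?_ (C.gam_indep hp (-(b⁻¹ * a)))
          calc vec p = b⁻¹ • (b • vec p) := by rw [smul_smul, inv_mul_cancel₀ hb, one_smul]
            _ = _ := by rw [eq_neg_of_add_eq_zero_right e]; module
      · refine absurd ?_ (hnl (-(r⁻¹ * a)) (-(r⁻¹ * b)))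
        calc vec y = r⁻¹ • (r • vec y) := by rw [smul_smul, inv_mul_cancel₀ hr, one_smul]
          _ = _ := by rw [eq_neg_of_add_eq_zero_right e]; module)
  set e := ![vec (φ c), vec p, vec y] with he
  let B : Finset G := (mem' D).filter fun w => Commute w c ∧ Commute w (φ c) ∧ Commute w p ∧ Commute w y
  have memB : ∀ {w}, w ∈ B ↔ w ∈ D ∧ Commute w c ∧ Commute w (φ c) ∧ Commute w p ∧ Commute w y := by
    intro w; simp [B, mem_mem']
  have hperp : {w | w ∈ perp D c ∧ Commute w (φ c) ∧ Commute w p ∧ Commute w y} =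
      {w | w ∈ perp D c ∧ ∀ i, H.h (vec w) (e i) = 0} := by
    ext w
    refine and_congr_right fun hw => ?_
    rw [hM.comm_iff h hc hw hpc, hM.comm_iff h hc hw hp.1, hM.comm_iff h hc hw hy2.1]
    constructor
    · intro h' i; fin_cases i <;> simp [he, h'.1, h'.2.1, h'.2.2]
    · intro h'
      exact ⟨by simpa [he] using h' 0, by simpa [he] using h' 1, by simpa [he] using h' 2⟩
  have hcl : ∀ w w' : G, w ∈ perp D c → w' ∈ perp D c → (∀ i, H.h (vec w) (e i) = 0) →
      (∀ i, H.h (vec w') (e i) = 0) → Commute w w' := by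
    intro w w' hw hw' h1 h1'
    rw [hM.comm_iff h hc hw hw', hf.mem_span3 hS h1]
    simp [H.add_left, H.smul_left, H.eq_zero_symm (h1' 0), H.eq_zero_symm (h1' 1), H.eq_zero_symm (h1' 2)]
  have h21 : {w | w ∈ perp D c ∧ ∀ i, H.h (vec w) (e i) = 0}.ncard = 21 := by
    have hP := hM.card_points h hc (fun V => ∀ i, H.h V (e i) = 0) (fun a V ha => by
      simp only [H.smul_left, mul_eq_zero, ha, false_or]) (fun i => H.zero_left _)
    have hT : {V | H.h V V = 0 ∧ ∀ i, H.h V (e i) = 0} =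
        (fun t : F × F × F => t.1 • e 0 + t.2.1 • e 1 + t.2.2 • e 2) '' Set.univ := by
      ext V
      constructor
      · rintro ⟨-, hV⟩
        exact ⟨(_, _, _), trivial, (hf.mem_span3 hS hV).symm⟩
      · rintro ⟨⟨a, b, r⟩, -, rfl⟩
        exact ⟨by simp [H.add_left, H.add_right, H.smul_left, H.smul_right, hf.ee],
          fun i => by simp [H.add_left, H.smul_left, hf.ee]⟩
    have hinj : Function.Injective fun t : F × F × F => t.1 • e 0 + t.2.1 • e 1 + t.2.2 • e 2 := by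
      intro t t' ht
      have k : ∀ i, H.h (t.1 • e 0 + t.2.1 • e 1 + t.2.2 • e 2) (f i) =
          H.h (t'.1 • e 0 + t'.2.1 • e 1 + t'.2.2 • e 2) (f i) := fun i => congrArg (fun V => H.h V (f i)) ht
      have k0 := k 0; have k1 := k 1; have k2 := k 2
      simp [H.add_left, H.smul_left, hf.ef] at k0 k1 k2
      exact Prod.ext k0 (Prod.ext k1 k2)
    rw [hT, Set.ncard_image_of_injective _ hinj, Set.ncard_univ, Nat.card_prod, Nat.card_prod, hM.four] at hP
    omega
  have hB : B.card = 22 := by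
    have e' : (B : Set G) = insert c {w | w ∈ perp D c ∧ Commute w (φ c) ∧ Commute w p ∧ Commute w y} := by
      ext w
      simp only [Finset.mem_coe, memB, Set.mem_insert_iff, Set.mem_ofPred_eq]
      constructor
      · rintro ⟨hw, h1, h2⟩
        by_cases e : w = c
        · exact Or.inl e
        · exact Or.inr ⟨⟨hw, e, h1.symm⟩, h2⟩
      · rintro (rfl | ⟨hw, h2⟩)
        · exact ⟨hc, Commute.refl _, hpc.2.2, hp.1.2.2, hy.1.2.2⟩
        · exact ⟨hw.1, hw.2.2.symm, h2⟩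
    rw [← Set.ncard_coe_finset, e', Set.ncard_insert_of_notMem (fun hh => hh.1.2.1 rfl) (Set.toFinite _), hperp, h21]
  have hBc : ∀ w ∈ B, ∀ w' ∈ B, Commute w w' := by
    intro w hw w' hw'
    rw [memB] at hw hw'
    by_cases e1 : w = c
    · rw [e1]; exact hw'.2.1.symm
    by_cases e2 : w' = c
    · rw [e2]; exact hw.2.1
    have k1 : w ∈ {w | w ∈ perp D c ∧ Commute w (φ c) ∧ Commute w p ∧ Commute w y} :=
      ⟨⟨hw.1, e1, hw.2.1.symm⟩, hw.2.2⟩
    have k2 : w' ∈ {w | w ∈ perp D c ∧ Commute w (φ c) ∧ Commute w p ∧ Commute w y} :=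
      ⟨⟨hw'.1, e2, hw'.2.1.symm⟩, hw'.2.2⟩
    rw [hperp] at k1 k2
    exact hcl w w' k1.1 k2.1 k1.2 k2.2
  have hBφ : ∀ w ∈ B, φ w ∈ B := by
    intro w hw
    rw [memB] at hw ⊢
    obtain ⟨hwD, h1, h2, h3, h4⟩ := hw
    refine ⟨hφ.mem w hwD, ?_, hφ.comm w hwD c hc h1, ?_, ?_⟩
    · have := hφ.comm w hwD _ hpc.1 h2
      rwa [hφ.invol c hc] at this
    · have := hφ.comm w hwD _ (hφ.mem p hp.1.1) ((C.line_fixed hp).2 w hwD h1 h2 h3)
      rwa [hφ.invol p hp.1.1] at this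
    · have := hφ.comm w hwD _ (hφ.mem y hy.1.1) ((C.line_fixed hy2).2 w hwD h1 h2 h4)
      rwa [hφ.invol y hy.1.1] at this
  have hBT : ∀ {a b d w : G}, a ∈ B → b ∈ B → d ∈ B → w ∈ tperp D a b d → w ∈ B := by
    intro a b d w ha hb hd hw
    have key : ∀ z ∈ D, (∀ m ∈ B, Commute m z) → Commute w z := fun z hz hm =>
      (hw.2 z hz (hm a ha).symm (hm b hb).symm (hm d hd).symm).symm
    rw [memB]
    refine ⟨hw.1, key c hc fun m hm => (memB.1 hm).2.1, key _ hpc.1 fun m hm => (memB.1 hm).2.2.1,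
      key p hp.1.1 fun m hm => (memB.1 hm).2.2.2.1, key y hy.1.1 fun m hm => (memB.1 hm).2.2.2.2⟩
  let S : Finset (Σ _ : G, G) := B.sigma fun u => (B.erase u).erase (φ u)
  let T : (Σ _ : G, G) → Finset G := fun x => (mem' D).filter fun w => w ∈ tperp D x.1 (φ x.1) x.2
  have memS : ∀ {x : Σ _ : G, G}, x ∈ S ↔ x.1 ∈ B ∧ x.2 ∈ B ∧ x.2 ≠ x.1 ∧ x.2 ≠ φ x.1 := by
    intro x; simp only [S, Finset.mem_sigma, Finset.mem_erase]; tauto
  have memT : ∀ {x : Σ _ : G, G} {w}, w ∈ T x ↔ w ∈ tperp D x.1 (φ x.1) x.2 := by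
    intro x w
    simp only [T, Finset.mem_filter, mem_mem']
    exact ⟨fun h => h.2, fun h => ⟨h.1, h⟩⟩
  have hD : ∀ {u}, u ∈ B → u ∈ D := fun hu => (memB.1 hu).1
  have hSl : ∀ {x}, x ∈ S → CList' D x.1 (φ x.1) x.2 := fun {x} hx => by
    obtain ⟨h1, h2, h3, h4⟩ := memS.1 hx
    exact ⟨hD h1, hφ.mem _ (hD h1), hD h2, (hφ.ne _ (hD h1)).symm, h3.symm, h4.symm, hφ.adj _ (hD h1),
      hBc _ h1 _ h2, hBc _ (hBφ _ h1) _ h2⟩
  have h440 : S.card = 440 := by
    rw [Finset.card_sigma, Finset.sum_const_nat (m := 20) fun u hu => ?_, hB]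
    rw [Finset.card_erase_of_mem (Finset.mem_erase.2 ⟨hφ.ne u (hD hu), hBφ u hu⟩), Finset.card_erase_of_mem hu, hB]
  have hfib : ∀ t ∈ S.image T, (S.filter fun x => T x = t).card = 24 := by
    intro t ht
    obtain ⟨x, hx, rfl⟩ := Finset.mem_image.1 ht
    have hl := hSl hx
    obtain ⟨h1, h2, h3, h4⟩ := memS.1 hx
    have hTB : ∀ w ∈ T x, w ∈ B := fun w hw => hBT h1 (hBφ _ h1) h2 (memT.1 hw)
    have h6 : (T x).card = 6 := by
      rw [← h.ncard_tperp hl, ← Set.ncard_coe_finset]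
      congr 1
      ext w
      exact memT
    have hTφ : ∀ w ∈ T x, φ w ∈ T x := by
      intro w hw
      have k := hφ.map_tperp hl.ha hl.hb hl.hc (memT.1 hw)
      rw [hφ.invol _ hl.ha, tperp_swap] at k
      refine memT.2 ⟨k.1, fun z hz g1 g2 g3 => k.2 z hz g1 g2 ?_⟩
      exact (hline _ hl.ha x.2 ⟨⟨hl.hc, h3, hl.cac⟩, hl.hc, h4, hl.cbc⟩).2 z hz g1 g2 g3
    have heq : S.filter (fun z => T z = T x) = (T x).sigma fun u => ((T x).erase u).erase (φ u) := by
      ext z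
      simp only [Finset.mem_filter, Finset.mem_sigma, Finset.mem_erase]
      constructor
      · rintro ⟨hz, e⟩
        obtain ⟨g1, g2, g3, g4⟩ := memS.1 hz
        refine ⟨e ▸ memT.2 ⟨hD g1, fun _ _ h _ _ => h⟩, g4, g3, e ▸ memT.2 ⟨hD g2, fun _ _ _ _ h => h⟩⟩
      · rintro ⟨g1, g4, g3, g2⟩
        refine ⟨memS.2 ⟨hTB _ g1, hTB _ g2, g3, g4⟩, ?_⟩
        ext w
        rw [memT, memT, h.tperp_closed hl (memT.1 g1) (memT.1 (hTφ _ g1)) (memT.1 g2) (hφ.ne _ (hD (hTB _ g1))).symm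
          g3.symm g4.symm]
    rw [heq, Finset.card_sigma, Finset.sum_const_nat (m := 4) fun u hu => ?_, h6]
    rw [Finset.card_erase_of_mem (Finset.mem_erase.2 ⟨hφ.ne u (hD (hTB u hu)), hTφ u hu⟩),
      Finset.card_erase_of_mem hu, h6]
  have := Finset.card_eq_sum_card_fiberwise (s := S) (t := S.image T) (f := T)
    fun x hx => Finset.mem_image_of_mem T hx
  rw [h440, Finset.sum_const_nat hfib] at this
  omega

end M22

end Cfsg.Lib.ThreeTr
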