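import Cfsg.Agent.ThreeTransposition.M24Count.FixedFree
import Cfsg.Agent.ThreeTransposition.M24Count.M24
import Cfsg.Agent.ThreeTransposition.M23Count.Involutions

/-!
In a class of type M(24) every element of square one commutes with some member.
-/

set_option autoImplicit false
set_option linter.unusedSectionVars false
set_option linter.style.haveILetI false

namespace Cfsg.Lib.ThreeTr

open Cfsg Subgroup

attribute [local instance] _root_.Classical.propDecidable

universe u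

variable {G : Type u} [Group G] {D : Set G}

/-- The image of an element in the descended group, one outside the group generated by the neighbours. -/
noncomputable def descMap (D : Set G) (d z : G) : ↥(closure (perp D d)) ⧸ center ↥(closure (perp D d)) :=
  if hz : z ∈ closure (perp D d) then QuotientGroup.mk ⟨z, hz⟩ else 1

theorem descMap_eq {d z : G} (hz : z ∈ closure (perp D d)) :
    descMap D d z = QuotientGroup.mk (⟨z, hz⟩ : ↥(closure (perp D d))) := dif_pos hz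

section

variable [Finite G] (hcls : IsThreeTranspositionClass D) (hT : TwinFree D) {d : G} (hd : d ∈ D)
include hcls hT hd

theorem descMap_facts : (∀ z ∈ perp D d, descMap D d z ∈ descSet D d) ∧
    (∀ q ∈ descSet D d, ∃ z ∈ perp D d, descMap D d z = q) ∧
    (∀ z ∈ perp D d, ∀ z' ∈ perp D d, descMap D d z = descMap D d z' → z = z') ∧
    (∀ z ∈ perp D d, ∀ z' ∈ perp D d, (Commute (descMap D d z) (descMap D d z') ↔ Commute z z')) := by
  refine ⟨fun z hz => ?_, ?_, fun z hz z' hz' e => ?_, fun z hz z' hz' => ?_⟩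
  · rw [descMap_eq (subset_closure hz)]
    exact ⟨_, hz, rfl⟩
  · rintro _ ⟨Z, hZ, rfl⟩
    exact ⟨Z, hZ, descMap_eq (subset_closure hZ)⟩
  · rw [descMap_eq (subset_closure hz), descMap_eq (subset_closure hz')] at e
    exact desc_mk_inj hcls hT hd (x := ⟨z, subset_closure hz⟩) (y := ⟨z', subset_closure hz'⟩) hz hz' e
  · rw [descMap_eq (subset_closure hz), descMap_eq (subset_closure hz')]
    exact desc_commute_iff hcls hT hd (x := ⟨z, subset_closure hz⟩) (y := ⟨z', subset_closure hz'⟩) hz hz'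

end

/-- A map carrying a set onto a class of type M(22) keeping commutation turns a free involution of the set into a free
map. -/
theorem M22.no_free_of_map {Q : Type u} [Group Q] [Finite Q] {E : Set Q} (h : M22 E) (S : Set G) (ι : G → Q)
    (hι : ∀ z ∈ S, ι z ∈ E) (hsurj : ∀ q ∈ E, ∃ z ∈ S, ι z = q) (hinj : ∀ z ∈ S, ∀ z' ∈ S, ι z = ι z' → z = z')
    (hcomm : ∀ z ∈ S, ∀ z' ∈ S, (Commute (ι z) (ι z') ↔ Commute z z')) (ψ : G → G) (hψ : ∀ z ∈ S, ψ z ∈ S)
    (hinv : ∀ z ∈ S, ψ (ψ z) = z) (hne : ∀ z ∈ S, ψ z ≠ z) (hadj : ∀ z ∈ S, Commute z (ψ z))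
    (hhom : ∀ z ∈ S, ∀ z' ∈ S, Commute z z' → Commute (ψ z) (ψ z')) : False := by
  choose! ρ hρ hρι using hsurj
  have hback : ∀ z ∈ S, ρ (ι z) = z := fun z hz => hinj _ (hρ _ (hι z hz)) z hz (hρι _ (hι z hz))
  refine h.no_free (fun q => ι (ψ (ρ q))) ⟨fun q hq => hι _ (hψ _ (hρ q hq)), fun q hq => ?_, fun q hq e => ?_,
    fun q hq => ?_, fun q hq q' hq' e => ?_⟩
  · show ι (ψ (ρ (ι (ψ (ρ q))))) = q
    rw [hback _ (hψ _ (hρ q hq)), hinv _ (hρ q hq), hρι q hq]
  · exact hne _ (hρ q hq) (hinj _ (hψ _ (hρ q hq)) _ (hρ q hq) (e.trans (hρι q hq).symm))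
  · have := (hcomm _ (hρ q hq) _ (hψ _ (hρ q hq))).2 (hadj _ (hρ q hq))
    rwa [hρι q hq] at this
  · rw [← hρι q hq, ← hρι q' hq'] at e
    exact (hcomm _ (hψ _ (hρ q hq)) _ (hψ _ (hρ q' hq'))).2
      (hhom _ (hρ q hq) _ (hρ q' hq') ((hcomm _ (hρ q hq) _ (hρ q' hq')).1 e))

namespace M24

variable [Finite G] (h : M24 D)
include h

/-- An element of square one fixes some member. -/
theorem exists_fixed {x : G} (hx : x * x = 1) : ∃ p ∈ D, Commute x p := by
  by_contra hno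
  push Not at hno
  have hE := h.cls.1
  have hT := h.solid.full.tower.twin
  have hxi : x⁻¹ = x := inv_eq_of_mul_eq_one_right hx
  -- members commute with their images
  have adj : ∀ a ∈ D, Commute a (x * a * x⁻¹) := by
    intro a ha
    by_contra hc
    have hb := conj_mem h.cls x ha
    have ht : a * (x * a * x⁻¹) * a ∈ D := by
      have := conj_mem h.cls a hb
      rwa [inv_eq hE ha] at this
    refine hno _ ht (mul_inv_eq_iff_eq_mul.1 ?_)
    calc x * (a * (x * a * x⁻¹) * a) * x⁻¹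
        = (x * a * x⁻¹) * ((x * x) * a * (x * x)⁻¹) * (x * a * x⁻¹) := by group
      _ = (x * a * x⁻¹) * a * (x * a * x⁻¹) := by rw [hx]; simp
      _ = a * (x * a * x⁻¹) * a := (braid hE ha hb hc).symm
  have move : ∀ a ∈ D, x * a * x⁻¹ ≠ a := fun a ha e => hno a ha (mul_inv_eq_iff_eq_mul.1 e)
  obtain ⟨d, hd, hQ, -⟩ := h.descended
  obtain ⟨q, hq, hQ2⟩ := hQ.descended
  obtain ⟨ι1, ι1S, ι1i, ι1c⟩ := descMap_facts h.cls hT hd
  obtain ⟨ι2, ι2S, ι2i, ι2c⟩ := descMap_facts hQ.cls hQ.twin hq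
  -- move the image of `d` over `q`
  have hbp : x * d * x⁻¹ ∈ perp D d := ⟨conj_mem h.cls x hd, move d hd, adj d hd⟩
  obtain ⟨γ, hγ⟩ := exists_conj hQ.cls (ι1 _ hbp) hq
  obtain ⟨g, rfl⟩ := QuotientGroup.mk_surjective γ
  have hgd : (g : G) * d * (g : G)⁻¹ = d := by
    rw [(closure_perp_commute g.2).eq, mul_inv_cancel_right]
  set y := (g : G) * x * (g : G)⁻¹ with hy
  have hyy : y * y = 1 := by
    rw [hy, show (g : G) * x * (g : G)⁻¹ * ((g : G) * x * (g : G)⁻¹) = (g : G) * (x * x) * (g : G)⁻¹ by group, hx]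
    group
  have hyconj : ∀ z : G, y * z * y⁻¹ = (g : G) * (x * ((g : G)⁻¹ * z * (g : G)) * x⁻¹) * (g : G)⁻¹ := fun z => by
    rw [hy]; group
  have hback : ∀ a ∈ D, (g : G)⁻¹ * a * (g : G) ∈ D := fun a ha => by simpa using conj_mem h.cls (g : G)⁻¹ ha
  have ymove : ∀ a ∈ D, y * a * y⁻¹ ≠ a := fun a ha e => move _ (hback a ha) (by
    rw [hyconj] at e
    calc x * ((g : G)⁻¹ * a * (g : G)) * x⁻¹
        = (g : G)⁻¹ * ((g : G) * (x * ((g : G)⁻¹ * a * (g : G)) * x⁻¹) * (g : G)⁻¹) * (g : G) := by group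
      _ = _ := by rw [e])
  have yadj : ∀ a ∈ D, Commute a (y * a * y⁻¹) := fun a ha => by
    have := (conj_commute_iff (g : G) _ _).2 (adj _ (hback a ha))
    rwa [show (g : G) * ((g : G)⁻¹ * a * (g : G)) * (g : G)⁻¹ = a by group, ← hyconj] at this
  set b := y * d * y⁻¹ with hb
  have hbd : b ∈ perp D d := ⟨conj_mem h.cls y hd, ymove d hd, yadj d hd⟩
  have hqb : descMap D d b = q := by
    have e1 : (g : G)⁻¹ * d * (g : G) = d := by
      calc (g : G)⁻¹ * d * (g : G) = (g : G)⁻¹ * ((g : G) * d * (g : G)⁻¹) * (g : G) := by rw [hgd]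
        _ = d := by group
    rw [descMap_eq (subset_closure hbd), ← hγ, descMap_eq (subset_closure hbp), ← QuotientGroup.mk_inv,
      ← QuotientGroup.mk_mul, ← QuotientGroup.mk_mul]
    congr 1
    refine Subtype.ext ?_
    show b = (g : G) * (x * d * x⁻¹) * (g : G)⁻¹
    rw [hb, hyconj, e1]
  have hb' : y * b * y⁻¹ = d := by
    rw [hb, show y * (y * d * y⁻¹) * y⁻¹ = (y * y) * d * (y * y)⁻¹ by group, hyy]; simp
  set S := perp D d ∩ perp D b with hS
  have ι1S' : ∀ z ∈ S, descMap D d z ∈ perp (descSet D d) q := fun z hz =>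
    ⟨ι1 z hz.1, fun e => hz.2.2.1 (ι1i z hz.1 b hbd (e.trans hqb.symm)), by
      rw [← hqb]; exact (ι1c b hbd z hz.1).2 hz.2.2.2⟩
  refine hQ2.no_free_of_map S (fun z => descMap (descSet D d) q (descMap D d z))
    (fun z hz => ι2 _ (ι1S' z hz)) (fun r hr => ?_) (fun z hz z' hz' e => ?_) (fun z hz z' hz' => ?_)
    (fun z => y * z * y⁻¹) (fun z hz => ?_) (fun z hz => ?_) (fun z hz => ymove z hz.1.1)
    (fun z hz => yadj z hz.1.1) (fun z hz z' hz' e => (conj_commute_iff y z z').2 e)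
  · obtain ⟨u, hu, rfl⟩ := ι2S r hr
    obtain ⟨z, hz, rfl⟩ := ι1S u hu.1
    refine ⟨z, ⟨hz, hz.1, fun e => hu.2.1 (by rw [e, hqb]), ?_⟩, rfl⟩
    have := hu.2.2
    rw [← hqb] at this
    exact (ι1c b hbd z hz).1 this
  · exact ι1i z hz.1 z' hz'.1 (ι2i _ (ι1S' z hz) _ (ι1S' z' hz') e)
  · exact (ι2c _ (ι1S' z hz) _ (ι1S' z' hz')).trans (ι1c z hz.1 z' hz'.1)
  · have k1 : y * z * y⁻¹ ∈ perp D b := by
      rw [hb, ← conj_image_perp h.cls y d]; exact ⟨z, hz.1, rfl⟩
    have k2 : y * z * y⁻¹ ∈ perp D d := by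
      rw [← hb', ← conj_image_perp h.cls y b]; exact ⟨z, hz.2, rfl⟩
    exact ⟨k2, k1⟩
  · show y * (y * z * y⁻¹) * y⁻¹ = z
    rw [show y * (y * z * y⁻¹) * y⁻¹ = (y * y) * z * (y * y)⁻¹ by group, hyy]; simp

end M24

end Cfsg.Lib.ThreeTr
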