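import Cfsg.Agent.ThreeTransposition.M24Count.TripleModel

/-!
The members commuting with three members of a class of type M(24): conjugation, and the values of the products
coming from lines and planes of the hermitian space.
-/

set_option autoImplicit false
set_option linter.unusedSectionVars false
set_option linter.style.haveILetI false

namespace Cfsg.Lib.ThreeTr

open Cfsg Subgroup Cfsg.Lib.Classical

attribute [local instance] _root_.Classical.propDecidable

universe u

variable {G : Type u} [Group G] {D : Set G}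

/-- A class without short relations. -/
structure Short (D : Set G) : Prop where
  cls : IsThreeTranspositionClass D
  twin : TwinFree D
  five : NoRel D 5
  six : NoRel D 6
  seven : NoRel D 7

theorem M24.short [Finite G] (h : M24 D) : Short D := by
  obtain ⟨d, hd, hQ, -⟩ := h.descended
  obtain ⟨q, hq, hQ2⟩ := hQ.descended
  exact ⟨h.cls, h.solid.full.tower.twin,
    noRel_succ h.cls h.solid.full.tower.twin hd (four_noRel hQ.cls.1 hQ.solid.full.tower.twin),
    noRel_succ h.cls h.solid.full.tower.twin hd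
      (noRel_succ hQ.cls hQ.solid.full.tower.twin hq (four_noRel hQ2.cls.1 hQ2.twin)),
    noRel_succ h.cls h.solid.full.tower.twin hd hQ.noRel_six⟩

/-- The square of a product of commuting involutions. -/
theorem prod_mul_prod_eq_one : ∀ (l : List G), (∀ a ∈ l, a * a = 1) → (∀ a ∈ l, ∀ b ∈ l, Commute a b) →
    l.prod * l.prod = 1
  | [], _, _ => by simp
  | a :: l, h2, hc => by
    have hl := prod_mul_prod_eq_one l (fun b hb => h2 b (by simp [hb])) fun b hb c hc' => hc b (by simp [hb]) c (by simp [hc'])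
    have hal : Commute a l.prod := Commute.list_prod_right _ _ fun b hb => hc a (by simp) b (by simp [hb])
    rw [List.prod_cons]
    calc a * l.prod * (a * l.prod) = a * (l.prod * a) * l.prod := by simp only [mul_assoc]
      _ = (a * a) * (l.prod * l.prod) := by rw [← hal.eq]; simp only [mul_assoc]
      _ = 1 := by rw [h2 a (by simp), hl, mul_one]

namespace TripleModel

variable {d y z : G} {F : Type} [Field F] {H : HermSpace F (Fin 6 → F)} {Q : Type u} [Group Q]
  {π : H.SIsom →* Q} {φ : ↥(closure (triGen D d y z)) →* Q} {m : (Fin 6 → F) → G}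

section

variable [Finite G] [Finite F] (hM : TripleModel D d y z H π φ m) (hD : Short D)
include hM hD

theorem tri_commute {x : G} (hx : x ∈ triSet D d y z) : Commute d x ∧ Commute y x ∧ Commute z x :=
  ⟨hx.1.1.2.2, hx.1.2.2.2, hx.2.2.2⟩

theorem three_commute : Commute d y ∧ Commute d z ∧ Commute y z :=
  ⟨hM.mem_y.2.2, hM.mem_z.1.2.2, hM.mem_z.2.2.2⟩

theorem closure_commute {k : G} (hk : k ∈ closure (triGen D d y z)) :
    Commute k d ∧ Commute k y ∧ Commute k z := by
  obtain ⟨hdy, hdz, hyz⟩ := hM.three_commute hD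
  have key : ∀ w, (∀ x ∈ triGen D d y z, Commute w x) → Commute k w := fun w hw =>
    (show Commute w k from mem_centralizer_singleton_iff.1 ((closure_le (centralizer ({w} : Set G))).2
      (fun x hx => mem_centralizer_singleton_iff.2 (hw x hx).symm.eq) hk) |>.symm).symm
  refine ⟨key d ?_, key y ?_, key z ?_⟩ <;> rintro x ((rfl | rfl | rfl) | hx)
  all_goals first
    | exact Commute.refl _ | exact hdy | exact hdz | exact hyz | exact hdy.symm | exact hdz.symm | exact hyz.symm
    | exact (hM.tri_commute hD hx).1 | exact (hM.tri_commute hD hx).2.1 | exact (hM.tri_commute hD hx).2.2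

theorem invol : d * d = 1 ∧ y * y = 1 ∧ z * z = 1 :=
  ⟨sq_eq_one hD.cls.1 hM.mem_d, sq_eq_one hD.cls.1 hM.mem_y.1, sq_eq_one hD.cls.1 hM.mem_z.1.1⟩

theorem ne_dy : z ≠ d * y := by
  intro h
  set H0 := closure (perp D d)
  have hy := hM.mem_y
  have hz := hM.mem_z.1
  refine hM.mem_z.2.2.1 (desc_mk_inj hD.cls hD.twin hM.mem_d (x := ⟨z, subset_closure hz⟩)
    (y := ⟨y, subset_closure hy⟩) hz hy (QuotientGroup.eq.2 (mem_center_iff.2 fun g => Subtype.ext ?_)))
  show (g : G) * (z⁻¹ * y) = z⁻¹ * y * g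
  rw [inv_eq hD.cls.1 hz.1, h, mul_assoc, (hM.invol hD).2.1, mul_one]
  exact (closure_perp_commute g.2).eq

theorem eight_nodup : (eight d y z).Nodup := by
  obtain ⟨hdy, hdz, hyz⟩ := hM.three_commute hD
  obtain ⟨dd, yy, zz⟩ := hM.invol hD
  have n1 : d ≠ 1 := fun e => by simpa [e] using hD.cls.1.1 d hM.mem_d
  have n2 : y ≠ 1 := fun e => by simpa [e] using hD.cls.1.1 y hM.mem_y.1
  have n3 : z ≠ 1 := fun e => by simpa [e] using hD.cls.1.1 z hM.mem_z.1.1
  have m1 : y ≠ d := hM.mem_y.2.1
  have m2 : z ≠ d := hM.mem_z.1.2.1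
  have m3 : z ≠ y := hM.mem_z.2.2.1
  have key := hM.ne_dy hD
  have cancel : ∀ {a b c : G}, a * a = 1 → a * b = c → b = a * c := fun ha h => by
    rw [← h, ← mul_assoc, ha, one_mul]
  simp only [eight, List.nodup_cons, List.mem_cons, List.not_mem_nil, or_false, List.nodup_nil, and_true, not_or,
    not_false_eq_true]
  refine ⟨⟨n1.symm, n2.symm, n3.symm, ?_, ?_, ?_, ?_⟩, ⟨m1.symm, m2.symm, ?_, ?_, ?_, ?_⟩,
    ⟨m3.symm, ?_, ?_, ?_, ?_⟩, ⟨?_, ?_, ?_, ?_⟩, ⟨?_, ?_, ?_⟩, ⟨?_, ?_⟩, ?_⟩ <;> intro e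
  · exact m1 ((cancel dd e.symm).trans (mul_one d))
  · exact m2 ((cancel dd e.symm).trans (mul_one d))
  · exact m3 ((cancel yy e.symm).trans (mul_one y))
  · exact key (((cancel (a := d * y) (by
      rw [mul_assoc, ← mul_assoc y d, ← hdy.eq, mul_assoc, yy, mul_one, dd]) e.symm).trans (mul_one _)))
  · exact n2 ((cancel dd e.symm).trans dd)
  · exact n3 ((cancel dd e.symm).trans dd)
  · exact key ((cancel yy e.symm).trans hdy.symm.eq)
  · rw [mul_assoc] at e
    exact m3 ((cancel yy ((cancel dd e.symm).trans dd)).trans (mul_one y))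
  · exact n1 (mul_eq_right.1 e.symm)
  · exact key ((cancel dd e.symm))
  · exact n3 ((cancel yy e.symm).trans yy)
  · rw [hdy.eq, mul_assoc] at e
    exact m2 ((cancel dd ((cancel yy e.symm).trans yy)).trans (mul_one d))
  · exact key e
  · exact n1 (mul_eq_right.1 e.symm)
  · exact n2 (mul_eq_right.1 e.symm)
  · rw [mul_assoc] at e
    have := mul_eq_right.1 ((mul_assoc d y z).trans e.symm)
    exact m1 ((cancel dd this).trans (mul_one d))
  · exact m3 (mul_left_cancel e).symm
  · rw [hyz.eq] at e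
    exact m2 (mul_right_cancel e).symm
  · exact n3 (mul_eq_left.1 e.symm)
  · exact m1 (mul_right_cancel e).symm
  · rw [mul_assoc, hyz.eq, ← mul_assoc] at e
    exact n2 (mul_eq_left.1 e.symm)
  · rw [mul_assoc] at e
    exact n1 (mul_eq_right.1 e.symm)

theorem mem_K {x : G} (hx : x ∈ triSet D d y z) : x ∈ closure (triGen D d y z) := subset_closure (Or.inr hx)

/-- An element of `G` lifts to an isometry. -/
def Im (_hM : TripleModel D d y z H π φ m) (g : G) (L : H.SIsom) : Prop :=
  ∃ hg : g ∈ closure (triGen D d y z), φ ⟨g, hg⟩ = π L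

theorem im_one : hM.Im 1 1 := ⟨one_mem _, (map_one φ).trans (map_one π).symm⟩

theorem im_mul {g g' : G} {L L' : H.SIsom} (h : hM.Im g L) (h' : hM.Im g' L') : hM.Im (g * g') (L * L') :=
  ⟨mul_mem h.1 h'.1, by rw [map_mul π, ← h.2, ← h'.2, ← map_mul]; rfl⟩

theorem im_triv {g : G} (hg : g = d ∨ g = y ∨ g = z) : hM.Im g 1 := by
  have hm : g ∈ closure (triGen D d y z) := subset_closure (Or.inl (by rcases hg with rfl | rfl | rfl <;> simp))
  exact ⟨hm, (hM.trivial ⟨g, hm⟩ hg).trans (map_one π).symm⟩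

theorem im_m {v : Fin 6 → F} (h0 : v ≠ 0) (hv : H.h v v = 0) : hM.Im (m v) (hM.six.tr v) :=
  ⟨hM.mem_K hD (hM.mem v h0 hv), by rw [hM.six.tr_eq hv]; exact hM.img v h0 hv _ rfl⟩

theorem eq_of_im {x : G} (hx : x ∈ triSet D d y z) {v : Fin 6 → F} (h0 : v ≠ 0) (hv : H.h v v = 0)
    (h : hM.Im x (hM.six.tr v)) : x = m v := by
  have := hM.inj ⟨x, h.1⟩ ⟨m v, (hM.im_m hD h0 hv).1⟩ hx (hM.mem v h0 hv) (h.2.trans (hM.im_m hD h0 hv).2.symm)
  exact congrArg Subtype.val this

theorem m_smul {v : Fin 6 → F} (h0 : v ≠ 0) (hv : H.h v v = 0) {c : F} (hc : c ≠ 0) : m (c • v) = m v := by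
  have hcv : H.h (c • v) (c • v) = 0 := by rw [H.smul_left, H.smul_right, hv, mul_zero, mul_zero]
  refine hM.eq_of_im hD (hM.mem _ (smul_ne_zero hc h0) hcv) h0 hv ?_
  have := hM.im_m hD (smul_ne_zero hc h0) hcv
  rwa [hM.six.tr_eq hcv, hM.six.tv_smul hv hc hcv, ← hM.six.tr_eq hv] at this

/-- Members at vectors separated by a functional differ. -/
theorem m_ne {v w : Fin 6 → F} (v0 : v ≠ 0) (hv : H.h v v = 0) (w0 : w ≠ 0) (hw : H.h w w = 0) {u : Fin 6 → F}
    (h1 : H.h v u = 0) (h2 : H.h w u ≠ 0) : m v ≠ m w := by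
  intro e
  have a := hM.im_m hD v0 hv
  have b := hM.im_m hD w0 hw
  have e' : π (hM.six.tv hv) = π (hM.six.tv hw) := by
    rw [← hM.six.tr_eq hv, ← hM.six.tr_eq hw, ← a.2, ← b.2]
    exact congrArg φ (Subtype.ext e)
  obtain ⟨t, ht, rfl⟩ := (hM.six.tv_image_eq_iff π hM.ker hv hw v0).1 e'
  rw [H.smul_left] at h1
  exact h2 ((mul_eq_zero.1 h1).resolve_left ht)

/-- Conjugation moves members as the isometry moves vectors. -/
theorem conj_m {g : G} {L : H.SIsom} (h : hM.Im g L) {v : Fin 6 → F} (v0 : v ≠ 0) (hv : H.h v v = 0) :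
    g * m v * g⁻¹ = m (L.1.1 v) := by
  have hx := hM.mem v v0 hv
  obtain ⟨c1, c2, c3⟩ := hM.closure_commute hD h.1
  have fix : ∀ w, Commute g w → g * w * g⁻¹ = w := fun w hw => by rw [hw.eq, mul_inv_cancel_right]
  have hS : g * m v * g⁻¹ ∈ triSet D d y z := by
    have hmv := conj_mem hD.cls g hx.1.1.1
    have key : ∀ w, Commute g w → m v ∈ perp D w → g * m v * g⁻¹ ∈ perp D w := fun w hw hp => by
      rw [← fix w hw, ← conj_image_perp hD.cls g w]
      exact ⟨m v, hp, rfl⟩
    exact ⟨⟨key d c1 hx.1.1, key y c2 hx.1.2⟩, key z c3 hx.2⟩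
  have hLv : H.h (L.1.1 v) (L.1.1 v) = 0 := (H.map_form L.1 v v).trans hv
  refine hM.eq_of_im hD hS (fun e => v0 (L.1.1.injective (by rw [e, map_zero]))) hLv ?_
  have hm := hM.im_m hD v0 hv
  refine ⟨mul_mem (mul_mem h.1 hm.1) (inv_mem h.1), ?_⟩
  rw [← hM.six.tr_conj L hv, map_mul π, map_mul π, map_inv π, ← h.2, ← hm.2, ← map_mul, ← map_inv, ← map_mul]
  rfl

theorem m_commute {v w : Fin 6 → F} (v0 : v ≠ 0) (hv : H.h v v = 0) (w0 : w ≠ 0) (hw : H.h w w = 0)
    (h : H.h v w = 0) : Commute (m v) (m w) := (hM.comm v w v0 w0 hv hw).2 h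

/-- Commuting members with trivial image. -/
structure Kill (l : List G) : Prop where
  mem : ∀ x ∈ l, x ∈ triSet D d y z
  nodup : l.Nodup
  comm : ∀ x ∈ l, ∀ w ∈ l, Commute x w
  im : hM.Im l.prod 1

theorem kill_eight {l : List G} (hl : Kill hM l) : l.prod ∈ eight d y z :=
  hM.ker_eight ⟨_, hl.im.1⟩ (hl.im.2.trans (map_one π))

/-- A relation with some of the three members added. -/
theorem kill_ne {l : List G} (hl : Kill hM l) {e : List G} (he : ∀ x ∈ e, x = d ∨ x = y ∨ x = z) (hen : e.Nodup)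
    (hn : NoRel D (e.length + l.length)) : l.prod ≠ e.prod := by
  intro hp
  obtain ⟨hdy, hdz, hyz⟩ := hM.three_commute hD
  obtain ⟨dd, yy, zz⟩ := hM.invol hD
  have hec : ∀ x ∈ e, ∀ w ∈ e, Commute x w := by
    intro x hx w hw
    rcases he x hx with rfl | rfl | rfl <;> rcases he w hw with rfl | rfl | rfl <;>
      first | exact Commute.refl _ | exact hdy | exact hdy.symm | exact hdz | exact hdz.symm | exact hyz | exact hyz.symm
  have hel : ∀ x ∈ e, ∀ w ∈ l, Commute x w ∧ x ≠ w := by
    intro x hx w hw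
    obtain ⟨a, b, c⟩ := hM.tri_commute hD (hl.mem w hw)
    have := hl.mem w hw
    rcases he x hx with rfl | rfl | rfl
    · exact ⟨a, this.1.1.2.1.symm⟩
    · exact ⟨b, this.1.2.2.1.symm⟩
    · exact ⟨c, this.2.2.1.symm⟩
  refine hn (e ++ l) (by simp) (List.nodup_append.2 ⟨hen, hl.nodup, fun x hx w hw => (hel x hx w hw).2⟩) ?_ ?_ ?_
  · intro x hx
    rcases List.mem_append.1 hx with hx | hx
    · rcases he x hx with rfl | rfl | rfl
      · exact hM.mem_d
      · exact hM.mem_y.1
      · exact hM.mem_z.1.1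
    · exact (hl.mem x hx).1.1.1
  · intro x hx w hw
    rcases List.mem_append.1 hx with hx | hx <;> rcases List.mem_append.1 hw with hw | hw
    · exact hec x hx w hw
    · exact (hel x hx w hw).1
    · exact (hel w hw x hx).1.symm
    · exact hl.comm x hx w hw
  · rw [List.prod_append, hp]
    refine prod_mul_prod_eq_one e (fun x hx => ?_) hec
    rcases he x hx with rfl | rfl | rfl <;> assumption

theorem kill_five {l : List G} (hl : Kill hM l) (h5 : l.length = 5) : l.prod = d * y * z := by
  have hne : ∀ e : List G, (∀ x ∈ e, x = d ∨ x = y ∨ x = z) → e.Nodup → e.length ≤ 2 → l.prod ≠ e.prod := by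
    intro e he hen hlen
    refine hM.kill_ne hD hl he hen ?_
    rw [h5]
    interval_cases e.length
    · exact hD.five
    · exact hD.six
    · exact hD.seven
  have m1 : d ≠ y := hM.mem_y.2.1.symm
  have m2 : d ≠ z := hM.mem_z.1.2.1.symm
  have m3 : y ≠ z := hM.mem_z.2.2.1.symm
  have h0 := hM.kill_eight hD hl
  simp only [eight, List.mem_cons, List.not_mem_nil, or_false] at h0
  rcases h0 with e | e | e | e | e | e | e | e
  · exact absurd e (by simpa using hne [] (by simp) (by simp) (by simp))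
  · exact absurd e (by simpa using hne [d] (by simp) (by simp) (by simp))
  · exact absurd e (by simpa using hne [y] (by simp) (by simp) (by simp))
  · exact absurd e (by simpa using hne [z] (by simp) (by simp) (by simp))
  · exact absurd e (by simpa using hne [d, y] (by simp) (by simp [m1]) (by simp))
  · exact absurd e (by simpa using hne [d, z] (by simp) (by simp [m2]) (by simp))
  · exact absurd e (by simpa using hne [y, z] (by simp) (by simp [m3]) (by simp))
  · exact e

theorem kill_six {l : List G} (hl : Kill hM l) (h6 : l.length = 6) :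
    l.prod = d * y ∨ l.prod = d * z ∨ l.prod = y * z ∨ l.prod = d * y * z := by
  have hne : ∀ e : List G, (∀ x ∈ e, x = d ∨ x = y ∨ x = z) → e.Nodup → e.length ≤ 1 → l.prod ≠ e.prod := by
    intro e he hen hlen
    refine hM.kill_ne hD hl he hen ?_
    rw [h6]
    interval_cases e.length
    · exact hD.six
    · exact hD.seven
  have h0 := hM.kill_eight hD hl
  simp only [eight, List.mem_cons, List.not_mem_nil, or_false] at h0
  rcases h0 with e | e | e | e | h0
  · exact absurd e (by simpa using hne [] (by simp) (by simp) (by simp))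
  · exact absurd e (by simpa using hne [d] (by simp) (by simp) (by simp))
  · exact absurd e (by simpa using hne [y] (by simp) (by simp) (by simp))
  · exact absurd e (by simpa using hne [z] (by simp) (by simp) (by simp))
  · exact h0

theorem kill_seven {l : List G} (hl : Kill hM l) (h7 : l.length = 7) : l.prod ≠ 1 := by
  simpa using hM.kill_ne hD hl (e := []) (by simp) (by simp) (by simpa [h7] using hD.seven)

end

end TripleModel

end Cfsg.Lib.ThreeTr
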