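import Cfsg.Agent.ThreeTransposition.M24Count.Base

/-!
The subgroup of order `2 ^ 17` avoiding `d`, and the sign homomorphism on the group generated by three commuting
members and the members commuting with them.
-/

set_option autoImplicit false
set_option linter.unusedSectionVars false
set_option linter.style.haveILetI false

namespace Cfsg.Lib.ThreeTr

open Cfsg Subgroup Cfsg.Lib.Classical

attribute [local instance] _root_.Classical.propDecidable

universe u

variable {G : Type u} [Group G] {D : Set G}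
variable {d y z : G} {F : Type} [Field F] {H : HermSpace F (Fin 6 → F)} {Q : Type u} [Group Q]
  {π : H.SIsom →* Q} {φ : ↥(closure (triGen D d y z)) →* Q} {m : (Fin 6 → F) → G} {ω : F}
  {e f : Fin 3 → Fin 6 → F}

/-- Lying in the plane of `e`. -/
def InW (e : Fin 3 → Fin 6 → F) (v : Fin 6 → F) : Prop := ∃ a b c : F, v = a • e 0 + b • e 1 + c • e 2

theorem InW.basis (k : Fin 3) : InW e (e k) := by
  fin_cases k
  · exact ⟨1, 0, 0, by simp⟩
  · exact ⟨0, 1, 0, by simp⟩
  · exact ⟨0, 0, 1, by simp⟩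

theorem InW.add_smul {v w : Fin 6 → F} (hv : InW e v) (hw : InW e w) (s : F) : InW e (v + s • w) := by
  obtain ⟨a, b, c, rfl⟩ := hv
  obtain ⟨a', b', c', rfl⟩ := hw
  exact ⟨a + s * a', b + s * b', c + s * c', by simp only [smul_add, smul_smul, _root_.add_smul]; abel⟩

theorem InW.orth (hfr : Frame H ω e f) {v w : Fin 6 → F} (hv : InW e v) (hw : InW e w) : H.h v w = 0 := by
  obtain ⟨a, b, c, rfl⟩ := hv
  obtain ⟨a', b', c', rfl⟩ := hw
  simp [H.add_left, H.add_right, H.smul_left, H.smul_right, hfr.ee]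

/-- The generators of the Sylow part. -/
def sylGen (m : (Fin 6 → F) → G) (ω : F) (e f : Fin 3 → Fin 6 → F) : List G :=
  [rootm m ω (e 0) (f 1) ω, rootm m ω (e 0) (f 1) 1, rootm m ω (e 1) (f 2) ω, rootm m ω (e 1) (f 2) 1,
    rootm m ω (e 0) (f 2) ω, rootm m ω (e 0) (f 2) 1]

/-- The Sylow part. -/
def sylPart (m : (Fin 6 → F) → G) (ω : F) (e f : Fin 3 → Fin 6 → F) (d y z : G) : Subgroup G :=
  closure {x | x ∈ sylGen m ω e f ++ abGen m ω e d y z}

namespace TripleModel

variable [Finite G] [Finite F] (hM : TripleModel D d y z H π φ m) (hD : Short D) (hfr : Frame H ω e f)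
include hM hD hfr

local notation "𝔸" => abPart m ω e d y z
local notation "𝕋" => sylPart m ω e f d y z

theorem inW_mem {v : Fin 6 → F} (hv : InW e v) (v0 : v ≠ 0) : d * m v ∈ 𝔸 := by
  obtain ⟨a, b, c, rfl⟩ := hv
  exact hM.span_mem hD hfr v0

theorem rootm_commute {a b p q a' b' p' q' : Fin 6 → F} (hl : Line H a b p q) (hl' : Line H a' b' p' q')
    (h1 : H.h a a' = 0) (h2 : H.h a b' = 0) (h3 : H.h b a' = 0) (h4 : H.h b b' = 0) (α β : F) :
    Commute (rootm m ω a b α) (rootm m ω a' b' β) := by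
  have key : ∀ s t, Commute (m (a + s • b)) (m (a' + t • b')) := fun s t =>
    hM.m_commute hD (hM.line_ne hD hfr hl s).1 (hM.line_ne hD hfr hl s).2.2.2 (hM.line_ne hD hfr hl' t).1
      (hM.line_ne hD hfr hl' t).2.2.2 (by
        simp [H.add_left, H.add_right, H.smul_left, H.smul_right, h1, h2, h3, h4])
  exact Commute.mul_left ((key _ _).mul_right (key _ _)) ((key _ _).mul_right (key _ _))

theorem rootm_comm3 {a b p q : Fin 6 → F} (hl : Line H a b p q) (α : F) :
    Commute (rootm m ω a b α) d ∧ Commute (rootm m ω a b α) y ∧ Commute (rootm m ω a b α) z :=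
  hM.closure_commute hD (hM.rootm_im hD hfr hl α).1

/-- Roots preserving the plane normalise the abelian part. -/
theorem root_normalises {i j : Fin 3} (hij : i ≠ j) (α : F) :
    ∀ x ∈ abGen m ω e d y z, rootm m ω (e i) (f j) α * x * rootm m ω (e i) (f j) α ∈ 𝔸 := by
  have hl := hM.line_ef hD hfr hij
  set g := rootm m ω (e i) (f j) α
  set L := hM.six.root ω (e i) (f j) α
  have hg : hM.Im g L := hM.rootm_im hD hfr hl α
  have hgi : g⁻¹ = g := inv_eq_of_mul_eq_one_right (hM.rootm_sq hD hfr hl α)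
  have hW : ∀ v, InW e v → InW e (L.1.1 v) := by
    intro v hv
    show InW e ((hM.six.root ω (e i) (f j) α).1.1 v)
    rw [hfr.root_apply hM.six hl.aa hl.bb hl.ab, InW.orth hfr hv (InW.basis i), mul_zero, zero_smul, add_zero]
    exact hv.add_smul (InW.basis i) _
  have hL0 : ∀ v, v ≠ 0 → L.1.1 v ≠ 0 := fun v hv e0 => hv (L.1.1.injective (by rw [e0, map_zero]))
  obtain ⟨c1, c2, c3⟩ := hM.rootm_comm3 hD hfr hl α
  have fix : ∀ w, Commute g w → g * w * g = w := fun w hw => by
    rw [hw.eq, mul_assoc, hM.rootm_sq hD hfr hl α, mul_one]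
  have cm : ∀ v, InW e v → v ≠ 0 → g * (d * m v) * g ∈ 𝔸 := by
    intro v hv v0
    have hc : g * (d * m v) * g = d * (g * m v * g⁻¹) := by
      rw [hgi, ← mul_assoc g d, c1.eq]; simp only [mul_assoc]; rfl
    rw [hc, hM.conj_m hD hg v0 (InW.orth hfr hv hv)]
    exact hM.inW_mem hD hfr (hW v hv) (hL0 v v0)
  have cr : ∀ {p q : Fin 3}, p ≠ q → ∀ β, g * rootm m ω (e p) (e q) β * g ∈ 𝔸 := by
    intro p q hpq β
    have hl' := hM.line_ee hD hfr hpq
    nth_rw 2 [← hgi]
    rw [rootm, ← conj_mul, hM.conj_m hD hg (hM.line_ne hD hfr hl' _).1 (hM.line_ne hD hfr hl' _).2.2.2,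
      hM.conj_m hD hg (hM.line_ne hD hfr hl' _).1 (hM.line_ne hD hfr hl' _).2.2.2]
    have hw := fun s => hW _ ((InW.basis (e := e) p).add_smul (InW.basis q) s)
    exact hM.dm_pair hD hfr (hL0 _ (hM.line_ne hD hfr hl' _).1) (InW.orth hfr (hw _) (hw _))
      (hM.inW_mem hD hfr (hw _) (hL0 _ (hM.line_ne hD hfr hl' _).1))
      (hM.inW_mem hD hfr (hw _) (hL0 _ (hM.line_ne hD hfr hl' _).1))
  have ek : ∀ k, e k ≠ 0 := fun k h => by
    have := hfr.ef k k
    rw [h, H.zero_left, if_pos rfl] at this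
    exact zero_ne_one this
  intro x hx
  simp only [abGen, List.mem_cons, List.not_mem_nil, or_false] at hx
  rcases hx with rfl | rfl | rfl | rfl | rfl | rfl | rfl | rfl | rfl | rfl | rfl
  · rw [fix _ (c1.mul_right c2)]; exact (hM.dy_mem hD hfr).1
  · rw [fix _ (c1.mul_right c3)]; exact (hM.dy_mem hD hfr).2.1
  · exact cm _ (InW.basis 0) (ek 0)
  · exact cm _ (InW.basis 1) (ek 1)
  · exact cm _ (InW.basis 2) (ek 2)
  all_goals exact cr (by decide) _

theorem abGen_commute : ∀ a ∈ abGen m ω e d y z, ∀ b ∈ abGen m ω e d y z, Commute a b := by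
  set B : Set G := {d, y, z} ∪ {x | ∃ v, InW e v ∧ v ≠ 0 ∧ m v = x} with hB
  obtain ⟨hdy, hdz, hyz⟩ := hM.three_commute hD
  have hBc : ∀ a ∈ B, ∀ b ∈ B, Commute a b := by
    have h3 : ∀ v, InW e v → v ≠ 0 → Commute (m v) d ∧ Commute (m v) y ∧ Commute (m v) z := fun v hv v0 =>
      hM.m_comm3 hD hfr v0 (InW.orth hfr hv hv)
    rintro a ((rfl | rfl | rfl) | ⟨v, hv, v0, rfl⟩) b ((rfl | rfl | rfl) | ⟨w, hw, w0, rfl⟩)
    all_goals first
      | exact Commute.refl _ | exact hdy | exact hdz | exact hyz | exact hdy.symm | exact hdz.symm | exact hyz.symm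
      | exact (h3 _ hv v0).1 | exact (h3 _ hv v0).2.1 | exact (h3 _ hv v0).2.2
      | exact (h3 _ hw w0).1.symm | exact (h3 _ hw w0).2.1.symm | exact (h3 _ hw w0).2.2.symm
      | exact hM.m_commute hD v0 (InW.orth hfr hv hv) w0 (InW.orth hfr hw hw) (InW.orth hfr hv hw)
  have hcl : ∀ a ∈ closure B, ∀ b ∈ closure B, Commute a b := by
    intro a ha b hb
    have h1 : closure B ≤ centralizer (closure B : Set G) := by
      rw [closure_le]
      intro x hx
      refine mem_centralizer_iff.2 fun w hw => ?_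
      exact (mem_centralizer_singleton_iff.1 ((closure_le (centralizer ({x} : Set G))).2
        (fun u hu => mem_centralizer_singleton_iff.2 (hBc u hu x hx).eq) hw))
    exact (mem_centralizer_iff.1 (h1 hb) a ha : a * b = b * a)
  have hd : d ∈ closure B := subset_closure (Or.inl (by simp))
  have hm : ∀ v, InW e v → v ≠ 0 → m v ∈ closure B := fun v hv v0 => subset_closure (Or.inr ⟨v, hv, v0, rfl⟩)
  have ek : ∀ k, e k ≠ 0 := fun k h => by
    have := hfr.ef k k
    rw [h, H.zero_left, if_pos rfl] at this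
    exact zero_ne_one this
  have hr : ∀ {p q : Fin 3}, p ≠ q → ∀ β, rootm m ω (e p) (e q) β ∈ closure B := fun hpq β =>
    mul_mem (hm _ ((InW.basis _).add_smul (InW.basis _) _) (hM.line_ne hD hfr (hM.line_ee hD hfr hpq) _).1)
      (hm _ ((InW.basis _).add_smul (InW.basis _) _) (hM.line_ne hD hfr (hM.line_ee hD hfr hpq) _).1)
  have hsub : ∀ a ∈ abGen m ω e d y z, a ∈ closure B := by
    intro a ha
    simp only [abGen, List.mem_cons, List.not_mem_nil, or_false] at ha
    rcases ha with rfl | rfl | rfl | rfl | rfl | rfl | rfl | rfl | rfl | rfl | rfl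
    · exact mul_mem hd (subset_closure (Or.inl (by simp)))
    · exact mul_mem hd (subset_closure (Or.inl (by simp)))
    · exact mul_mem hd (hm _ (InW.basis 0) (ek 0))
    · exact mul_mem hd (hm _ (InW.basis 1) (ek 1))
    · exact mul_mem hd (hm _ (InW.basis 2) (ek 2))
    all_goals exact hr (by decide) _
  exact fun a ha b hb => hcl a (hsub a ha) b (hsub b hb)

theorem abGen_sq : ∀ a ∈ abGen m ω e d y z, a * a = 1 := by
  obtain ⟨hdy, hdz, hyz⟩ := hM.three_commute hD
  obtain ⟨dd, yy, zz⟩ := hM.invol hD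
  have sq2 : ∀ a b : G, a * a = 1 → b * b = 1 → Commute a b → a * b * (a * b) = 1 := fun a b ha hb h => by
    rw [mul_assoc, ← mul_assoc b a, ← h.eq, mul_assoc a b b, hb, mul_one, ha]
  have ek : ∀ k, e k ≠ 0 := fun k h => by
    have := hfr.ef k k
    rw [h, H.zero_left, if_pos rfl] at this
    exact zero_ne_one this
  have sm : ∀ k, d * m (e k) * (d * m (e k)) = 1 := fun k =>
    sq2 _ _ dd (hM.m_sq hD hfr (ek k) (hfr.ee k k)) (hM.m_comm3 hD hfr (ek k) (hfr.ee k k)).1.symm
  intro a ha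
  simp only [abGen, List.mem_cons, List.not_mem_nil, or_false] at ha
  rcases ha with rfl | rfl | rfl | rfl | rfl | rfl | rfl | rfl | rfl | rfl | rfl
  · exact sq2 _ _ dd yy hdy
  · exact sq2 _ _ dd zz hdz
  · exact sm 0
  · exact sm 1
  · exact sm 2
  all_goals exact hM.rootm_sq hD hfr (hM.line_ee hD hfr (by decide)) _

theorem vroot_mem {S : Set G} {i : Fin 3} (hi : i ≠ 2) (h1 : rootm m ω (e i) (f 2) 1 ∈ closure S)
    (h2 : rootm m ω (e i) (f 2) ω ∈ closure S) (β : F) : rootm m ω (e i) (f 2) β ∈ closure S := by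
  have hl := hM.line_ef hD hfr hi
  rcases hfr.elems β with rfl | rfl | rfl | rfl
  · rw [hM.rootm_zero hD hfr hl]; exact one_mem _
  · exact h1
  · exact h2
  · rw [hM.rootm_add hD hfr hl]; exact mul_mem h1 h2

/-- The six members of a moved root. -/
theorem moved_root {α β : F} (hα : α ≠ 0) (hβ : β ≠ 0) :
    ∃ a ∈ 𝔸, rootm m ω (e 1 + H.σ α • e 0) (f 2) β =
      a * (rootm m ω (e 1) (f 2) β * rootm m ω (e 0) (f 2) (β * α))⁻¹ := by
  obtain ⟨w0, w1, w2, w3, w4⟩ := hM.ω_ne hD hfr
  obtain ⟨hdy, hdz, hyz⟩ := hM.three_commute hD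
  set c := H.σ α
  set δ := β * α
  have hδ : δ ≠ 0 := mul_ne_zero hβ hα
  have hc : c ≠ 0 := (map_ne_zero _).2 hα
  have g1 : ∀ i j : Fin 3, H.h (e i) (f j) = if i = j then 1 else 0 := hfr.ef
  have g2 : ∀ i j : Fin 3, H.h (f i) (e j) = if i = j then 1 else 0 := hfr.fe hM.six
  have lQ : Line H (e 1 + c • e 0) (f 2) (f 1) (e 2) :=
    ⟨by simp [H.add_left, H.add_right, H.smul_left, H.smul_right, hfr.ee], hfr.ff 2 2,
      by simp [H.add_left, H.smul_left, g1], by simp [H.add_left, H.smul_left, g1], hfr.ff 2 1,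
      by simp [H.add_left, H.smul_left, hfr.ee], by simp [g2]⟩
  have lB := hM.line_ef hD hfr (show (1 : Fin 3) ≠ 2 by decide)
  have lA := hM.line_ef hD hfr (show (0 : Fin 3) ≠ 2 by decide)
  have l5 := hM.line_smul hD hfr lA hδ
  have h5 := hM.line_five hD hfr l5
  set g := e 0 + (1 : F) • (δ • f 2)
  set q1 := e 1 + c • e 0 + (β * ω) • f 2
  set q2 := e 1 + c • e 0 + (β * (ω + 1)) • f 2
  set b1 := e 1 + (β * ω) • f 2
  set b2 := e 1 + (β * (ω + 1)) • f 2
  set a1 := e 0 + (δ * ω) • f 2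
  set a2 := e 0 + (δ * (ω + 1)) • f 2
  have eA : ∀ s : F, e 0 + s • (δ • f 2) = e 0 + (δ * s) • f 2 := fun s => by rw [smul_smul, mul_comm s δ]
  rw [eA ω, eA (ω + 1)] at h5
  let L6 : List (Fin 6 → F) := [q1, q2, b1, b2, a1, a2]
  let L7 : List (Fin 6 → F) := [q1, q2, b1, b2, e 0, δ • f 2, g]
  have hne : ∀ x, x ∈ L6 ∨ x ∈ L7 → x ≠ 0 := by
    intro x hx
    simp only [L6, L7, List.mem_cons, List.not_mem_nil, or_false] at hx
    rcases hx with (rfl | rfl | rfl | rfl | rfl | rfl) | (rfl | rfl | rfl | rfl | rfl | rfl | rfl)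
    all_goals first
      | exact (hM.line_ne hD hfr lQ _).1
      | exact (hM.line_ne hD hfr lB _).1
      | exact (hM.line_ne hD hfr lA _).1
      | exact (hM.line_ne hD hfr l5 _).1
      | exact (hM.line_ne hD hfr l5 0).2.1
      | exact (hM.line_ne hD hfr l5 0).2.2.1
  have ho : ∀ x, x ∈ L6 ∨ x ∈ L7 → ∀ x', x' ∈ L6 ∨ x' ∈ L7 → H.h x x' = 0 := by
    intro x hx x' hx'
    simp only [L6, L7, List.mem_cons, List.not_mem_nil, or_false] at hx hx'
    rcases hx with (rfl | rfl | rfl | rfl | rfl | rfl) | (rfl | rfl | rfl | rfl | rfl | rfl | rfl) <;>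
      rcases hx' with (rfl | rfl | rfl | rfl | rfl | rfl) | (rfl | rfl | rfl | rfl | rfl | rfl | rfl) <;>
      simp [q1, q2, b1, b2, a1, a2, g, H.add_left, H.add_right, H.smul_left, H.smul_right, hfr.ee, hfr.ff, g1, g2]
  have sep : ∀ x x', (x ∈ L6 ∨ x ∈ L7) → (x' ∈ L6 ∨ x' ∈ L7) → ∀ i : Fin 3,
      (H.h x (f i) = 0 ∧ H.h x' (f i) ≠ 0) ∨ (H.h x' (f i) = 0 ∧ H.h x (f i) ≠ 0) → m x ≠ m x' := by
    rintro x x' hx hx' i (⟨u1, u2⟩ | ⟨u1, u2⟩)
    · exact hM.m_ne hD (hne x hx) (ho x hx x hx) (hne x' hx') (ho x' hx' x' hx') u1 u2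
    · exact (hM.m_ne hD (hne x' hx') (ho x' hx' x' hx') (hne x hx) (ho x hx x hx) u1 u2).symm
  have ww : β * ω ≠ β * (ω + 1) := fun h => w4 (mul_left_cancel₀ hβ h).symm
  have wδ : δ * ω ≠ δ * (ω + 1) := fun h => w4 (mul_left_cancel₀ hδ h).symm
  have nq : m q1 ≠ m q2 := hM.comb_ne hD hfr lQ ww
  have nb : m b1 ≠ m b2 := hM.comb_ne hD hfr lB ww
  have na : m a1 ≠ m a2 := hM.comb_ne hD hfr lA wδ
  have n05 := hM.line_ne hD hfr l5
  have ne0g : m (e 0) ≠ m g := by
    have := hM.comb_ne hD hfr l5 (s := 0) (t := 1) zero_ne_one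
    rwa [zero_smul, add_zero] at this
  have ne0f : m (e 0) ≠ m (δ • f 2) :=
    hM.m_ne hD (n05 0).2.1 l5.aa (n05 0).2.2.1 l5.bb l5.aq (by rw [l5.bq]; exact one_ne_zero)
  have nfg : m (δ • f 2) ≠ m g :=
    hM.m_ne hD (n05 0).2.2.1 l5.bb (n05 1).1 (n05 1).2.2.2 (u := f 0) l5.bp
      (by rw [H.add_left, H.smul_left, l5.ap, l5.bp, mul_zero, add_zero]; exact one_ne_zero)
  have qb : ∀ x x', (x = q1 ∨ x = q2) → (x' = b1 ∨ x' = b2) → m x ≠ m x' := by
    intro x x' hx hx'
    refine sep x x' ?_ ?_ 0 (Or.inr ⟨?_, ?_⟩)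
    · rcases hx with rfl | rfl <;> exact Or.inl (by simp [L6])
    · rcases hx' with rfl | rfl <;> exact Or.inl (by simp [L6])
    · rcases hx' with rfl | rfl <;> simp [b1, b2, H.add_left, H.smul_left, hfr.ff, g1]
    · rcases hx with rfl | rfl <;> simp [q1, q2, H.add_left, H.smul_left, hfr.ff, g1, hc]
  have qa : ∀ x x', (x = q1 ∨ x = q2 ∨ x = b1 ∨ x = b2) →
      (x' = a1 ∨ x' = a2 ∨ x' = e 0 ∨ x' = δ • f 2 ∨ x' = g) → m x ≠ m x' := by
    intro x x' hx hx'
    refine sep x x' ?_ ?_ 1 (Or.inr ⟨?_, ?_⟩)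
    · rcases hx with rfl | rfl | rfl | rfl <;> exact Or.inl (by simp [L6])
    · rcases hx' with rfl | rfl | rfl | rfl | rfl
      · exact Or.inl (by simp [L6])
      · exact Or.inl (by simp [L6])
      · exact Or.inr (by simp [L7])
      · exact Or.inr (by simp [L7])
      · exact Or.inr (by simp [L7])
    · rcases hx' with rfl | rfl | rfl | rfl | rfl <;> simp [a1, a2, g, H.add_left, H.smul_left, hfr.ff, g1]
    · rcases hx with rfl | rfl | rfl | rfl <;> simp [q1, q2, b1, b2, H.add_left, H.smul_left, hfr.ff, g1]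
  have hnd6 : (L6.map m).Nodup := by
    simp only [L6, List.map_cons, List.map_nil, List.nodup_cons, List.mem_cons, List.not_mem_nil, or_false, not_or,
      List.nodup_nil, and_true, not_false_eq_true]
    exact ⟨⟨nq, qb _ _ (by simp) (by simp), qb _ _ (by simp) (by simp), qa _ _ (by simp) (by simp),
        qa _ _ (by simp) (by simp)⟩,
      ⟨qb _ _ (by simp) (by simp), qb _ _ (by simp) (by simp), qa _ _ (by simp) (by simp),
        qa _ _ (by simp) (by simp)⟩,
      ⟨nb, qa _ _ (by simp) (by simp), qa _ _ (by simp) (by simp)⟩,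
      ⟨qa _ _ (by simp) (by simp), qa _ _ (by simp) (by simp)⟩, na⟩
  have hnd7 : (L7.map m).Nodup := by
    simp only [L7, List.map_cons, List.map_nil, List.nodup_cons, List.mem_cons, List.not_mem_nil, or_false, not_or,
      List.nodup_nil, and_true, not_false_eq_true]
    exact ⟨⟨nq, qb _ _ (by simp) (by simp), qb _ _ (by simp) (by simp), qa _ _ (by simp) (by simp),
        qa _ _ (by simp) (by simp), qa _ _ (by simp) (by simp)⟩,
      ⟨qb _ _ (by simp) (by simp), qb _ _ (by simp) (by simp), qa _ _ (by simp) (by simp),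
        qa _ _ (by simp) (by simp), qa _ _ (by simp) (by simp)⟩,
      ⟨nb, qa _ _ (by simp) (by simp), qa _ _ (by simp) (by simp), qa _ _ (by simp) (by simp)⟩,
      ⟨qa _ _ (by simp) (by simp), qa _ _ (by simp) (by simp), qa _ _ (by simp) (by simp)⟩,
      ⟨ne0f, ne0g⟩, nfg⟩
  have hS := hM.six
  have rQ : hS.root ω (e 1 + c • e 0) (f 2) β = hS.root ω (e 1) (f 2) β * hS.root ω (e 0) (f 2) δ := by
    rw [hfr.root_mul hS lB.aa lB.bb lB.ab lA.aa lA.ab (hfr.ee 1 0), H.conj.invol]
  have sqA := hfr.root_mul_self hS lA.aa lA.bb lA.ab δ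
  have sum6 : (L6.map hS.tr).prod = 1 := by
    have ee : (L6.map hS.tr).prod = hS.root ω (e 1 + c • e 0) (f 2) β *
        (hS.root ω (e 1) (f 2) β * hS.root ω (e 0) (f 2) δ) := by
      simp [L6, q1, q2, b1, b2, a1, a2, IsSixSpace.root, mul_assoc]
    rw [ee, ← rQ, hfr.root_mul_self hS lQ.aa lQ.bb lQ.ab]
  have sum7 : (L7.map hS.tr).prod = 1 := by
    have ee : (L7.map hS.tr).prod = hS.root ω (e 1 + c • e 0) (f 2) β * hS.root ω (e 1) (f 2) β *
        (hS.tr (e 0) * (hS.tr (δ • f 2) * hS.tr g)) := by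
      simp [L7, q1, q2, b1, b2, IsSixSpace.root, mul_assoc]
    have e5 := hfr.line_sum hS l5.aa l5.bb l5.ab
    simp only [List.map_cons, List.map_nil, List.prod_cons, List.prod_nil, mul_one, eA ω, eA (ω + 1)] at e5
    have e5' : hS.tr (e 0) * (hS.tr (δ • f 2) * hS.tr g) = hS.root ω (e 0) (f 2) δ := by
      have := eq_inv_of_mul_eq_one_left (show (hS.tr (e 0) * (hS.tr (δ • f 2) * hS.tr g)) *
        hS.root ω (e 0) (f 2) δ = 1 by
          simpa only [IsSixSpace.root, g, mul_assoc] using e5)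
      rw [this, inv_eq_of_mul_eq_one_right sqA]
    rw [ee, e5', mul_assoc, ← rQ, hfr.root_mul_self hS lQ.aa lQ.bb lQ.ab]
  have K6 := hM.kill_list hD hfr L6 (fun x hx => hne x (Or.inl hx))
    (fun x hx x' hx' => ho x (Or.inl hx) x' (Or.inl hx')) hnd6 sum6
  have K7 := hM.kill_list hD hfr L7 (fun x hx => hne x (Or.inr hx))
    (fun x hx x' hx' => ho x (Or.inr hx) x' (Or.inr hx')) hnd7 sum7
  have h6 := hM.kill_six hD K6 rfl
  have h7 := hM.kill_seven hD K7 rfl
  simp only [L6, L7, List.map_cons, List.map_nil, List.prod_cons, List.prod_nil, mul_one] at h5 h6 h7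
  set rq := rootm m ω (e 1 + c • e 0) (f 2) β
  set rb := rootm m ω (e 1) (f 2) β
  set ra := rootm m ω (e 0) (f 2) δ
  have hra : ra * ra = 1 := hM.rootm_sq hD hfr lA δ
  have e6 : m q1 * (m q2 * (m b1 * (m b2 * (m a1 * m a2)))) = rq * (rb * ra) := by
    simp only [rq, rb, ra, rootm, q1, q2, b1, b2, a1, a2, mul_assoc]
  have e7 : m q1 * (m q2 * (m b1 * (m b2 * (m (e 0) * (m (δ • f 2) * m g))))) =
      rq * (rb * (m (e 0) * (m (δ • f 2) * m g))) := by
    simp only [rq, rb, rootm, q1, q2, b1, b2, mul_assoc]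
  have e5 : (m (e 0) * (m (δ • f 2) * m g)) * ra = d * y * z := by
    rw [← h5]; simp only [ra, rootm, g, a1, a2, mul_assoc]
  have cA : Commute ra (d * y * z) := by
    obtain ⟨c1, c2, c3⟩ := hM.rootm_comm3 hD hfr lA δ
    exact (c1.mul_right c2).mul_right c3
  have eE : m (e 0) * (m (δ • f 2) * m g) = ra * (d * y * z) := by
    rw [cA.eq, ← e5, mul_assoc _ ra ra, hra, mul_one]
  rw [e6] at h6
  rw [e7, eE] at h7
  obtain ⟨m1, m2, m3⟩ := hM.dy_mem hD hfr
  have hval : rq * (rb * ra) ∈ 𝔸 := by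
    rcases h6 with e' | e' | e' | e'
    · rw [e']; exact m1
    · rw [e']; exact m2
    · rw [e']; exact m3
    · refine absurd ?_ h7
      rw [← mul_assoc rb ra, ← mul_assoc rq (rb * ra), e']
      have := prod_mul_prod_eq_one [d, y, z] (fun x hx => ?_) (fun x hx x' hx' => ?_)
      · simpa [mul_assoc] using this
      · simp only [List.mem_cons, List.not_mem_nil, or_false] at hx
        obtain ⟨dd, yy, zz⟩ := hM.invol hD
        rcases hx with rfl | rfl | rfl <;> assumption
      · simp only [List.mem_cons, List.not_mem_nil, or_false] at hx hx'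
        rcases hx with rfl | rfl | rfl <;> rcases hx' with rfl | rfl | rfl <;>
          first | exact Commute.refl _ | exact hdy | exact hdz | exact hyz | exact hdy.symm | exact hdz.symm |
            exact hyz.symm
  exact ⟨_, hval, by group⟩

theorem card_sylPart_le : Nat.card ↥𝕋 ≤ 2 ^ 17 := by
  have hA : Nat.card ↥𝔸 ≤ 2 ^ 11 :=
    card_closure_commuting_le (abGen m ω e d y z) (hM.abGen_sq hD hfr) (hM.abGen_commute hD hfr)
  have l02 := hM.line_ef hD hfr (show (0 : Fin 3) ≠ 2 by decide)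
  have l12 := hM.line_ef hD hfr (show (1 : Fin 3) ≠ 2 by decide)
  have l01 := hM.line_ef hD hfr (show (0 : Fin 3) ≠ 1 by decide)
  set S0 : Set G := {x | x ∈ abGen m ω e d y z}
  have mono : ∀ {S S' : Set G}, S ⊆ S' → ∀ {x}, x ∈ closure S → x ∈ closure S' := fun h _ hx => closure_mono h hx
  -- commuting among the roots
  have fix : ∀ {g x : G}, g * g = 1 → Commute g x → g * x * g = x := fun hg h => by
    rw [h.eq, mul_assoc, hg, mul_one]
  have vv : ∀ {i j : Fin 3}, i ≠ 2 → j ≠ 2 → ∀ α β,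
      Commute (rootm m ω (e i) (f 2) α) (rootm m ω (e j) (f 2) β) := fun {i j} hi hj α β =>
    hM.rootm_commute hD hfr (hM.line_ef hD hfr hi) (hM.line_ef hD hfr hj) (hfr.ee _ _)
      (by rw [hfr.ef, if_neg hi]) (by rw [hfr.fe hM.six, if_neg (Ne.symm hj)]) (hfr.ff 2 2) α β
  have sq02 := hM.rootm_sq hD hfr l02
  have sq12 := hM.rootm_sq hD hfr l12
  have sq01 := hM.rootm_sq hD hfr l01
  set S1 := insert (rootm m ω (e 0) (f 2) 1) S0
  set S2 := insert (rootm m ω (e 0) (f 2) ω) S1
  set S3 := insert (rootm m ω (e 1) (f 2) 1) S2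
  set S4 := insert (rootm m ω (e 1) (f 2) ω) S3
  set S5 := insert (rootm m ω (e 0) (f 1) 1) S4
  set S6 := insert (rootm m ω (e 0) (f 1) ω) S5
  have i1 : S0 ⊆ S1 := Set.subset_insert _ _
  have i2 : S0 ⊆ S2 := i1.trans (Set.subset_insert _ _)
  have i3 : S0 ⊆ S3 := i2.trans (Set.subset_insert _ _)
  have i4 : S0 ⊆ S4 := i3.trans (Set.subset_insert _ _)
  have i5 : S0 ⊆ S5 := i4.trans (Set.subset_insert _ _)
  have h1 := card_closure_insert_le (S := S0) (sq02 1) (fun x hx => hM.root_normalises hD hfr (by decide) _ x hx)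
  have h2 := card_closure_insert_le (S := S1) (sq02 ω) (fun x hx => by
    rcases hx with rfl | hx
    · rw [fix (sq02 ω) (vv (by decide) (by decide) _ _)]; exact subset_closure (Set.mem_insert _ _)
    · exact mono i1 (hM.root_normalises hD hfr (by decide) _ x hx))
  have h3 := card_closure_insert_le (S := S2) (sq12 1) (fun x hx => by
    rcases hx with rfl | rfl | hx
    · rw [fix (sq12 1) (vv (by decide) (by decide) _ _)]; exact subset_closure (Set.mem_insert _ _)
    · rw [fix (sq12 1) (vv (by decide) (by decide) _ _)]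
      exact subset_closure (Set.mem_insert_of_mem _ (Set.mem_insert _ _))
    · exact mono i2 (hM.root_normalises hD hfr (by decide) _ x hx))
  have h4 := card_closure_insert_le (S := S3) (sq12 ω) (fun x hx => by
    rcases hx with rfl | rfl | rfl | hx
    · rw [fix (sq12 ω) (vv (by decide) (by decide) _ _)]; exact subset_closure (Set.mem_insert _ _)
    · rw [fix (sq12 ω) (vv (by decide) (by decide) _ _)]
      exact subset_closure (Set.mem_insert_of_mem _ (Set.mem_insert _ _))
    · rw [fix (sq12 ω) (vv (by decide) (by decide) _ _)]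
      exact subset_closure (Set.mem_insert_of_mem _ (Set.mem_insert_of_mem _ (Set.mem_insert _ _)))
    · exact mono i3 (hM.root_normalises hD hfr (by decide) _ x hx))
  have v0 : ∀ β, rootm m ω (e 0) (f 2) β ∈ closure S4 := fun β =>
    hM.vroot_mem hD hfr (by decide)
      (subset_closure (Set.mem_insert_of_mem _ (Set.mem_insert_of_mem _ (Set.mem_insert_of_mem _
        (Set.mem_insert _ _)))))
      (subset_closure (Set.mem_insert_of_mem _ (Set.mem_insert_of_mem _ (Set.mem_insert _ _)))) β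
  have v1 : ∀ β, rootm m ω (e 1) (f 2) β ∈ closure S4 := fun β =>
    hM.vroot_mem hD hfr (by decide) (subset_closure (Set.mem_insert_of_mem _ (Set.mem_insert _ _)))
      (subset_closure (Set.mem_insert _ _)) β
  have hV : ∀ α, α ≠ 0 → ∀ x ∈ S4, rootm m ω (e 0) (f 1) α * x * rootm m ω (e 0) (f 1) α ∈ closure S4 := by
    intro α hα
    set g := rootm m ω (e 0) (f 1) α with hgdef
    set L := hM.six.root ω (e 0) (f 1) α
    have hg : hM.Im g L := hM.rootm_im hD hfr l01 α
    have hgi : g⁻¹ = g := inv_eq_of_mul_eq_one_right (sq01 α)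
    have hL : ∀ x, L.1.1 x = x + (α * H.h x (e 0)) • f 1 + (H.σ α * H.h x (f 1)) • e 0 :=
      hfr.root_apply hM.six l01.aa l01.bb l01.ab α
    have Le0 : L.1.1 (e 0) = e 0 := by simp [hL, hfr.ee, hfr.ef]
    have Le1 : L.1.1 (e 1) = e 1 + H.σ α • e 0 := by simp [hL, hfr.ee, hfr.ef]
    have Lf2 : L.1.1 (f 2) = f 2 := by simp [hL, hfr.ff, hfr.fe hM.six]
    have c0 : ∀ β, g * rootm m ω (e 0) (f 2) β * g ∈ closure S4 := fun β => by
      nth_rw 2 [← hgi]
      rw [hM.rootm_conj hD hfr hg l02, Le0, Lf2]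
      exact v0 β
    have c1 : ∀ β, β ≠ 0 → g * rootm m ω (e 1) (f 2) β * g ∈ closure S4 := fun β hβ => by
      nth_rw 2 [← hgi]
      rw [hM.rootm_conj hD hfr hg l12, Le1, Lf2]
      obtain ⟨a, ha, e'⟩ := hM.moved_root hD hfr hα hβ
      rw [e']
      exact mul_mem (mono i4 ha) (inv_mem (mul_mem (v1 β) (v0 _)))
    have w0 : ω ≠ 0 := (hM.ω_ne hD hfr).1
    intro x hx
    rcases hx with rfl | rfl | rfl | rfl | hx
    · exact c1 ω w0
    · exact c1 1 one_ne_zero
    · exact c0 ω
    · exact c0 1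
    · exact mono i4 (hM.root_normalises hD hfr (by decide) _ x hx)
  have h5 := card_closure_insert_le (S := S4) (sq01 1) (hV 1 one_ne_zero)
  have h6 := card_closure_insert_le (S := S5) (sq01 ω) (fun x hx => by
    rcases hx with rfl | hx
    · rw [fix (sq01 ω) (hM.rootm_commute hD hfr l01 l01 (hfr.ee 0 0) l01.ab
        (by rw [hfr.fe hM.six, if_neg (by decide)]) (hfr.ff 1 1) _ _)]
      exact subset_closure (Set.mem_insert _ _)
    · exact mono (Set.subset_insert _ _) (hV ω (hM.ω_ne hD hfr).1 x hx))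
  have e6 : ({x | x ∈ sylGen m ω e f ++ abGen m ω e d y z} : Set G) = S6 := by
    ext x
    simp only [sylGen, S6, S5, S4, S3, S2, S1, S0, List.mem_append, List.mem_cons, List.not_mem_nil, or_false,
      Set.mem_ofPred_eq, Set.mem_insert_iff]
    tauto
  have hA' : Nat.card ↥(closure S0) ≤ 2 ^ 11 := hA
  have m2 : ∀ {a b : ℕ}, a ≤ b → 2 * a ≤ 2 * b := fun h => Nat.mul_le_mul_left 2 h
  unfold sylPart
  rw [e6]
  exact (h6.trans (m2 (h5.trans (m2 (h4.trans (m2 (h3.trans (m2 (h2.trans (m2 (h1.trans (m2 hA')))))))))))).trans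
    (by norm_num)

/-- Elements of the Sylow part over all parameters. -/
theorem sylPart_lift (c : Fin 3 → ZMod 2) (α : Fin 6 → F) :
    ∃ g ∈ 𝕋, hM.Im g (hM.six.elt ω e f c α) := by
  have hsub : ∀ {x : G}, x ∈ 𝔸 → x ∈ 𝕋 := fun hx =>
    closure_mono (fun w (hw : w ∈ abGen m ω e d y z) => List.mem_append_right _ hw) hx
  have ek : ∀ k, e k ≠ 0 := fun k h => by
    have := hfr.ef k k
    rw [h, H.zero_left, if_pos rfl] at this
    exact zero_ne_one this
  have hd : ∀ k, ∃ g ∈ 𝕋, hM.Im g (hM.six.tr (bit F (c k) • e k)) := by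
    intro k
    by_cases hk : c k = 0
    · refine ⟨1, one_mem _, ?_⟩
      have h0 : hM.six.tr ((0 : F) • e k) = 1 := H.sisom_ext fun x => by
        rw [hM.six.tr_apply (hfr.diag_iso hM.six k 0)]; simp
      rw [bit, if_pos hk, h0]
      exact hM.im_one hD
    · refine ⟨d * m (e k), hsub (hM.de_mem hD hfr k), ?_⟩
      rw [bit, if_neg hk, one_smul]
      simpa using hM.im_mul hD (hM.im_triv hD (Or.inl rfl)) (hM.im_m hD (ek k) (hfr.ee k k))
  have hv : ∀ {i : Fin 3}, i ≠ 2 → ∀ β, rootm m ω (e i) (f 2) β ∈ 𝕋 := fun {i} hi β => by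
    refine hM.vroot_mem hD hfr hi ?_ ?_ β <;> refine subset_closure ?_ <;>
      (fin_cases i <;> first | exact absurd rfl hi | simp [sylGen])
  have hx : ∀ β, rootm m ω (e 0) (f 1) β ∈ 𝕋 := fun β => by
    have l01 := hM.line_ef hD hfr (show (0 : Fin 3) ≠ 1 by decide)
    have g1 : rootm m ω (e 0) (f 1) 1 ∈ 𝕋 := subset_closure (by simp [sylGen])
    have g2 : rootm m ω (e 0) (f 1) ω ∈ 𝕋 := subset_closure (by simp [sylGen])
    rcases hfr.elems β with rfl | rfl | rfl | rfl
    · rw [hM.rootm_zero hD hfr l01]; exact one_mem _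
    · exact g1
    · exact g2
    · rw [hM.rootm_add hD hfr l01]; exact mul_mem g1 g2
  obtain ⟨d0, hd0, i0⟩ := hd 0
  obtain ⟨d1, hd1, i1⟩ := hd 1
  obtain ⟨d2, hd2, i2⟩ := hd 2
  refine ⟨d0 * d1 * d2 * rootm m ω (e 0) (e 1) (α 0) * rootm m ω (e 0) (e 2) (α 1) * rootm m ω (e 1) (e 2) (α 2) *
    rootm m ω (e 0) (f 2) (α 3) * rootm m ω (e 1) (f 2) (α 4) * rootm m ω (e 0) (f 1) (α 5), ?_, ?_⟩
  · exact mul_mem (mul_mem (mul_mem (mul_mem (mul_mem (mul_mem (mul_mem (mul_mem hd0 hd1) hd2)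
      (hsub (hM.root_mem hD hfr (by decide) _))) (hsub (hM.root_mem hD hfr (by decide) _)))
      (hsub (hM.root_mem hD hfr (by decide) _))) (hv (by decide) _)) (hv (by decide) _)) (hx _)
  · exact hM.im_mul hD (hM.im_mul hD (hM.im_mul hD (hM.im_mul hD (hM.im_mul hD (hM.im_mul hD (hM.im_mul hD
      (hM.im_mul hD i0 i1) i2) (hM.rootm_im hD hfr (hM.line_ee hD hfr (by decide)) _))
      (hM.rootm_im hD hfr (hM.line_ee hD hfr (by decide)) _))
      (hM.rootm_im hD hfr (hM.line_ee hD hfr (by decide)) _))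
      (hM.rootm_im hD hfr (hM.line_ef hD hfr (by decide)) _))
      (hM.rootm_im hD hfr (hM.line_ef hD hfr (by decide)) _))
      (hM.rootm_im hD hfr (hM.line_ef hD hfr (by decide)) _)

/-- Elements with trivial image multiply the number of elements. -/
theorem le_card_sylPart {L : List G} (hL : L.Nodup) (hLT : ∀ x ∈ L, x ∈ 𝕋) (hLi : ∀ x ∈ L, hM.Im x 1) :
    L.length * 2 ^ 15 ≤ Nat.card ↥𝕋 := by
  choose g hg hgi using fun p : (Fin 3 → ZMod 2) × (Fin 6 → F) => hM.sylPart_lift hD hfr p.1 p.2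
  let Φ : Fin L.length × ((Fin 3 → ZMod 2) × (Fin 6 → F)) → ↥𝕋 := fun q =>
    ⟨L.get q.1 * g q.2, mul_mem (hLT _ (L.get_mem q.1)) (hg q.2)⟩
  have hinj : Function.Injective Φ := by
    rintro ⟨i, p⟩ ⟨i', p'⟩ h
    have h' : L.get i * g p = L.get i' * g p' := congrArg Subtype.val h
    have a := hM.im_mul hD (hLi _ (L.get_mem i)) (hgi p)
    have b := hM.im_mul hD (hLi _ (L.get_mem i')) (hgi p')
    rw [one_mul] at a b
    have hp : π (hM.six.elt ω e f p.1 p.2) = π (hM.six.elt ω e f p'.1 p'.2) := by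
      rw [← a.2, ← b.2]; exact congrArg φ (Subtype.ext h')
    obtain ⟨e1, e2⟩ := hfr.elt_inj_mod hM.six π hM.ker hp
    have hpp : p = p' := Prod.ext e1 e2
    subst hpp
    rw [hL.get_inj_iff.1 (mul_right_cancel h')]
  have hc := Nat.card_le_card_of_injective Φ hinj
  haveI := Fintype.ofFinite F
  rw [Nat.card_prod, Nat.card_prod, Nat.card_fun, Nat.card_fun, Nat.card_fin, hM.four,
    Nat.card_zmod, Nat.card_fin, Nat.card_fin] at hc
  norm_num at hc ⊢
  omega

omit hfr in
theorem card_tri : Nat.card ↥(closure (triGen D d y z)) = 8 * 9196830720 := by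
  have hker : Nat.card φ.ker = 8 := by
    have he : ((φ.ker.map (closure (triGen D d y z)).subtype : Subgroup G) : Set G) =
        ↑(eight d y z).toFinset := by
      ext x
      constructor
      · rintro ⟨k, hk, rfl⟩
        exact Finset.mem_coe.2 (List.mem_toFinset.2 (hM.ker_eight k hk))
      · intro hx
        have hx' : x ∈ eight d y z := List.mem_toFinset.1 hx
        have t1 := hM.im_triv hD (Or.inl rfl : d = d ∨ d = y ∨ d = z)
        have t2 := hM.im_triv hD (Or.inr (Or.inl rfl) : y = d ∨ y = y ∨ y = z)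
        have t3 := hM.im_triv hD (Or.inr (Or.inr rfl) : z = d ∨ z = y ∨ z = z)
        have hi : hM.Im x 1 := by
          simp only [eight, List.mem_cons, List.not_mem_nil, or_false] at hx'
          rcases hx' with rfl | rfl | rfl | rfl | rfl | rfl | rfl | rfl
          · exact hM.im_one hD
          · exact t1
          · exact t2
          · exact t3
          · simpa using hM.im_mul hD t1 t2
          · simpa using hM.im_mul hD t1 t3
          · simpa using hM.im_mul hD t2 t3
          · simpa using hM.im_mul hD (hM.im_mul hD t1 t2) t3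
        exact ⟨⟨x, hi.1⟩, hi.2.trans (map_one π), rfl⟩
    rw [← Subgroup.card_map_of_injective (closure (triGen D d y z)).subtype_injective,
      ← SetLike.coe_sort_coe, Nat.card_coe_set_eq, he, Set.ncard_coe_finset,
      List.toFinset_card_of_nodup (hM.eight_nodup hD)]
    rfl
  rw [Subgroup.card_eq_card_quotient_mul_card_subgroup φ.ker,
    Nat.card_congr (QuotientGroup.quotientKerEquivOfSurjective φ hM.surj).toEquiv, hM.card, hker, mul_comm]

omit hfr in
/-- The sign of the group generated by three members and the members commuting with them. -/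
theorem exists_sign : ∃ δ : ↥(closure (triGen D d y z)) →* ℤˣ,
    ∀ k : ↥(closure (triGen D d y z)), (k : G) = d ∨ (k : G) = y ∨ (k : G) = z → δ k = -1 := by
  obtain ⟨ω, e, f, hfr⟩ := hM.six.exists_frame hM.four
  obtain ⟨hdy, hdz, hyz⟩ := hM.three_commute hD
  obtain ⟨dd, yy, zz⟩ := hM.invol hD
  set T := sylPart m ω e f d y z
  set K := closure (triGen D d y z)
  have hsub : ∀ {x : G}, x ∈ abPart m ω e d y z → x ∈ T := fun hx =>
    closure_mono (fun w (hw : w ∈ abGen m ω e d y z) => List.mem_append_right _ hw) hx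
  obtain ⟨m1, m2, m3⟩ := hM.dy_mem hD hfr
  have hnd := hM.eight_nodup hD
  have td := hM.im_triv hD (Or.inl rfl : d = d ∨ d = y ∨ d = z)
  have ty := hM.im_triv hD (Or.inr (Or.inl rfl) : y = d ∨ y = y ∨ y = z)
  have tz := hM.im_triv hD (Or.inr (Or.inr rfl) : z = d ∨ z = y ∨ z = z)
  have hup := hM.card_sylPart_le hD hfr
  have hlow : 2 ^ 17 ≤ Nat.card ↥T := by
    have h4 : [1, d * y, d * z, y * z].Nodup := by
      simp only [eight, List.nodup_cons, List.mem_cons, List.not_mem_nil, or_false, List.nodup_nil, and_true, not_or,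
        not_false_eq_true] at hnd ⊢
      tauto
    have := hM.le_card_sylPart hD hfr h4 (fun x hx => by
        simp only [List.mem_cons, List.not_mem_nil, or_false] at hx
        rcases hx with rfl | rfl | rfl | rfl
        exacts [one_mem _, hsub m1, hsub m2, hsub m3]) (fun x hx => by
        simp only [List.mem_cons, List.not_mem_nil, or_false] at hx
        rcases hx with rfl | rfl | rfl | rfl
        · exact hM.im_one hD
        · simpa using hM.im_mul hD td ty
        · simpa using hM.im_mul hD td tz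
        · simpa using hM.im_mul hD ty tz)
    exact le_trans (by norm_num) this
  have hdT : d ∉ T := by
    intro hd
    have hy : y ∈ T := by
      have := mul_mem hd (hsub m1)
      rwa [← mul_assoc, dd, one_mul] at this
    have hz : z ∈ T := by
      have := mul_mem hd (hsub m2)
      rwa [← mul_assoc, dd, one_mul] at this
    have := hM.le_card_sylPart hD hfr hnd (fun x hx => by
        simp only [eight, List.mem_cons, List.not_mem_nil, or_false] at hx
        rcases hx with rfl | rfl | rfl | rfl | rfl | rfl | rfl | rfl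
        exacts [one_mem _, hd, hy, hz, mul_mem hd hy, mul_mem hd hz, mul_mem hy hz, mul_mem (mul_mem hd hy) hz])
      (fun x hx => by
        simp only [eight, List.mem_cons, List.not_mem_nil, or_false] at hx
        rcases hx with rfl | rfl | rfl | rfl | rfl | rfl | rfl | rfl
        · exact hM.im_one hD
        · exact td
        · exact ty
        · exact tz
        · simpa using hM.im_mul hD td ty
        · simpa using hM.im_mul hD td tz
        · simpa using hM.im_mul hD ty tz
        · simpa using hM.im_mul hD (hM.im_mul hD td ty) tz)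
    rw [show (eight d y z).length = 8 from rfl] at this
    norm_num at this hup
    omega
  have hyT : y ∉ T := fun h => hdT (by
    have := mul_mem (hsub m1) h
    rwa [mul_assoc, yy, mul_one] at this)
  have hzT : z ∉ T := fun h => hdT (by
    have := mul_mem (hsub m2) h
    rwa [mul_assoc, zz, mul_one] at this)
  have hTK : T ≤ K := (closure_le _).2 fun x hx => by
    have hm : ∀ v, v ≠ 0 → H.h v v = 0 → m v ∈ K := fun v v0 hv => (hM.im_m hD v0 hv).1
    have hrk : ∀ {a b p q}, Line H a b p q → ∀ s, rootm m ω a b s ∈ K := fun hl s =>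
      (hM.rootm_im hD hfr hl s).1
    have ek : ∀ k, e k ≠ 0 := fun k h => by
      have := hfr.ef k k
      rw [h, H.zero_left, if_pos rfl] at this
      exact zero_ne_one this
    simp only [sylGen, abGen, List.cons_append, List.nil_append, Set.mem_ofPred_eq, List.mem_cons,
      List.not_mem_nil, or_false] at hx
    rcases hx with rfl | rfl | rfl | rfl | rfl | rfl | rfl | rfl | rfl | rfl | rfl | rfl | rfl | rfl | rfl | rfl | rfl
    · exact hrk (hM.line_ef hD hfr (by decide)) _
    · exact hrk (hM.line_ef hD hfr (by decide)) _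
    · exact hrk (hM.line_ef hD hfr (by decide)) _
    · exact hrk (hM.line_ef hD hfr (by decide)) _
    · exact hrk (hM.line_ef hD hfr (by decide)) _
    · exact hrk (hM.line_ef hD hfr (by decide)) _
    · exact mul_mem td.1 ty.1
    · exact mul_mem td.1 tz.1
    · exact mul_mem td.1 (hm _ (ek 0) (hfr.ee 0 0))
    · exact mul_mem td.1 (hm _ (ek 1) (hfr.ee 1 1))
    · exact mul_mem td.1 (hm _ (ek 2) (hfr.ee 2 2))
    all_goals exact hrk (hM.line_ee hD hfr (by decide)) _
  have hidx : (T.subgroupOf K).index = 2 ^ 1 * 280665 := by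
    have h := (T.subgroupOf K).card_mul_index
    rw [Nat.card_congr (Subgroup.subgroupOfEquivOfLe hTK).toEquiv, hM.card_tri hD,
      show Nat.card ↥T = 131072 from le_antisymm (hup.trans (by norm_num)) (le_trans (by norm_num) hlow)] at h
    omega
  obtain ⟨δ, hδ⟩ := DihedralSupplement.exists_sign (T.subgroupOf K) le_rfl (by decide : Odd 280665) hidx
  refine ⟨δ, fun k hk => hδ k ?_ fun g => ?_⟩
  · refine Subtype.ext ?_
    rw [pow_one, sq]
    rcases hk with h | h | h <;> simp [h, dd, yy, zz]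
  · obtain ⟨c1, c2, c3⟩ := hM.closure_commute hD g.2
    have hgk : g⁻¹ * k ^ (2 ^ (1 - 1)) * g = k := by
      refine Subtype.ext ?_
      simp only [Nat.sub_self, pow_zero, pow_one, coe_mul, coe_inv]
      have hc : Commute (g : G) k := by rcases hk with h | h | h <;> rw [h] <;> assumption
      rw [hc.inv_left.eq, inv_mul_cancel_right]
    rw [hgk, mem_subgroupOf]
    rcases hk with h | h | h <;> rw [h] <;> assumption

end TripleModel

end Cfsg.Lib.ThreeTr
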