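import Cfsg.Agent.ThreeTransposition.M24Count.M24
import Cfsg.Agent.ThreeTransposition.M24Count.Coordinates

/-!
Three commuting members of a class of type M(24): the members commuting with all three are the isotropic points of
the hermitian space of dimension six over the field with four elements.
-/

set_option autoImplicit false
set_option linter.unusedSectionVars false
set_option linter.style.haveILetI false

namespace Cfsg.Lib.ThreeTr

open Cfsg Subgroup Cfsg.Lib.Classical

attribute [local instance] _root_.Classical.propDecidable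

universe u

variable {G : Type u} [Group G] {D : Set G}

/-- A homomorphism on a generated subgroup lands where the generators do. -/
theorem hom_mem_of_gens {S : Set G} {P : Type*} [Group P] (φ : ↥(closure S) →* P) (W : Subgroup P)
    (h : ∀ x : ↥(closure S), (x : G) ∈ S → φ x ∈ W) (x : ↥(closure S)) : φ x ∈ W := by
  have hle : closure {x : ↥(closure S) | (x : G) ∈ S} ≤ W.comap φ := (closure_le _).2 fun x hx => h x hx
  exact hle ((closure_closure_coe_preimage (k := S)).symm ▸ mem_top x)

/-- A power of an involution. -/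
theorem eq_one_or_eq_of_mem_zpowers {a g : G} (ha : a * a = 1) (h : g ∈ zpowers a) : g = 1 ∨ g = a := by
  obtain ⟨n, rfl⟩ := mem_zpowers_iff.1 h
  rcases Int.even_or_odd n with ⟨k, rfl⟩ | ⟨k, rfl⟩
  · exact Or.inl (by rw [← two_mul, zpow_mul, zpow_ofNat, sq, ha, one_zpow])
  · exact Or.inr (by rw [zpow_add, zpow_mul, zpow_ofNat, sq, ha, one_zpow, one_mul, zpow_one])

/-- The members commuting with three members. -/
def triSet (D : Set G) (d y z : G) : Set G := perp D d ∩ perp D y ∩ perp D z

/-- Three members and the ones commuting with all of them. -/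
def triGen (D : Set G) (d y z : G) : Set G := {d, y, z} ∪ triSet D d y z

/-- The eight products of three commuting involutions. -/
def eight (d y z : G) : List G := [1, d, y, z, d * y, d * z, y * z, d * y * z]

/-- The isotropic points as members commuting with three members. -/
structure TripleModel (D : Set G) (d y z : G) {F : Type} [Field F] (H : HermSpace F (Fin 6 → F))
    {Q : Type u} [Group Q] (π : H.SIsom →* Q) (φ : ↥(closure (triGen D d y z)) →* Q)
    (m : (Fin 6 → F) → G) : Prop where
  six : IsSixSpace H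
  four : Nat.card F = 4
  ker : π.ker = center H.SIsom
  card : Nat.card Q = 9196830720
  perfect : commutator Q = ⊤
  mem_d : d ∈ D
  mem_y : y ∈ perp D d
  mem_z : z ∈ perp D d ∩ perp D y
  surj : Function.Surjective φ
  ker_eight : ∀ k, φ k = 1 → (k : G) ∈ eight d y z
  trivial : ∀ k : ↥(closure (triGen D d y z)), (k : G) = d ∨ (k : G) = y ∨ (k : G) = z → φ k = 1
  mem : ∀ v, v ≠ 0 → H.h v v = 0 → m v ∈ triSet D d y z
  img : ∀ v, v ≠ 0 → ∀ hv : H.h v v = 0, ∀ x : ↥(closure (triGen D d y z)), (x : G) = m v → φ x = π (six.tv hv)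
  inj : ∀ x : ↥(closure (triGen D d y z)), ∀ x' : ↥(closure (triGen D d y z)), (x : G) ∈ triSet D d y z →
    (x' : G) ∈ triSet D d y z → φ x = φ x' → x = x'
  cover : ∀ x ∈ triSet D d y z, ∃ v, v ≠ 0 ∧ H.h v v = 0 ∧ m v = x
  comm : ∀ v w, v ≠ 0 → w ≠ 0 → H.h v v = 0 → H.h w w = 0 → (Commute (m v) (m w) ↔ H.h v w = 0)

/-- Three commuting members give a model. -/
theorem M24.exists_tripleModel [Finite G] (h : M24 D) {d : G} (hd : d ∈ D) (hQ : M23 (descSet D d))
    {y : ↥(closure (perp D d))} (hy : (y : G) ∈ perp D d) (hQ2 : M22 (descSet (descSet D d) (QuotientGroup.mk y))) :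
    ∃ (z : G) (F : Type) (_ : Field F) (_ : Fintype F) (H : HermSpace F (Fin 6 → F)) (Q : Type u) (_ : Group Q)
      (π : H.SIsom →* Q) (φ : ↥(closure (triGen D d y z)) →* Q) (m : (Fin 6 → F) → G),
      TripleModel D d y z H π φ m := by
  have hcls := h.cls
  have hT := h.solid.full.tower.twin
  have hE := hcls.1
  have hcls1 := hQ.cls
  have hT1 := hQ.solid.full.tower.twin
  let π1 := QuotientGroup.mk' (center ↥(closure (perp D d)))
  have hy1 : (QuotientGroup.mk y : ↥(closure (perp D d)) ⧸ center ↥(closure (perp D d))) ∈ (descSet D d) := ⟨y, hy, rfl⟩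
  let π2 := QuotientGroup.mk' (center ↥(closure (perp (descSet D d) (QuotientGroup.mk y : ↥(closure (perp D d)) ⧸ center ↥(closure (perp D d))))))
  have hcls2 := hQ2.cls
  have hT2 := hQ2.twin
  obtain ⟨-, z2, hz2, -⟩ := hQ2.type
  obtain ⟨z1, hz1, hz1e⟩ := id hz2
  have hz1' : (z1 : ↥(closure (perp D d)) ⧸ center ↥(closure (perp D d))) ∈ descImg D d (perp D d ∩ perp D (y : G)) :=
    perp_descImg hcls hT hd hy ▸ hz1
  obtain ⟨z0, hz0, hz0e⟩ := hz1'
  let z : G := (z0 : G)
  obtain ⟨F, _, _, H, π, vec, hM⟩ := hQ2.exists_model hz2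
  let π3 := QuotientGroup.mk' (center ↥(closure (perp (descSet (descSet D d) (QuotientGroup.mk y : ↥(closure (perp D d)) ⧸ center ↥(closure (perp D d)))) z2)))
  let K := closure (triGen D d y z)
  -- descending twice
  have down1 : ∀ x : ↥(closure (perp D d)), (x : G) ∈ perp D d ∩ perp D (y : G) → π1 x ∈ perp (descSet D d) (QuotientGroup.mk y : ↥(closure (perp D d)) ⧸ center ↥(closure (perp D d))) := fun x hx => by
    show π1 x ∈ perp (descSet D d) (QuotientGroup.mk y)
    rw [perp_descImg hcls hT hd hy]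
    exact ⟨x, hx, rfl⟩
  have down2 : ∀ x : ↥(closure (perp (descSet D d) (QuotientGroup.mk y : ↥(closure (perp D d)) ⧸ center ↥(closure (perp D d))))), (x : ↥(closure (perp D d)) ⧸ center ↥(closure (perp D d))) ∈ perp (descSet D d) (QuotientGroup.mk y : ↥(closure (perp D d)) ⧸ center ↥(closure (perp D d))) ∩ perp (descSet D d) z1 → π2 x ∈ perp (descSet (descSet D d) (QuotientGroup.mk y : ↥(closure (perp D d)) ⧸ center ↥(closure (perp D d)))) z2 := fun x hx => by
    show π2 x ∈ perp (descSet (descSet D d) (QuotientGroup.mk y : ↥(closure (perp D d)) ⧸ center ↥(closure (perp D d)))) z2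
    rw [← hz1e, perp_descImg hcls1 hT1 hy1 hz1]
    exact ⟨x, hx, rfl⟩
  have hyd : (y : G) ≠ d := hy.2.1
  have hgen0 : triGen D d y z ⊆ ((closure (perp D d)) : Set G) := by
    rintro x ((rfl | rfl | rfl) | hx)
    · exact h.solid.self_mem x hd
    · exact y.2
    · exact z0.2
    · exact subset_closure hx.1.1
  have hK0 : K ≤ (closure (perp D d)) := (closure_le _).2 hgen0
  have hone1 : ∀ x : ↥(closure (perp D d)), (x : G) = d → π1 x = 1 := fun x hx => by
    refine (QuotientGroup.eq_one_iff x).2 (mem_center_iff.2 fun g => Subtype.ext ?_)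
    show (g : G) * x = x * g
    rw [hx]
    exact (closure_perp_commute g.2).eq
  have htri1 : ∀ x : ↥(closure (perp D d)), (x : G) ∈ triSet D d y z → π1 x ∈ perp (descSet D d) (QuotientGroup.mk y : ↥(closure (perp D d)) ⧸ center ↥(closure (perp D d))) ∩ perp (descSet D d) z1 := fun x hx => by
    refine ⟨down1 x ⟨hx.1.1, hx.1.2⟩, ⟨x, hx.1.1, rfl⟩, fun e => ?_, ?_⟩
    · rw [← hz0e] at e
      exact hx.2.2.1 (desc_mk_inj hcls hT hd hx.1.1 hz0.1 e)
    · rw [← hz0e]
      exact (desc_commute_iff hcls hT hd hz0.1 hx.1.1).2 hx.2.2.2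
  let ι : ↥K →* ↥(closure (perp D d)) := inclusion hK0
  have h1 : ∀ k, π1 (ι k) ∈ (closure (perp (descSet D d) (QuotientGroup.mk y : ↥(closure (perp D d)) ⧸ center ↥(closure (perp D d))))) := hom_mem_of_gens (π1.comp ι) (closure (perp (descSet D d) (QuotientGroup.mk y : ↥(closure (perp D d)) ⧸ center ↥(closure (perp D d))))) fun k hk => by
    show π1 (ι k) ∈ (closure (perp (descSet D d) (QuotientGroup.mk y : ↥(closure (perp D d)) ⧸ center ↥(closure (perp D d)))))
    rcases hk with (e | e | e) | e
    · rw [hone1 _ e]; exact one_mem _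
    · rw [show ι k = y from Subtype.ext e]; exact hQ.solid.self_mem (QuotientGroup.mk y : ↥(closure (perp D d)) ⧸ center ↥(closure (perp D d))) hy1
    · rw [show ι k = z0 from Subtype.ext e]; exact subset_closure (down1 z0 hz0)
    · exact subset_closure (htri1 _ e).1
  let f1 : ↥K →* ↥(closure (perp (descSet D d) (QuotientGroup.mk y : ↥(closure (perp D d)) ⧸ center ↥(closure (perp D d))))) := (π1.comp ι).codRestrict (closure (perp (descSet D d) (QuotientGroup.mk y : ↥(closure (perp D d)) ⧸ center ↥(closure (perp D d))))) h1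
  have hf1v : ∀ k, (f1 k : ↥(closure (perp D d)) ⧸ center ↥(closure (perp D d))) = π1 (ι k) := fun k => rfl
  have hone2 : ∀ x : ↥(closure (perp (descSet D d) (QuotientGroup.mk y : ↥(closure (perp D d)) ⧸ center ↥(closure (perp D d))))), (x : ↥(closure (perp D d)) ⧸ center ↥(closure (perp D d))) = (QuotientGroup.mk y : ↥(closure (perp D d)) ⧸ center ↥(closure (perp D d))) → π2 x = 1 := fun x hx => by
    refine (QuotientGroup.eq_one_iff x).2 (mem_center_iff.2 fun g => Subtype.ext ?_)
    show (g : ↥(closure (perp D d)) ⧸ center ↥(closure (perp D d))) * x = x * g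
    rw [hx]
    exact (closure_perp_commute g.2).eq
  have h2 : ∀ k, π2 (f1 k) ∈ (closure (perp (descSet (descSet D d) (QuotientGroup.mk y : ↥(closure (perp D d)) ⧸ center ↥(closure (perp D d)))) z2)) := hom_mem_of_gens (π2.comp f1) (closure (perp (descSet (descSet D d) (QuotientGroup.mk y : ↥(closure (perp D d)) ⧸ center ↥(closure (perp D d)))) z2)) fun k hk => by
    show π2 (f1 k) ∈ (closure (perp (descSet (descSet D d) (QuotientGroup.mk y : ↥(closure (perp D d)) ⧸ center ↥(closure (perp D d)))) z2))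
    rcases hk with (e | e | e) | e
    · rw [show f1 k = 1 from Subtype.ext (hone1 _ e), map_one]; exact one_mem _
    · rw [hone2 _ (by rw [hf1v, show ι k = y from Subtype.ext e]; rfl)]; exact one_mem _
    · rw [show f1 k = z1 from Subtype.ext (by rw [hf1v, show ι k = z0 from Subtype.ext e]; exact hz0e)]
      rw [show π2 z1 = z2 from hz1e]
      exact hQ2.self_mem hz2
    · exact subset_closure (down2 _ (htri1 _ e))
  let f2 : ↥K →* ↥(closure (perp (descSet (descSet D d) (QuotientGroup.mk y : ↥(closure (perp D d)) ⧸ center ↥(closure (perp D d)))) z2)) := (π2.comp f1).codRestrict (closure (perp (descSet (descSet D d) (QuotientGroup.mk y : ↥(closure (perp D d)) ⧸ center ↥(closure (perp D d)))) z2)) h2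
  have hf2v : ∀ k, (f2 k : ↥(closure (perp (descSet D d) (QuotientGroup.mk y : ↥(closure (perp D d)) ⧸ center ↥(closure (perp D d))))) ⧸ center ↥(closure (perp (descSet D d) (QuotientGroup.mk y : ↥(closure (perp D d)) ⧸ center ↥(closure (perp D d)))))) = π2 (f1 k) := fun k => rfl
  let φ : ↥K →* (↥(closure (perp (descSet (descSet D d) (QuotientGroup.mk y : ↥(closure (perp D d)) ⧸ center ↥(closure (perp D d)))) z2)) ⧸ center ↥(closure (perp (descSet (descSet D d) (QuotientGroup.mk y : ↥(closure (perp D d)) ⧸ center ↥(closure (perp D d)))) z2))) := π3.comp f2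
  have htriv : ∀ k : ↥K, (k : G) = d ∨ (k : G) = (y : G) ∨ (k : G) = z → φ k = 1 := fun k hk => by
    show π3 (f2 k) = 1
    rcases hk with e | e | e
    · rw [show f2 k = 1 from Subtype.ext (by
        rw [hf2v, show f1 k = 1 from Subtype.ext (hone1 _ e), map_one]; rfl), map_one]
    · rw [show f2 k = 1 from Subtype.ext (by
        rw [hf2v, hone2 _ (by rw [hf1v, show ι k = y from Subtype.ext e]; rfl)]; rfl), map_one]
    · refine (QuotientGroup.eq_one_iff _).2 (mem_center_iff.2 fun g => Subtype.ext ?_)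
      show (g : ↥(closure (perp (descSet D d) (QuotientGroup.mk y : ↥(closure (perp D d)) ⧸ center ↥(closure (perp D d))))) ⧸ center ↥(closure (perp (descSet D d) (QuotientGroup.mk y : ↥(closure (perp D d)) ⧸ center ↥(closure (perp D d)))))) * f2 k = f2 k * g
      rw [show (f2 k : ↥(closure (perp (descSet D d) (QuotientGroup.mk y : ↥(closure (perp D d)) ⧸ center ↥(closure (perp D d))))) ⧸ center ↥(closure (perp (descSet D d) (QuotientGroup.mk y : ↥(closure (perp D d)) ⧸ center ↥(closure (perp D d)))))) = z2 by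
        rw [hf2v, show f1 k = z1 from Subtype.ext (by
          rw [hf1v, show ι k = z0 from Subtype.ext e]; exact hz0e)]
        exact hz1e]
      exact (closure_perp_commute g.2).eq
  have hzd : (z : G) ≠ d := hz0.1.2.1
  -- members against points
  have hpt : ∀ k : ↥K, (k : G) ∈ triSet D d y z → (f2 k : ↥(closure (perp (descSet D d) (QuotientGroup.mk y : ↥(closure (perp D d)) ⧸ center ↥(closure (perp D d))))) ⧸ center ↥(closure (perp (descSet D d) (QuotientGroup.mk y : ↥(closure (perp D d)) ⧸ center ↥(closure (perp D d)))))) ∈ perp (descSet (descSet D d) (QuotientGroup.mk y : ↥(closure (perp D d)) ⧸ center ↥(closure (perp D d)))) z2 := fun k hk =>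
    down2 _ (htri1 _ hk)
  have hinj : ∀ k k' : ↥K, (k : G) ∈ triSet D d y z → (k' : G) ∈ triSet D d y z →
      (f2 k : ↥(closure (perp (descSet D d) (QuotientGroup.mk y : ↥(closure (perp D d)) ⧸ center ↥(closure (perp D d))))) ⧸ center ↥(closure (perp (descSet D d) (QuotientGroup.mk y : ↥(closure (perp D d)) ⧸ center ↥(closure (perp D d)))))) = f2 k' → k = k' := fun k k' hk hk' e => by
    have e1 : f1 k = f1 k' := Subtype.ext (desc_mk_inj hcls1 hT1 hy1 (x := f1 k) (y := f1 k') (htri1 _ hk).1 (htri1 _ hk').1 e)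
    exact Subtype.ext (desc_mk_inj hcls hT hd (x := ι k) (y := ι k') hk.1.1 hk'.1.1 (congrArg Subtype.val e1))
  have hlift : ∀ q ∈ perp (descSet (descSet D d) (QuotientGroup.mk y : ↥(closure (perp D d)) ⧸ center ↥(closure (perp D d)))) z2, ∃ k : ↥K, (k : G) ∈ triSet D d y z ∧ (f2 k : ↥(closure (perp (descSet D d) (QuotientGroup.mk y : ↥(closure (perp D d)) ⧸ center ↥(closure (perp D d))))) ⧸ center ↥(closure (perp (descSet D d) (QuotientGroup.mk y : ↥(closure (perp D d)) ⧸ center ↥(closure (perp D d)))))) = q := by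
    intro q hq
    rw [← hz1e, perp_descImg hcls1 hT1 hy1 hz1] at hq
    obtain ⟨x1, hx1, rfl⟩ := hq
    have hx1' := hx1.1
    have hx1' := (perp_descImg hcls hT hd hy).le hx1'
    obtain ⟨x0, hx0, hx0e⟩ := hx1'
    have hxt : (x0 : G) ∈ triSet D d y z := by
      refine ⟨hx0, hx0.1.1, fun e => hx1.2.2.1 ?_, ?_⟩
      · rw [← hx0e, ← hz0e, show x0 = z0 from Subtype.ext e]
      · have := hx1.2.2.2
        rw [← hx0e, ← hz0e] at this
        exact (desc_commute_iff hcls hT hd hz0.1 hx0.1).1 this
    refine ⟨⟨x0, subset_closure (Or.inr hxt)⟩, hxt, ?_⟩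
    rw [hf2v]
    exact congrArg π2 (Subtype.ext hx0e)
  have himgv : ∀ (k : ↥K) (hk : (k : G) ∈ triSet D d y z),
      φ k = π (hM.six.tv (hM.vec_iso _ (hpt k hk))) := fun k hk => hM.img (f2 k) (hpt k hk) _
  let m : (Fin 6 → F) → G := fun v =>
    if hv : ∃ k : ↥K, (k : G) ∈ triSet D d y z ∧ ∃ a : F, a ≠ 0 ∧ v = a • vec (f2 k : ↥(closure (perp (descSet D d) (QuotientGroup.mk y : ↥(closure (perp D d)) ⧸ center ↥(closure (perp D d))))) ⧸ center ↥(closure (perp (descSet D d) (QuotientGroup.mk y : ↥(closure (perp D d)) ⧸ center ↥(closure (perp D d))))))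
    then (hv.choose : G) else 1
  have hmspec : ∀ v, v ≠ 0 → H.h v v = 0 → ∃ k : ↥K, (k : G) ∈ triSet D d y z ∧ m v = k ∧
      ∃ a : F, a ≠ 0 ∧ v = a • vec (f2 k : ↥(closure (perp (descSet D d) (QuotientGroup.mk y : ↥(closure (perp D d)) ⧸ center ↥(closure (perp D d))))) ⧸ center ↥(closure (perp (descSet D d) (QuotientGroup.mk y : ↥(closure (perp D d)) ⧸ center ↥(closure (perp D d)))))) := fun v hv0 hv => by
    obtain ⟨q, hq, a, ha, hqv⟩ := hM.cover v hv0 hv
    obtain ⟨k, hk, rfl⟩ := hlift q hq
    have hex : ∃ k : ↥K, (k : G) ∈ triSet D d y z ∧ ∃ a : F, a ≠ 0 ∧ v = a • vec (f2 k : ↥(closure (perp (descSet D d) (QuotientGroup.mk y : ↥(closure (perp D d)) ⧸ center ↥(closure (perp D d))))) ⧸ center ↥(closure (perp (descSet D d) (QuotientGroup.mk y : ↥(closure (perp D d)) ⧸ center ↥(closure (perp D d)))))) :=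
      ⟨k, hk, a, ha, hqv⟩
    exact ⟨hex.choose, hex.choose_spec.1, dif_pos hex, hex.choose_spec.2⟩
  refine ⟨z, F, inferInstance, inferInstance, H, (↥(closure (perp (descSet (descSet D d) (QuotientGroup.mk y : ↥(closure (perp D d)) ⧸ center ↥(closure (perp D d)))) z2)) ⧸ center ↥(closure (perp (descSet (descSet D d) (QuotientGroup.mk y : ↥(closure (perp D d)) ⧸ center ↥(closure (perp D d)))) z2))), inferInstance, π, φ, m, hM.six, hM.four, hM.ker,
    (hQ2.rich z2 hz2).1, ?_, hd, hy, hz0, ?_, ?_, htriv, fun v hv0 hv => ?_, fun v hv0 hv x hx => ?_,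
    fun x x' hx hx' e => ?_, fun x hx => ?_, fun v w hv0 hw0 hv hw => ?_⟩
  · obtain ⟨-, hsimp, hZ, -⟩ := hQ2.rich z2 hz2
    haveI := hsimp
    refine ((inferInstance : (commutator (↥(closure (perp (descSet (descSet D d) (QuotientGroup.mk y : ↥(closure (perp D d)) ⧸ center ↥(closure (perp D d)))) z2)) ⧸ center ↥(closure (perp (descSet (descSet D d) (QuotientGroup.mk y : ↥(closure (perp D d)) ⧸ center ↥(closure (perp D d)))) z2)))).Normal).eq_bot_or_eq_top).resolve_left fun hc => ?_
    haveI := hsimp.toNontrivial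
    refine bot_ne_top (α := Subgroup (↥(closure (perp (descSet (descSet D d) (QuotientGroup.mk y : ↥(closure (perp D d)) ⧸ center ↥(closure (perp D d)))) z2)) ⧸ center ↥(closure (perp (descSet (descSet D d) (QuotientGroup.mk y : ↥(closure (perp D d)) ⧸ center ↥(closure (perp D d)))) z2)))) ?_
    rw [← hZ, eq_top_iff]
    intro g _
    refine mem_center_iff.2 fun k => ?_
    have : k * g * k⁻¹ * g⁻¹ ∈ commutator (↥(closure (perp (descSet (descSet D d) (QuotientGroup.mk y : ↥(closure (perp D d)) ⧸ center ↥(closure (perp D d)))) z2)) ⧸ center ↥(closure (perp (descSet (descSet D d) (QuotientGroup.mk y : ↥(closure (perp D d)) ⧸ center ↥(closure (perp D d)))) z2))) := by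
      rw [_root_.commutator_def, ← commutatorElement_def]
      exact commutator_mem_commutator (mem_top k) (mem_top g)
    rw [hc, mem_bot, mul_inv_eq_one, mul_inv_eq_iff_eq_mul] at this
    exact this
  · have hle : (⊤ : Subgroup (↥(closure (perp (descSet (descSet D d) (QuotientGroup.mk y : ↥(closure (perp D d)) ⧸ center ↥(closure (perp D d)))) z2)) ⧸ center ↥(closure (perp (descSet (descSet D d) (QuotientGroup.mk y : ↥(closure (perp D d)) ⧸ center ↥(closure (perp D d)))) z2)))) ≤ φ.range := by
      rw [← map_top_of_surjective π3 (QuotientGroup.mk'_surjective _),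
        ← closure_perp_eq_top (D := (descSet (descSet D d) (QuotientGroup.mk y : ↥(closure (perp D d)) ⧸ center ↥(closure (perp D d))))) z2, MonoidHom.map_closure, closure_le]
      rintro _ ⟨q, hq, rfl⟩
      obtain ⟨k, -, hk⟩ := hlift _ hq
      exact ⟨k, congrArg π3 (Subtype.ext hk)⟩
    exact fun q => hle (mem_top q)
  · intro k hk
    have hkK := hK0
    have e2 : f2 k ∈ center ↥(closure (perp (descSet (descSet D d) (QuotientGroup.mk y : ↥(closure (perp D d)) ⧸ center ↥(closure (perp D d)))) z2)) := (QuotientGroup.eq_one_iff _).1 hk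
    rw [hQ2.center_closure_perp hz2, mem_subgroupOf] at e2
    have cyz : Commute (y : G) z := hz0.2.2.2
    have cdy : Commute d (y : G) := hy.2.2
    have cdz : Commute d z := hz0.1.2.2
    have yy := sq_eq_one hE hy.1
    have zz := sq_eq_one hE hz0.1.1
    have dd := sq_eq_one hE hd
    have step1 : ∀ k' : ↥K, π2 (f1 k') = 1 → (k' : G) ∈ [1, d, (y : G), d * y] := fun k' hk' => by
      have e1 : f1 k' ∈ center ↥(closure (perp (descSet D d) (QuotientGroup.mk y : ↥(closure (perp D d)) ⧸ center ↥(closure (perp D d))))) := (QuotientGroup.eq_one_iff _).1 hk'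
      rw [hQ.solid.center_closure_perp hy1, mem_subgroupOf] at e1
      have step0 : ∀ u : ↥(closure (perp D d)), π1 u = 1 → (u : G) = 1 ∨ (u : G) = d := fun u hu => by
        have e0 : u ∈ center ↥(closure (perp D d)) := (QuotientGroup.eq_one_iff _).1 hu
        rw [h.solid.center_closure_perp hd, mem_subgroupOf] at e0
        exact eq_one_or_eq_of_mem_zpowers dd e0
      rcases eq_one_or_eq_of_mem_zpowers (sq_eq_one hcls1.1 hy1) e1 with e | e
      · rcases step0 _ e with e' | e' <;> simp [show ((ι k' : ↥(closure (perp D d))) : G) = (k' : G) from rfl] at e' <;> simp [e']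
      · have hu : π1 (ι k' * y) = 1 := by
          rw [map_mul, show π1 y = (QuotientGroup.mk y : ↥(closure (perp D d)) ⧸ center ↥(closure (perp D d))) from rfl, show π1 (ι k') = (QuotientGroup.mk y : ↥(closure (perp D d)) ⧸ center ↥(closure (perp D d))) from e, sq_eq_one hcls1.1 hy1]
        rcases step0 _ hu with e' | e'
        · have : (k' : G) = y := by
            have e'' : (k' : G) * y = 1 := e'
            rw [eq_inv_of_mul_eq_one_left e'', inv_eq hE hy.1]
          simp [this]
        · have : (k' : G) = d * y := by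
            have e'' : (k' : G) * y = d := e'
            calc (k' : G) = (k' : G) * y * y := by rw [mul_assoc, yy, mul_one]
              _ = d * y := by rw [e'']
          simp [this]
    rcases eq_one_or_eq_of_mem_zpowers (sq_eq_one hcls2.1 hz2) e2 with e | e
    · have := step1 k e
      simp only [List.mem_cons, List.not_mem_nil, or_false] at this
      rcases this with e' | e' | e' | e' <;> simp [eight, e']
    · let zK : ↥K := ⟨z, subset_closure (Or.inl (Or.inr (Or.inr rfl)))⟩
      have hz' : π2 (f1 zK) = z2 := by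
        rw [show f1 zK = z1 from Subtype.ext (by rw [hf1v, show ι zK = z0 from Subtype.ext rfl]; exact hz0e)]
        exact hz1e
      have hu : π2 (f1 (k * zK)) = 1 := by
        rw [map_mul, map_mul, hz', show π2 (f1 k) = z2 from e, sq_eq_one hcls2.1 hz2]
      have := step1 _ hu
      simp only [List.mem_cons, List.not_mem_nil, or_false] at this
      have key : ∀ w : G, (k : G) * z = w → (k : G) = w * z := fun w hw => by rw [← hw, mul_assoc, zz, mul_one]
      rcases this with e' | e' | e' | e' <;> have := key _ e' <;> simp [eight, this]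
  · obtain ⟨k, hk, e, -⟩ := hmspec v hv0 hv
    rw [e]; exact hk
  · obtain ⟨k, hk, e, a, ha, hva⟩ := hmspec v hv0 hv
    rw [show x = k from Subtype.ext (hx.trans e), himgv k hk]
    exact ((hM.six.tv_image_eq_iff π hM.ker hv _ hv0).2 ⟨a, ha, hva⟩).symm
  · rw [himgv x hx, himgv x' hx'] at e
    obtain ⟨a, -, hva⟩ := (hM.six.tv_image_eq_iff π hM.ker _ _ (hM.vec_ne _ (hpt x hx))).1 e
    exact hinj x x' hx hx' (hM.eq_of_prop hQ2 hz2 (hpt x hx) (hpt x' hx') hva)
  · let k : ↥K := ⟨x, subset_closure (Or.inr hx)⟩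
    refine ⟨vec (f2 k : ↥(closure (perp (descSet D d) (QuotientGroup.mk y : ↥(closure (perp D d)) ⧸ center ↥(closure (perp D d))))) ⧸ center ↥(closure (perp (descSet D d) (QuotientGroup.mk y : ↥(closure (perp D d)) ⧸ center ↥(closure (perp D d)))))), hM.vec_ne _ (hpt k hx), hM.vec_iso _ (hpt k hx), ?_⟩
    obtain ⟨k', hk', e, a, -, hva⟩ := hmspec _ (hM.vec_ne _ (hpt k hx)) (hM.vec_iso _ (hpt k hx))
    rw [e, ← hinj k k' hx hk' (hM.eq_of_prop hQ2 hz2 (hpt k hx) (hpt k' hk') hva)]
  · obtain ⟨k, hk, e, a, ha, hva⟩ := hmspec v hv0 hv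
    obtain ⟨k', hk', e', b, hb, hwb⟩ := hmspec w hw0 hw
    rw [e, e', hva, hwb, H.smul_left, H.smul_right]
    have hkey : Commute (k : G) k' ↔ H.h (vec (f2 k : ↥(closure (perp (descSet D d) (QuotientGroup.mk y : ↥(closure (perp D d)) ⧸ center ↥(closure (perp D d))))) ⧸ center ↥(closure (perp (descSet D d) (QuotientGroup.mk y : ↥(closure (perp D d)) ⧸ center ↥(closure (perp D d))))))) (vec (f2 k' : ↥(closure (perp (descSet D d) (QuotientGroup.mk y : ↥(closure (perp D d)) ⧸ center ↥(closure (perp D d))))) ⧸ center ↥(closure (perp (descSet D d) (QuotientGroup.mk y : ↥(closure (perp D d)) ⧸ center ↥(closure (perp D d))))))) = 0 := by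
      rw [← hM.comm_iff hQ2 hz2 (hpt k hk) (hpt k' hk'), hf2v, hf2v]
      exact (desc_commute_iff hcls hT hd (x := ι k) (y := ι k') hk.1.1 hk'.1.1).symm.trans
        (desc_commute_iff hcls1 hT1 hy1 (x := f1 k) (y := f1 k') (htri1 _ hk).1 (htri1 _ hk').1).symm
    rw [hkey]
    simp [ha, hb]

end Cfsg.Lib.ThreeTr
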